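import Groth.Agent.Pi1C.LefEmb

/-!
# The non-vanishing locus of a section of an ample module on a proper scheme over a ring is affine
-/

set_option autoImplicit false
universe u
open CategoryTheory CategoryTheory.Limits AlgebraicGeometry TopologicalSpace Opposite
open Groth.Agent.Fdesc.LocGen
open Groth.Agent.VarietyB Groth.Agent.VarietyB.ProjGlue Groth.Agent.VarietyB.ProjStd Groth.Agent.VarietyB.Segre
open Groth.Agent.Ega2
open Groth.Agent Groth.Agent.Pi1C.LefEmb Groth.Agent.Pi1C

namespace K899.GenAff

attribute [local instance] MvPolynomial.gradedAlgebra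

variable {X : Scheme.{u}} {R : Type u} [CommRing R]

theorem exists_isClosedData (p : X ⟶ Spec (CommRingCat.of R)) [IsProper p] {L : X.Modules} (hL : CohB1.IsAmple L)
    (s : Coh.structureModule X ⟶ L) :
    ∃ (r : ℕ) (D : CoordData X (Fin (r + 1))) (_ : IsClosedData D p),
      D.U 0 = CohB1.genLocus L s := by
  classical
  have hinv := hL.1
  have hqs : QuasiSeparatedSpace X := quasiSeparatedSpace_of_quasiSeparated p
  have hft : ∀ U : X.Opens, IsAffineOpen U → ∃ S : Set Γ(X, U), S.Finite ∧
      Subring.closure (S ∪ Set.range (CoordData.baseHom p U)) = ⊤ := by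
    intro U hU
    have h1 : (p.appLE ⊤ U le_top).hom.FiniteType :=
      LocallyOfFiniteType.finiteType_appLE p (isAffineOpen_top _) hU le_top
    have h2 : (CoordData.baseHom p U).FiniteType := by
      have h3 : CoordData.baseHom p U = (p.appLE ⊤ U le_top).hom.comp
          (Scheme.ΓSpecIso (CommRingCat.of R)).inv.hom := by
        rw [CoordData.baseHom, ← RingHom.comp_assoc]
        rfl
      rw [h3]
      refine h1.comp (RingHom.FiniteType.of_surjective _ ?_)
      exact (Scheme.ΓSpecIso (CommRingCat.of R)).symm.commRingCatIsoToRingEquiv.surjective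
    algebraize [CoordData.baseHom p U]
    obtain ⟨S, hS⟩ := (inferInstance : Algebra.FiniteType R Γ(X, U)).out
    refine ⟨S, S.finite_toSet, ?_⟩
    have h3 := Algebra.adjoin_eq_ring_closure (R := R) (S : Set Γ(X, U))
    rw [hS, Set.union_comm] at h3
    exact h3.symm
  choose! C hCfin hCgen using hft
  obtain ⟨ι, hι, U, hUcov, hUaff, n₀, hn₀⟩ := AmpleSec.exists_ample_sections hL C hCfin
  choose v hv w hw using hn₀ (n₀ + 1) (Nat.le_succ _)
  have hfin : ∀ i, Finite (C (U i)) := fun i => (hCfin (U i) (hUaff i))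
  let J := Option (Σ i : ι, Option (C (U i)))
  let t : J → (Coh.structureModule X ⟶ CohB1.tensorPow L (n₀ + 1)) := fun j =>
    match j with
    | none => powHom s (n₀ + 1)
    | some ⟨i, none⟩ => v i
    | some ⟨i, some c⟩ => w i c c.2
  -- reindex
  obtain ⟨r, e, he⟩ : ∃ (r : ℕ) (e : J ≃ Fin (r + 1)), e none = 0 := by
    obtain ⟨N, ⟨e⟩⟩ := Finite.exists_equiv_fin J
    obtain ⟨r, rfl⟩ : ∃ n, N = n + 1 := by
      rcases N with _ | n
      · exact (IsEmpty.false (e none)).elim
      · exact ⟨n, rfl⟩
    exact ⟨r, e.trans (Equiv.swap (e none) 0), by simp⟩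
  let t' : Fin (r + 1) → (Coh.structureModule X ⟶ CohB1.tensorPow L (n₀ + 1)) := fun j => t (e.symm j)
  have hgl : ∀ i, CohB1.genLocus _ (t' (e (some ⟨i, none⟩))) = U i := by
    intro i
    change CohB1.genLocus _ (t (e.symm (e (some ⟨i, none⟩)))) = _
    rw [e.symm_apply_apply]
    exact hv i
  have hcov : ⨆ j, CohB1.genLocus _ (t' j) = ⊤ := by
    rw [eq_top_iff, ← hUcov]
    exact iSup_le fun i => le_iSup_of_le (f := fun j => CohB1.genLocus _ (t' j)) (e (some ⟨i, none⟩)) (hgl i).ge
  let D : CoordData X (Fin (r + 1)) := PnMap.coordData t' hcov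
  have hDb : ∀ i k, X.basicOpen (D.f i k) = D.U i ⊓ D.U k := fun i k => PnMap.basicOpen_ratio t' i k
  have hD : IsClosedData D p := by
    refine isClosedData_of_proper D p hDb (Set.range fun i : ι => e (some ⟨i, none⟩)) ?_ ?_ ?_
    · rw [eq_top_iff, ← hUcov]
      refine iSup_le fun i => le_iSup_of_le
        (f := fun j : (Set.range fun i : ι => e (some ⟨i, none⟩)) => D.U j) ⟨e (some ⟨i, none⟩), i, rfl⟩ ?_
      exact (hgl i).ge
    · rintro ⟨_, i, rfl⟩
      change IsAffineOpen (CohB1.genLocus _ (t' (e (some ⟨i, none⟩))))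
      rw [hgl]
      exact hUaff i
    · rintro ⟨_, i, rfl⟩
      have hcl : Subring.closure ((D.hom p (e (some ⟨i, none⟩))).range : Set Γ(X, D.U (e (some ⟨i, none⟩)))) = ⊤ := by
        refine VeryAmpleCrit.closure_eq_top_of_le (U := U i) (W := D.U (e (some ⟨i, none⟩))) (hgl i) _
          (hCgen (U i) (hUaff i)) _ ?_
        rintro a (ha | ⟨r, rfl⟩)
        · refine Subring.subset_closure ⟨MvPolynomial.X (e (some ⟨i, some ⟨a, ha⟩⟩)), ?_⟩
          rw [CoordData.hom_X]
          change PnMap.ratio t' _ _ = _
          apply (isGen_sec_genLocus (t' (e (some ⟨i, none⟩)))).ext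
          rw [← PnMap.ratio_spec]
          have h1 : t' (e (some ⟨i, some ⟨a, ha⟩⟩)) = w i a ha := by
            change t (e.symm (e (some ⟨i, some ⟨a, ha⟩⟩))) = _
            rw [e.symm_apply_apply]
          have h2 : t' (e (some ⟨i, none⟩)) = v i := by
            change t (e.symm (e (some ⟨i, none⟩))) = _
            rw [e.symm_apply_apply]
          have h3 := hw i a ha
          have h4 : CohB1.genLocus _ (t' (e (some ⟨i, none⟩))) ≤ U i := (hgl i).le
          have h5 := congrArg (fun z => sec z (CohB1.genLocus _ (t' (e (some ⟨i, none⟩))))) h1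
          have h6 := congrArg (fun z => sec z (CohB1.genLocus _ (t' (e (some ⟨i, none⟩))))) h2
          refine h5.trans (Eq.trans ?_ (congrArg (fun z => ores h4 a • z) h6).symm)
          rw [← res_sec (w i a ha) h4, h3, res_smul, res_sec]
        · refine Subring.subset_closure ⟨MvPolynomial.C r, ?_⟩
          have h2 : D.hom p (e (some ⟨i, none⟩)) (MvPolynomial.C r) =
              CoordData.baseHom p (D.U (e (some ⟨i, none⟩))) r := by
            simp only [CoordData.hom, MvPolynomial.eval₂Hom_C]
          rw [h2]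
          exact (congr($(CoordData.baseHom_map p (hgl i).le) r)).symm
      rw [Subring.closure_eq] at hcl
      intro y
      have hy : y ∈ (D.hom p (e (some ⟨i, none⟩))).range := by rw [hcl]; trivial
      exact hy
  have ht0 : t' 0 = powHom s (n₀ + 1) := by
    change t (e.symm 0) = _
    rw [← he, e.symm_apply_apply]
  refine ⟨r, D, hD, ?_⟩
  change CohB1.genLocus _ (t' 0) = _
  rw [ht0, genLocus_powHom hinv]

/-- On a proper scheme over a ring the non-vanishing locus of a section of an ample module is affine. -/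
theorem isAffineOpen_genLocus (p : X ⟶ Spec (CommRingCat.of R)) [IsProper p] {L : X.Modules}
    (hL : CohB1.IsAmple L) (s : Coh.structureModule X ⟶ L) : IsAffineOpen (CohB1.genLocus L s) := by
  obtain ⟨r, D, hD, h⟩ := exists_isClosedData p hL s
  rw [← h]
  exact hD.affine 0

end K899.GenAff
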