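import Groth.Agent.Models.H54.FibreAmple
import Groth.Agent.S1495
import Groth.Agent.S4373
import Groth.Agent.S1529
import Groth.Agent.CurvSt.K899.GenAff
import Groth.Agent.Dix.Cast5
import Groth.Agent.Ega2.AmpleTransfer

/-!
# The complement of a divisor meeting every curve of a fibre is affine near the fibre

* `isAmple_pullback`: for a proper scheme `Z` of dimension at most one over a field and `j : Z ⟶ X`, the inverse of the ideal
  of an effective Cartier divisor of `X` is ample on `Z` if the divisor meets every one-dimensional component of `Z` properly.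
* `exists_nhd`: for a proper morphism `f : Z ⟶ T` and an effective Cartier divisor `D` of `Z` meeting every
  one-dimensional component of the fibre over `t` properly, the complement of `D` is affine over the affine opens of a
  neighbourhood of `t`.
-/

set_option autoImplicit false
universe u
open CategoryTheory CategoryTheory.Limits AlgebraicGeometry TopologicalSpace

namespace K899.DivAmple

open Groth.Agent.CurvesC.CompGeom Groth.Agent.CurvesC.NodalPos

theorem dim_IC (Z : Scheme.{u}) (C : Set Z) (hC : C ∈ irreducibleComponents (Z : Type u)) :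
    topologicalKrullDim (IC Z C hC).subscheme = topologicalKrullDim C := by
  have h := (IC Z C hC).subschemeι.isEmbedding.toHomeomorph.isHomeomorph.topologicalKrullDim_eq
  rw [h, range_C]

theorem le_zero_of {a : WithBot ℕ∞} (h : a ≤ 1) (h' : a ≠ 1) : a ≤ 0 := by
  have h1 : a < 1 := lt_of_le_of_ne h h'
  induction a using WithBot.recBotCoe with
  | bot => exact bot_le
  | coe a =>
    have h2 : a < 1 := by exact_mod_cast h1
    have h3 : a ≤ 0 := by
      rw [Order.lt_one_iff] at h2
      exact h2.le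
    exact_mod_cast h3

theorem isAmple_pullback (k : Type u) [Field k] {X Z : Scheme.{u}} [Z.Over (Spec (CommRingCat.of k))]
    [IsProper (Z ↘ Spec (CommRingCat.of k))] (hdim : topologicalKrullDim Z ≤ 1) (j : Z ⟶ X)
    {D : X.IdealSheafData} (hD : BlowUp.IsEffCartierIdeal D)
    (h : ∀ C ∈ irreducibleComponents (Z : Type u), topologicalKrullDim C = 1 →
      (∃ y ∈ C, j y ∉ D.support) ∧ ∃ y ∈ C, j y ∈ D.support)
    {L : X.Modules} (hLi : PicF.IsInvertible L) (hL : ClSub.IsInverseOf L (ClSub.idealMod D)) :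
    CohB1.IsAmple ((Scheme.Modules.pullback j).obj L) := by
  refine Groth.Agent.CurvesC.AmpleComp.isAmple_of_components k Z _
    (Groth.Agent.Fdesc.LocGen.isInvertible_pullback j hLi) (fun C hC => ?_)
  let _ := overC k Z C hC
  have hP' : IsProper ((IC Z C hC).subscheme ↘ (Spec (CommRingCat.of k))) :=
    inferInstanceAs (IsProper (gC k Z C hC))
  have hinv : PicF.IsInvertible ((Scheme.Modules.pullback (IC Z C hC).subschemeι).obj
      ((Scheme.Modules.pullback j).obj L)) :=
    Groth.Agent.Fdesc.LocGen.isInvertible_pullback _ (Groth.Agent.Fdesc.LocGen.isInvertible_pullback j hLi)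
  by_cases hd : topologicalKrullDim (IC Z C hC).subscheme = 1
  · rw [Groth.Agent.S1530.result k _ hd _ hinv]
    refine lt_of_lt_of_eq ?_ (Groth.Agent.Dix.InterNum.deg_congr k _ hd
      ((Scheme.Modules.pullbackComp (IC Z C hC).subschemeι j).app L)).symm
    obtain ⟨⟨y, hyC, hy⟩, z, hzC, hz⟩ := h C hC ((dim_IC Z C hC).symm.trans hd)
    obtain ⟨z', hz'⟩ : z ∈ Set.range (IC Z C hC).subschemeι := by rw [range_C]; exact hzC
    refine Groth.Agent.Models.H54.PosDeg.deg_pos k hd ((IC Z C hC).subschemeι ≫ j) hD ?_ z' ?_ L hL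
    · intro hg
      refine hy ?_
      have h1 : y ∈ closure {(IC Z C hC).subschemeι (genericPoint (IC Z C hC).subscheme)} := by
        rw [Groth.Agent.Models.H54.FibreAmple.closure_gen]; exact hyC
      have h2 := (specializes_iff_mem_closure.2 h1).map j.continuous
      exact h2.mem_closed D.support.isClosed hg
    · rw [Scheme.Hom.comp_apply, hz']; exact hz
  · have h0 : topologicalKrullDim (IC Z C hC).subscheme ≤ 0 := le_zero_of (dim_C_le Z C hC hdim) hd
    have h1 : IsAffine (IC Z C hC).subscheme := (Groth.Agent.S1529.result k (IC Z C hC).subscheme h0).1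
    exact Groth.Agent.S4373.result _ _ hinv

theorem iso_of_isInverseOf {X : Scheme.{u}} {L L' M : X.Modules} (hM : PicF.IsInvertible M)
    (hL : PicF.IsInvertible L) (hL' : PicF.IsInvertible L') (h : ClSub.IsInverseOf L M)
    (h' : ClSub.IsInverseOf L' M) : Nonempty (L ≅ L') := by
  obtain ⟨e⟩ := h
  obtain ⟨e'⟩ := h'
  have h1 : Groth.Agent.Grpsch.PicGrp.mk L hL * Groth.Agent.Grpsch.PicGrp.mk M hM = 1 :=
    Groth.Agent.Grpsch.PicGrp.mk_congr e
  have h2 : Groth.Agent.Grpsch.PicGrp.mk L' hL' * Groth.Agent.Grpsch.PicGrp.mk M hM = 1 :=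
    Groth.Agent.Grpsch.PicGrp.mk_congr e'
  exact (Groth.Agent.Grpsch.PicGrp.mk_eq_iff hL hL').1 (mul_right_cancel (h1.trans h2.symm))

/-- An invertible inverse of the ideal of an effective Cartier divisor. -/
theorem exists_inverse {X : Scheme.{u}} {D : X.IdealSheafData} (hD : BlowUp.IsEffCartierIdeal D) :
    ∃ L : X.Modules, PicF.IsInvertible L ∧ ClSub.IsInverseOf L (ClSub.idealMod D) := by
  obtain ⟨N, hN1, ⟨e⟩⟩ := Groth.Agent.Grpsch.PicGrp.exists_inverse
    (Groth.Agent.Dix.IdealModCartier.isInvertible_idealMod hD)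
  exact ⟨N, hN1, ⟨Groth.Agent.Ega2.Tens.swap _ _ ≪≫ e⟩⟩

/-- The canonical section. -/
theorem exists_section {X : Scheme.{u}} {D : X.IdealSheafData} (hD : BlowUp.IsEffCartierIdeal D) :
    ∃ s : Coh.structureModule X ⟶ Groth.Agent.Grpsch.PicGrp.dual (ClSub.idealMod D),
      (CohB1.genLocus _ s : Set X) = (D.support : Set X)ᶜ := by
  have hk : D.subschemeι.ker = D := Scheme.IdealSheafData.ker_subschemeι D
  have h := Groth.Agent.Dix.Cast5.exists_section D.subschemeι (by rw [hk]; exact hD)
  rw [Scheme.IdealSheafData.range_subschemeι, hk] at h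
  exact h

/-- The complement of an ample effective Cartier divisor on a proper scheme over a ring is affine. -/
theorem isAffineOpen_compl {R : Type u} [CommRing R] {X : Scheme.{u}} (p : X ⟶ Spec (CommRingCat.of R))
    [IsProper p] {D : X.IdealSheafData} (hD : BlowUp.IsEffCartierIdeal D) {L : X.Modules}
    (hL : CohB1.IsAmple L) (hLD : ClSub.IsInverseOf L (ClSub.idealMod D)) :
    IsAffineOpen D.support.compl := by
  obtain ⟨s, hs⟩ := exists_section hD
  have hI := Groth.Agent.Dix.IdealModCartier.isInvertible_idealMod hD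
  have hd : ClSub.IsInverseOf (Groth.Agent.Grpsch.PicGrp.dual (ClSub.idealMod D)) (ClSub.idealMod D) :=
    ⟨Groth.Agent.Ega2.Tens.swap _ _ ≪≫
      (@asIso _ _ _ _ (Groth.Agent.Grpsch.PicGrp.ev (ClSub.idealMod D)) (Groth.Agent.Grpsch.PicGrp.isIso_ev hI))⟩
  obtain ⟨e⟩ := iso_of_isInverseOf hI hL.1 (Groth.Agent.Grpsch.PicGrp.isInvertible_dual hI) hLD hd
  have h1 := GenAff.isAffineOpen_genLocus p (Groth.Agent.Flat2H.FamDict.isAmple_of_iso e hL) s
  have h2 : CohB1.genLocus (Groth.Agent.Grpsch.PicGrp.dual (ClSub.idealMod D)) s = D.support.compl :=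
    TopologicalSpace.Opens.ext hs
  rwa [h2] at h1

/-- Restriction of ampleness of the inverse of an effective Cartier divisor to an open over an affine base: the complement
is affine. -/
theorem isAffineOpen_inf_compl {Z T : Scheme.{u}} (f : Z ⟶ T) [IsProper f] {D : Z.IdealSheafData}
    (hD : BlowUp.IsEffCartierIdeal D) {L : Z.Modules}
    (hLD : ClSub.IsInverseOf L (ClSub.idealMod D)) (W : T.Opens) (hW : IsAffineOpen W)
    (hamp : CohB1.IsAmple (L.restrict (f ⁻¹ᵁ W).ι)) : IsAffineOpen (f ⁻¹ᵁ W ⊓ D.support.compl) := by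
  have hD' : BlowUp.IsEffCartierIdeal (D.comap (f ⁻¹ᵁ W).ι) :=
    Groth.Agent.Divis.EffCartier.isEff_comap_flat hD _
  obtain ⟨e⟩ := Groth.Agent.Dix.IdealModCartier.pullback_idealMod (f ⁻¹ᵁ W).ι hD hD'
  have hinv' : ClSub.IsInverseOf ((Scheme.Modules.pullback (f ⁻¹ᵁ W).ι).obj L)
      (ClSub.idealMod (D.comap (f ⁻¹ᵁ W).ι)) :=
    Groth.Agent.Dix.InterSurf.isInverseOf_congr (Groth.Agent.Dix.InterSurf.isInverseOf_pullback _ hLD) e
  have hamp' : CohB1.IsAmple ((Scheme.Modules.pullback (f ⁻¹ᵁ W).ι).obj L) :=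
    Groth.Agent.Flat2H.FamDict.isAmple_of_iso
      ((Scheme.Modules.restrictFunctorIsoPullback (f ⁻¹ᵁ W).ι).app L) hamp
  have hWa : IsAffine W.toScheme := hW
  let p : (f ⁻¹ᵁ W).toScheme ⟶ Spec (CommRingCat.of Γ(T, W)) := (f ∣_ W) ≫ hW.isoSpec.hom
  have hp : IsProper p := inferInstanceAs (IsProper ((f ∣_ W) ≫ hW.isoSpec.hom))
  have h1 := (isAffineOpen_compl p hD' hamp' hinv').image_of_isOpenImmersion (f ⁻¹ᵁ W).ι
  have h2 : (f ⁻¹ᵁ W).ι ''ᵁ (D.comap (f ⁻¹ᵁ W).ι).support.compl = f ⁻¹ᵁ W ⊓ D.support.compl := by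
    ext x
    constructor
    · rintro ⟨y, hy, rfl⟩
      refine ⟨y.2, fun h => hy ?_⟩
      rw [Scheme.IdealSheafData.support_comap]
      exact h
    · rintro ⟨hx, hx'⟩
      refine ⟨⟨x, hx⟩, fun h => hx' ?_, rfl⟩
      rw [Scheme.IdealSheafData.support_comap] at h
      exact h
  rwa [h2] at h1

/-- The complement of a divisor meeting every one-dimensional component of a fibre properly and non-trivially is
affine near the fibre. -/
theorem exists_nhd {Z T : Scheme.{u}} [IsAffine T] (f : Z ⟶ T) [IsProper f] {D : Z.IdealSheafData}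
    (hD : BlowUp.IsEffCartierIdeal D) (t : T) (hdim : topologicalKrullDim (f.fiber t) ≤ 1)
    (h : ∀ C ∈ irreducibleComponents (f.fiber t : Type u), topologicalKrullDim C = 1 →
      (∃ y ∈ C, f.fiberι t y ∉ D.support) ∧ ∃ y ∈ C, f.fiberι t y ∈ D.support) :
    ∃ V : T.Opens, t ∈ V ∧ ∀ W : T.Opens, W ≤ V → IsAffineOpen W →
      IsAffineOpen (f ⁻¹ᵁ W ⊓ D.support.compl) ∧ ∃ L : (f ⁻¹ᵁ W).toScheme.Modules, CohB1.IsAmple L := by
  obtain ⟨L, hLi, hLD⟩ := exists_inverse hD
  let _ : (f.fiber t).Over (Spec (CommRingCat.of (T.residueField t))) := ⟨f.fiberToSpecResidueField t⟩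
  have h3 : IsProper ((f.fiber t) ↘ (Spec (CommRingCat.of (T.residueField t)))) :=
    inferInstanceAs (IsProper (pullback.snd f (T.fromSpecResidueField t)))
  have hamp := isAmple_pullback (T.residueField t) hdim (f.fiberι t) hD h hLi hLD
  obtain ⟨V, hV, hVW⟩ := Groth.Agent.S1495.affine f L hLi t hamp
  refine ⟨V, hV, fun W hWV hW => ⟨?_, _, hVW W hWV hW⟩⟩
  exact isAffineOpen_inf_compl f hD hLD W hW (hVW W hWV hW)

end K899.DivAmple
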