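import Groth.Agent.CurvSt.K899.SpPt
import Groth.Agent.AlgSp.K610.SchLocus
import Groth.Agent.AlgSp.K617.FinLoc

/-!
# Open subspaces with affine preimage under a finite surjection, and Chevalley's theorem
-/

set_option autoImplicit false
universe u
open CategoryTheory CategoryTheory.Limits AlgebraicGeometry TopologicalSpace

namespace K899.FinalSp

open AlgSp K610.Base K610.Sub K610.SchLocus

attribute [local instance] MorphismProperty.relative_isStableUnderBaseChange

/-- Chevalley's theorem for algebraic spaces over `S` (the statement S10043). -/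
def Chevalley (S : Scheme.{u}) : Prop :=
  ∀ {X Y : AlgSp.Space S} (f : X ⟶ Y), AlgSp.IsFiniteMor f.hom → AlgSp.IsSurjectiveMor f.hom →
    (∃ (T : Over S), IsAffine T.left ∧ Nonempty ((AlgSp.yon S).obj T ≅ X.obj)) →
    ∃ (T : Over S), IsAffine T.left ∧ Nonempty ((AlgSp.yon S).obj T ≅ Y.obj)

variable {S : Scheme.{u}} {X : Space S} {B Z R : Over S}

theorem isClosedMap_ofPt {X : Sp S} {z : (yon S).obj Z ⟶ X} (hz : RepWith @IsFinite z) :
    IsClosedMap (Points.ofPt z) := by
  intro C hC
  rw [← isOpen_compl_iff, Points.isOpen_iff]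
  intro T g
  obtain ⟨W, q, φ, sq⟩ := SpPt.exists_square g z hz.1
  have h3 : IsFinite q.left := ChartW.isFinite_q sq hz
  rw [Set.preimage_compl, preimage_image_ofPt sq.flip C]
  refine (q.left.isClosedMap _ ?_).isOpen_compl
  exact hC.preimage (Scheme.Hom.continuous _)

/-- a saturated open subset with affine preimage is affine -/
theorem isSch_of_affine (hCh : Chevalley S) {z : (yon S).obj Z ⟶ X.obj} (hz : RepWith @IsFinite z)
    (hzs : Function.Surjective (Points.ofPt z)) (A : Z.left.Opens) (hA : IsAffineOpen A)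
    (hsat : ∀ y y', Points.ofPt z y = Points.ofPt z y' → y ∈ A → y' ∈ A) :
    IsSch X.obj (Points.ofPt z '' (A : Set Z.left)) := by
  have hO : IsOpen (Points.ofPt z '' (A : Set Z.left)) := by
    have h1 : Points.ofPt z '' (A : Set Z.left) = (Points.ofPt z '' (A : Set Z.left)ᶜ)ᶜ := by
      ext x
      constructor
      · rintro ⟨y, hy, rfl⟩ ⟨y', hy', h⟩
        exact hy' (hsat y y' h.symm hy)
      · intro hx
        obtain ⟨y, rfl⟩ := hzs x
        by_contra hcon
        exact hx ⟨y, fun hy => hcon ⟨y, hy, rfl⟩, rfl⟩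
    rw [h1]
    exact (isClosedMap_ofPt hz _ A.isOpen.isClosed_compl).isOpen_compl
  obtain ⟨X', j, hj, hran⟩ := exists_open_subspace X _ hO
  rw [← hran, isSch_iff hj]
  obtain ⟨V, snd, fst, sq⟩ := hj.1 z
  have hsnd : IsOpenImmersion snd.left := hj.2 _ _ _ sq
  have hV : IsAffine V.left := by
    have h1 : snd.left.opensRange = A := by
      ext y
      constructor
      · rintro ⟨v, rfl⟩
        have h2 : Points.ofPt z (snd.left v) ∈ Set.range (Points.map j.hom) := by
          rw [← ofPt_map_comp, ← sq.w, ofPt_comp]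
          exact ⟨_, rfl⟩
        rw [hran] at h2
        obtain ⟨y, hy, h⟩ := h2
        exact hsat y _ h hy
      · intro hy
        have h2 : Points.ofPt z y ∈ Set.range (Points.map j.hom) := by
          rw [hran]
          exact ⟨y, hy, rfl⟩
        obtain ⟨x, hx⟩ := h2
        obtain ⟨v, -, hv⟩ := exists_of_isPullback_yon sq x y hx
        exact ⟨v, hv⟩
    have h2 : IsAffineOpen snd.left.opensRange := by rw [h1]; exact hA
    have h3 : IsAffine (snd.left.opensRange : Scheme.{u}) := h2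
    exact IsAffine.of_isIso snd.left.isoOpensRange.hom
  have hfst : RepWith @IsFinite fst :=
    MorphismProperty.of_isPullback (P := RepWith @IsFinite) sq.flip hz
  have hfs : IsSurjectiveMor fst := by
    intro x
    obtain ⟨y, hy⟩ := hzs (Points.map j.hom x)
    obtain ⟨v, hv, -⟩ := exists_of_isPullback_yon sq x y hy.symm
    exact ⟨Points.ofScheme V v, (Points.ofPt_eq_map_ofScheme fst v).symm.trans hv⟩
  let Y : Space S := ⟨(yon S).obj V, IsAlgSpace.yon_obj _⟩
  let f' : Y ⟶ X' := ⟨fst⟩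
  obtain ⟨T, -, ⟨e⟩⟩ := hCh f' (K617.FinLoc.isFiniteMor_iff.2 hfst) hfs ⟨V, hV, ⟨Iso.refl _⟩⟩
  exact K610.ZarGlue.isRepresentable_iff.2 ⟨T, ⟨e⟩⟩

theorem isRepresentable (hCh : Chevalley S) {z : (yon S).obj Z ⟶ X.obj} (hz : RepWith @IsFinite z)
    (hzs : Function.Surjective (Points.ofPt z)) (A1 A2 : Z.left.Opens) (hA1 : IsAffineOpen A1)
    (hA2 : IsAffineOpen A2) (h1 : ∀ y y', Points.ofPt z y = Points.ofPt z y' → y ∈ A1 → y' ∈ A1)
    (h2 : ∀ y y', Points.ofPt z y = Points.ofPt z y' → y ∈ A2 → y' ∈ A2) (hA : ∀ y, y ∈ A1 ∨ y ∈ A2) :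
    X.obj.obj.IsRepresentable := by
  rw [isRepresentable_iff_forall]
  intro x
  obtain ⟨y, rfl⟩ := hzs x
  rcases hA y with hy | hy
  · exact ⟨_, isSch_of_affine hCh hz hzs A1 hA1 h1, y, hy, rfl⟩
  · exact ⟨_, isSch_of_affine hCh hz hzs A2 hA2 h2, y, hy, rfl⟩

end K899.FinalSp
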