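import Groth.Prelude.Def_AlgSt3

/-!
# Criteria for equivalences over the base (any universe pairs)
-/

set_option autoImplicit false
set_option backward.isDefEq.respectTransparency false
set_option backward.isDefEq.respectTransparency.types false

universe v₅ u₅ v₄ u₄ v₃ u₃ v₂ u₂ v u

open CategoryTheory CategoryTheory.Limits

namespace K899.EquivOver

variable {C : Type u} [Category.{v} C]

section crit

variable {𝒳 : BasedCategory.{v₂, u₂} C} {𝒴 : BasedCategory.{v₃, u₃} C} (F : 𝒳 ⥤ᵇ 𝒴)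

theorem eq_of_lift {y : 𝒴.obj} {x : 𝒳.obj} (e : F.obj x ≅ y)
    (he : 𝒴.p.IsHomLift (𝟙 (𝒴.p.obj y)) e.hom) : 𝒳.p.obj x = 𝒴.p.obj y :=
  (F.w_obj x).symm.trans (IsHomLift.domain_eq 𝒴.p (𝟙 (𝒴.p.obj y)) e.hom)

theorem map_of_lift {y : 𝒴.obj} {x : 𝒳.obj} (e : F.obj x ≅ y)
    (he : 𝒴.p.IsHomLift (𝟙 (𝒴.p.obj y)) e.hom) :
    𝒴.p.map e.hom = eqToHom (IsHomLift.domain_eq 𝒴.p (𝟙 (𝒴.p.obj y)) e.hom) := by
  have := IsHomLift.fac' 𝒴.p (𝟙 (𝒴.p.obj y)) e.hom
  simpa using this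

/-- A fully faithful functor over `C` which is essentially surjective over identities is an equivalence over `C`. -/
theorem isEquivOver_of_fullyFaithful (hF : F.toFunctor.Full) (hF' : F.toFunctor.Faithful)
    (h : ∀ y : 𝒴.obj, ∃ (x : 𝒳.obj) (e : F.obj x ≅ y), 𝒴.p.IsHomLift (𝟙 (𝒴.p.obj y)) e.hom) :
    FibCat.IsEquivOver F := by
  choose g e he using h
  have hp : ∀ y, 𝒳.p.obj (g y) = 𝒴.p.obj y := fun y => eq_of_lift F (e y) (he y)
  let G : 𝒴 ⥤ᵇ 𝒳 :=
    { toFunctor :=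
        { obj := g
          map := fun {y y'} φ => F.toFunctor.preimage ((e y).hom ≫ φ ≫ (e y').inv)
          map_id := fun y => F.toFunctor.map_injective (by simp)
          map_comp := fun {y y' y''} φ ψ => F.toFunctor.map_injective (by simp) }
      w := by
        refine CategoryTheory.Functor.ext hp (fun y y' φ => ?_)
        have h1 : 𝒳.p.map (F.toFunctor.preimage ((e y).hom ≫ φ ≫ (e y').inv)) =
            eqToHom (F.w_obj (g y)).symm ≫ 𝒴.p.map ((e y).hom ≫ φ ≫ (e y').inv) ≫ eqToHom (F.w_obj (g y')) := by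
          have h2 := Functor.congr_hom F.w (F.toFunctor.preimage ((e y).hom ≫ φ ≫ (e y').inv))
          rw [Functor.comp_map, F.toFunctor.map_preimage] at h2
          rw [h2]
          simp
        have h3 : 𝒴.p.map (e y').inv = eqToHom (IsHomLift.domain_eq 𝒴.p (𝟙 (𝒴.p.obj y')) (e y').hom).symm := by
          have h4 : 𝒴.p.map (e y').inv ≫ 𝒴.p.map (e y').hom = 𝟙 _ := by
            rw [← Functor.map_comp, Iso.inv_hom_id, CategoryTheory.Functor.map_id]
          rw [map_of_lift F (e y') (he y')] at h4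
          rw [← cancel_mono (eqToHom (IsHomLift.domain_eq 𝒴.p (𝟙 (𝒴.p.obj y')) (e y').hom)), h4]
          simp
        rw [Functor.comp_map]
        change 𝒳.p.map (F.toFunctor.preimage ((e y).hom ≫ φ ≫ (e y').inv)) = _
        rw [h1, Functor.map_comp, Functor.map_comp, map_of_lift F (e y) (he y), h3]
        simp }
  have hG : ∀ {y y' : 𝒴.obj} (φ : y ⟶ y'), F.toFunctor.map (G.toFunctor.map φ) = (e y).hom ≫ φ ≫ (e y').inv :=
    fun φ => F.toFunctor.map_preimage _
  refine ⟨G, ⟨?_⟩, ⟨?_⟩⟩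
  · -- F ⋙ G ≅ 𝟭
    refine BasedNatIso.mkNatIso (NatIso.ofComponents (fun x => F.toFunctor.preimageIso (e (F.obj x))) ?_) ?_
    · intro x x' φ
      apply F.toFunctor.map_injective
      rw [Functor.map_comp, Functor.map_comp]
      simp only [Functor.preimageIso_hom, Functor.map_preimage]
      change F.toFunctor.map (G.toFunctor.map (F.toFunctor.map φ)) ≫ (e (F.obj x')).hom =
        (e (F.obj x)).hom ≫ F.toFunctor.map φ
      rw [hG, Category.assoc, Category.assoc, Iso.inv_hom_id, Category.comp_id]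
    · intro x
      have h1 : 𝒴.p.IsHomLift (𝟙 (𝒴.p.obj (F.obj x))) (e (F.obj x)).hom := he (F.obj x)
      have h2 : 𝒴.p.IsHomLift (𝟙 (𝒳.p.obj x)) (F.toFunctor.map (F.toFunctor.preimage (e (F.obj x)).hom)) := by
        rw [F.toFunctor.map_preimage]
        have := F.w_obj x
        rw [← this]
        exact h1
      exact (BasedFunctor.isHomLift_iff F _ _).1 h2
  · -- G ⋙ F ≅ 𝟭
    refine BasedNatIso.mkNatIso (NatIso.ofComponents (fun y => e y) ?_) ?_
    · intro y y' φ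
      change F.toFunctor.map (G.toFunctor.map φ) ≫ (e y').hom = (e y).hom ≫ φ
      rw [hG, Category.assoc, Category.assoc, Iso.inv_hom_id, Category.comp_id]
    · intro y
      exact he y

end crit

/-- Whiskering of an isomorphism `H ≅ 𝟭` on both sides. -/
def whisk {𝒳 : BasedCategory.{v₂, u₂} C} {𝒴 : BasedCategory.{v₃, u₃} C} {𝒵 : BasedCategory.{v₄, u₄} C}
    (F : 𝒳 ⥤ᵇ 𝒴) (G : 𝒴 ⥤ᵇ 𝒵) {H : 𝒴 ⥤ᵇ 𝒴} (γ : H ≅ BasedFunctor.id 𝒴) :
    BasedFunctor.comp (BasedFunctor.comp F H) G ≅ BasedFunctor.comp F G where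
  hom := BasedCategory.whiskerRight (BasedCategory.whiskerLeft F γ.hom) G
  inv := BasedCategory.whiskerRight (BasedCategory.whiskerLeft F γ.inv) G
  hom_inv_id := by
    apply BasedNatTrans.homCategory.ext
    ext x
    change G.map (γ.hom.app (F.obj x)) ≫ G.map (γ.inv.app (F.obj x)) = 𝟙 _
    rw [← Functor.map_comp]
    have := congrArg (fun t => BasedNatTrans.toNatTrans t) γ.hom_inv_id
    have h2 := congrArg (fun t => NatTrans.app t (F.obj x)) this
    exact (congrArg G.map h2).trans (G.map_id _)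
  inv_hom_id := by
    apply BasedNatTrans.homCategory.ext
    ext x
    change G.map (γ.inv.app (F.obj x)) ≫ G.map (γ.hom.app (F.obj x)) = 𝟙 _
    rw [← Functor.map_comp]
    have := congrArg (fun t => BasedNatTrans.toNatTrans t) γ.inv_hom_id
    have h2 := congrArg (fun t => NatTrans.app t (F.obj x)) this
    exact (congrArg G.map h2).trans (G.map_id _)

/-- Equivalences over `C` compose. -/
theorem isEquivOver_comp {𝒳 : BasedCategory.{v₂, u₂} C} {𝒴 : BasedCategory.{v₃, u₃} C}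
    {𝒵 : BasedCategory.{v₄, u₄} C} {F : 𝒳 ⥤ᵇ 𝒴} {G : 𝒴 ⥤ᵇ 𝒵} (hF : FibCat.IsEquivOver F)
    (hG : FibCat.IsEquivOver G) : FibCat.IsEquivOver (BasedFunctor.comp F G) := by
  obtain ⟨F', ⟨α⟩, ⟨β⟩⟩ := hF
  obtain ⟨G', ⟨γ⟩, ⟨δ⟩⟩ := hG
  refine ⟨BasedFunctor.comp G' F', ⟨?_⟩, ⟨?_⟩⟩
  · refine Iso.trans ?_ α
    exact whisk F F' γ
  · refine Iso.trans ?_ δ
    exact whisk G' G β

end K899.EquivOver
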