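import Groth.Prelude.Def_AlgSt3
import Groth.Agent.CurvSt.K899.EquivOver

/-!
# Comparison of 2-fibre products along fully faithful functors, and `spMapOfOver` along 2-isomorphisms
-/

set_option autoImplicit false
set_option backward.isDefEq.respectTransparency false
set_option backward.isDefEq.respectTransparency.types false

universe v₅ u₅ v₄ u₄ v₃ u₃ v₂ u₂ v₁ u₁ v u

open CategoryTheory CategoryTheory.Limits

namespace K899.FpEquiv

section Cat

variable {C : Type u} [Category.{v} C]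

theorem comp_lift {𝒵 : Type u₁} [Category.{v₁} 𝒵] (p : 𝒵 ⥤ C) {R : C} {a b c : 𝒵} {φ : a ⟶ b} {ψ : b ⟶ c}
    (h₁ : p.IsHomLift (𝟙 R) φ) (h₂ : p.IsHomLift (𝟙 R) ψ) : p.IsHomLift (𝟙 R) (φ ≫ ψ) :=
  IsHomLift.comp_of_lift_id p R φ ψ

section

variable {𝒰 : BasedCategory.{v₁, u₁} C} {𝒳' : BasedCategory.{v₂, u₂} C} {𝒳 : BasedCategory.{v₃, u₃} C}
  {𝒬' : BasedCategory.{v₄, u₄} C} {𝒬 : BasedCategory.{v₅, u₅} C}
  (y : 𝒰 ⥤ᵇ 𝒬') (I : 𝒳' ⥤ᵇ 𝒳) (J : 𝒬' ⥤ᵇ 𝒬) (F' : 𝒳' ⥤ᵇ 𝒬') (F : 𝒳 ⥤ᵇ 𝒬)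
  (ε : BasedFunctor.comp F' J ≅ BasedFunctor.comp I F)

/-- The components of `ε`. -/
def εapp (x : 𝒳'.obj) : J.obj (F'.obj x) ≅ F.obj (I.obj x) := ((BasedNatTrans.forgetful _ _).mapIso ε).app x

theorem εapp_lift (x : 𝒳'.obj) : 𝒬.p.IsHomLift (𝟙 (𝒳'.p.obj x)) (εapp I J F' F ε x).hom :=
  ε.hom.isHomLift' x

theorem εapp_naturality {x x' : 𝒳'.obj} (f : x ⟶ x') :
    J.map (F'.map f) ≫ (εapp I J F' F ε x').hom = (εapp I J F' F ε x).hom ≫ F.map (I.map f) :=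
  ε.hom.toNatTrans.naturality f

/-- The comparison functor `𝒰 ×_𝒬' 𝒳' ⟶ 𝒰 ×_𝒬 𝒳`. -/
def Θ : FibCat.fp y F' ⥤ᵇ FibCat.fp (BasedFunctor.comp y J) F where
  toFunctor :=
    { obj := fun p => ⟨{ fst := p.obj.fst
                         snd := I.obj p.obj.snd
                         iso := J.mapIso p.obj.iso ≪≫ εapp I J F' F ε p.obj.snd }, by
            have h1 : 𝒬'.p.IsHomLift (𝟙 (𝒰.p.obj p.obj.fst)) p.obj.iso.hom := p.property
            have h2 : 𝒬.p.IsHomLift (𝟙 (𝒰.p.obj p.obj.fst)) (J.map p.obj.iso.hom) :=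
              (BasedFunctor.isHomLift_iff J _ _).2 h1
            have h3 := εapp_lift I J F' F ε p.obj.snd
            have h4 : 𝒳'.p.obj p.obj.snd = 𝒰.p.obj p.obj.fst :=
              (F'.w_obj _).symm.trans (IsHomLift.codomain_eq 𝒬'.p (𝟙 (𝒰.p.obj p.obj.fst)) p.obj.iso.hom)
            rw [h4] at h3
            exact comp_lift 𝒬.p h2 h3⟩
      map := fun {p q} f => ObjectProperty.homMk
        { fst := f.hom.fst
          snd := I.map f.hom.snd
          w := by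
            have hw := congrArg J.map f.hom.w
            rw [Functor.map_comp, Functor.map_comp] at hw
            change J.map (y.map f.hom.fst) ≫ (J.map q.obj.iso.hom ≫ (εapp I J F' F ε q.obj.snd).hom) =
              (J.map p.obj.iso.hom ≫ (εapp I J F' F ε p.obj.snd).hom) ≫ F.map (I.map f.hom.snd)
            rw [Category.assoc, ← εapp_naturality, ← Category.assoc, ← Category.assoc]
            exact congrArg (fun t => t ≫ _) hw }
      map_id := fun p => by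
        apply ObjectProperty.hom_ext; apply CategoricalPullback.hom_ext
        · rfl
        · exact I.map_id _
      map_comp := fun f g => by
        apply ObjectProperty.hom_ext; apply CategoricalPullback.hom_ext
        · rfl
        · exact I.map_comp _ _ }
  w := rfl

theorem Θ_fst : BasedFunctor.comp (Θ y I J F' F ε) (FibCat.fpFst _ _) = FibCat.fpFst y F' := rfl

theorem Θ_faithful (hI : I.toFunctor.Faithful) : (Θ y I J F' F ε).toFunctor.Faithful where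
  map_injective {p q} f g h := by
    have h1 := congrArg (fun t => t.hom.fst) h
    have h2 := congrArg (fun t => t.hom.snd) h
    apply ObjectProperty.hom_ext; apply CategoricalPullback.hom_ext
    · exact h1
    · exact I.toFunctor.map_injective h2

theorem Θ_full (hI : I.toFunctor.Full) (hJ : J.toFunctor.Faithful) :
    (Θ y I J F' F ε).toFunctor.Full where
  map_surjective {p q} f := by
    let b : p.obj.snd ⟶ q.obj.snd := I.toFunctor.preimage f.hom.snd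
    have hb : I.map b = f.hom.snd := I.toFunctor.map_preimage _
    refine ⟨ObjectProperty.homMk { fst := f.hom.fst, snd := b, w := ?_ }, ?_⟩
    · apply J.toFunctor.map_injective
      have hw : J.map (y.map f.hom.fst) ≫ (J.map q.obj.iso.hom ≫ (εapp I J F' F ε q.obj.snd).hom) =
          (J.map p.obj.iso.hom ≫ (εapp I J F' F ε p.obj.snd).hom) ≫ F.map f.hom.snd := f.hom.w
      rw [← hb, Category.assoc, ← εapp_naturality, ← Category.assoc, ← Category.assoc] at hw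
      have hw' := (cancel_mono _).1 hw
      rw [Functor.map_comp, Functor.map_comp]
      exact hw'
    · apply ObjectProperty.hom_ext; apply CategoricalPullback.hom_ext
      · rfl
      · exact hb

/-- The comparison functor of 2-fibre products is an equivalence when `I`, `J` are fully faithful and every object of
`𝒳` whose image is isomorphic to an object of `𝒬'` comes from `𝒳'`. -/
theorem Θ_isEquivOver (hI : I.toFunctor.Full) (hI' : I.toFunctor.Faithful) (hJ : J.toFunctor.Full)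
    (hJ' : J.toFunctor.Faithful)
    (h : ∀ (a : 𝒰.obj) (x : 𝒳.obj) (i : J.obj (y.obj a) ≅ F.obj x), 𝒬.p.IsHomLift (𝟙 (𝒰.p.obj a)) i.hom →
      ∃ (x' : 𝒳'.obj) (e : I.obj x' ≅ x), 𝒳.p.IsHomLift (𝟙 (𝒳.p.obj x)) e.hom) :
    FibCat.IsEquivOver (Θ y I J F' F ε) := by
  refine EquivOver.isEquivOver_of_fullyFaithful _ (Θ_full y I J F' F ε hI hJ') (Θ_faithful y I J F' F ε hI') ?_
  intro p
  obtain ⟨x', e, he⟩ := h p.obj.fst p.obj.snd p.obj.iso p.property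
  have hp : 𝒬.p.IsHomLift (𝟙 (𝒰.p.obj p.obj.fst)) p.obj.iso.hom := p.property
  have hpx : 𝒳.p.obj p.obj.snd = 𝒰.p.obj p.obj.fst :=
    (F.w_obj _).symm.trans (IsHomLift.codomain_eq 𝒬.p (𝟙 (𝒰.p.obj p.obj.fst)) p.obj.iso.hom)
  have hx' : 𝒳'.p.obj x' = 𝒰.p.obj p.obj.fst :=
    ((I.w_obj _).symm.trans (IsHomLift.domain_eq 𝒳.p (𝟙 (𝒳.p.obj p.obj.snd)) e.hom)).trans hpx
  rw [hpx] at he
  let i : J.obj (y.obj p.obj.fst) ≅ J.obj (F'.obj x') :=
    p.obj.iso ≪≫ (F.mapIso e).symm ≪≫ (εapp I J F' F ε x').symm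
  have hi : 𝒬.p.IsHomLift (𝟙 (𝒰.p.obj p.obj.fst)) i.hom := by
    have h1 : 𝒬.p.IsHomLift (𝟙 (𝒰.p.obj p.obj.fst)) (F.mapIso e).hom :=
      (BasedFunctor.isHomLift_iff F _ _).2 he
    have h2 : 𝒬.p.IsHomLift (𝟙 (𝒰.p.obj p.obj.fst)) (F.mapIso e).inv :=
      IsHomLift.lift_id_inv 𝒬.p _ _
    have h3 := εapp_lift I J F' F ε x'
    rw [hx'] at h3
    have h4 : 𝒬.p.IsHomLift (𝟙 (𝒰.p.obj p.obj.fst)) (εapp I J F' F ε x').inv :=
      IsHomLift.lift_id_inv 𝒬.p _ _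
    exact comp_lift 𝒬.p hp (comp_lift 𝒬.p h2 h4)
  let j : y.obj p.obj.fst ≅ F'.obj x' := J.toFunctor.preimageIso i
  have hj : 𝒬'.p.IsHomLift (𝟙 (𝒰.p.obj p.obj.fst)) j.hom := by
    rw [← BasedFunctor.isHomLift_iff J]
    have : J.map j.hom = i.hom := J.toFunctor.map_preimage _
    rw [this]
    exact hi
  let p' : (FibCat.fp y F').obj := ⟨{ fst := p.obj.fst, snd := x', iso := j }, hj⟩
  let E : ((Θ y I J F' F ε).obj p').obj ≅ p.obj :=
    CategoricalPullback.mkIso (Iso.refl _) e (by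
      change J.map (y.map (𝟙 _)) ≫ p.obj.iso.hom = (J.map j.hom ≫ (εapp I J F' F ε x').hom) ≫ F.map e.hom
      have h1 : J.map j.hom = i.hom := J.toFunctor.map_preimage _
      rw [h1]
      have h2 : i.hom = p.obj.iso.hom ≫ F.map e.inv ≫ (εapp I J F' F ε x').inv := rfl
      rw [h2]
      have h3 : F.map e.inv ≫ F.map e.hom = 𝟙 _ := by
        rw [← Functor.map_comp, Iso.inv_hom_id, CategoryTheory.Functor.map_id]
      have h4 : J.map (y.map (𝟙 p.obj.fst)) = 𝟙 _ := by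
        rw [CategoryTheory.Functor.map_id, CategoryTheory.Functor.map_id]
      simp only [Category.assoc, Iso.inv_hom_id_assoc]
      rw [h3, h4]
      exact (Category.id_comp _).trans (Category.comp_id _).symm)
  refine ⟨p', ObjectProperty.isoMk _ E, ?_⟩
  have h6 : 𝟙 ((FibCat.fp (BasedFunctor.comp y J) F).p.obj p) =
    (FibCat.fp (BasedFunctor.comp y J) F).p.map (ObjectProperty.isoMk _ E).hom := (𝒰.p.map_id _).symm
  rw [h6]
  exact IsHomLift.map _ _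

end

end Cat

section Sp

open AlgebraicGeometry Opposite

variable {S : Scheme.{u}}

theorem spMapOfOver_congr {F : AlgSp.Sp S} {U : Over S} {Φ Ψ : AlgSt.ofSp F ⥤ᵇ FibCat.overCat U}
    (α : Φ ≅ Ψ) : AlgSt.spMapOfOver Φ = AlgSt.spMapOfOver Ψ := by
  apply ObjectProperty.hom_ext
  ext T x
  change (⟨AlgSt.secHom Φ ⟨T.unop, x⟩⟩ : ULift _) = ⟨AlgSt.secHom Ψ ⟨T.unop, x⟩⟩
  congr 1
  have h1 : (FibCat.overCat U).p.IsHomLift (𝟙 T.unop) (α.hom.toNatTrans.app ⟨T.unop, x⟩) :=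
    α.hom.isHomLift' ⟨T.unop, x⟩
  have h2 := IsHomLift.fac' (FibCat.overCat U).p (𝟙 T.unop) (α.hom.toNatTrans.app ⟨T.unop, x⟩)
  have h3 : (α.hom.toNatTrans.app ⟨T.unop, x⟩).left ≫ (Ψ.obj ⟨T.unop, x⟩).hom = (Φ.obj ⟨T.unop, x⟩).hom :=
    Over.w (α.hom.toNatTrans.app ⟨T.unop, x⟩)
  have h4 : (α.hom.toNatTrans.app ⟨T.unop, x⟩).left = eqToHom _ ≫ 𝟙 T.unop ≫ eqToHom _ := h2
  rw [AlgSt.secHom, AlgSt.secHom, ← h3, h4]
  simp only [Category.id_comp, eqToHom_trans, eqToHom_trans_assoc]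

variable {U : Over S} {𝒳' : BasedCategory.{v₂, u₂} (Over S)} {𝒳 : BasedCategory.{v₃, u₃} (Over S)}
  {𝒬' : BasedCategory.{v₄, u₄} (Over S)} {𝒬 : BasedCategory.{v₅, u₅} (Over S)}
  (y : FibCat.overCat U ⥤ᵇ 𝒬') (I : 𝒳' ⥤ᵇ 𝒳) (J : 𝒬' ⥤ᵇ 𝒬) (F' : 𝒳' ⥤ᵇ 𝒬') (F : 𝒳 ⥤ᵇ 𝒬)
  (ε : BasedFunctor.comp F' J ≅ BasedFunctor.comp I F)

theorem exists_rep_of_Θ (hΘ : FibCat.IsEquivOver (Θ y I J F' F ε)) (P : MorphismProperty (AlgSp.Sp S))
    (h : ∃ (G : AlgSp.Space S) (e : AlgSt.ofSp G.obj ⥤ᵇ FibCat.fp (BasedFunctor.comp y J) F),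
      FibCat.IsEquivOver e ∧ P (AlgSt.spMapOfOver (BasedFunctor.comp e (FibCat.fpFst _ _)))) :
    ∃ (G : AlgSp.Space S) (e : AlgSt.ofSp G.obj ⥤ᵇ FibCat.fp y F'),
      FibCat.IsEquivOver e ∧ P (AlgSt.spMapOfOver (BasedFunctor.comp e (FibCat.fpFst y F'))) := by
  obtain ⟨G, e, he, hP⟩ := h
  obtain ⟨Ψ, ⟨α⟩, ⟨β⟩⟩ := hΘ
  refine ⟨G, BasedFunctor.comp e Ψ, EquivOver.isEquivOver_comp he ⟨_, ⟨β⟩, ⟨α⟩⟩, ?_⟩
  have h1 : BasedFunctor.comp (BasedFunctor.comp e Ψ) (FibCat.fpFst y F') ≅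
      BasedFunctor.comp e (FibCat.fpFst (BasedFunctor.comp y J) F) :=
    EquivOver.whisk e (FibCat.fpFst (BasedFunctor.comp y J) F) β
  rw [spMapOfOver_congr h1]
  exact hP

end Sp

end K899.FpEquiv
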