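import Groth.Prelude.Def_AlgSt3
import Groth.Agent.CurvSt.K899.EquivOver
import Groth.Agent.CurvSt.K899.FpEquiv

/-!
# Open substacks from open loci

`K899.OpenCrit.isOpenSubstack`: let `𝒳` be an algebraic stack over `S` (fppf; any universe pair) and `Q` a property of its
objects such that for every object `x` over `T` there is an open `U` of `T` with: for every `φ : y ⟶ x` over
`g : T' ⟶ T`, `Q y` holds iff `g` factors through `U` (set-theoretically).  Then `Q` cuts out an open substack.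
-/

set_option autoImplicit false
set_option backward.isDefEq.respectTransparency false
set_option backward.isDefEq.respectTransparency.types false

universe v₅ w₅ v₄ w₄ v₃ w₃ v₂ w₂ v w u

open CategoryTheory CategoryTheory.Limits AlgebraicGeometry Opposite

namespace K899.OpenCrit

variable {S : Scheme.{u}}

theorem fppfTopology_le : Scheme.fppfTopology.{u} ≤ Scheme.jointlySurjectiveTopology.{u} := by
  rw [Precoverage.toGrothendieck_le_iff_le_toPrecoverage]
  intro X R hR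
  change Sieve.generate R ∈ Scheme.jointlySurjectiveTopology X
  rw [Scheme.mem_jointlySurjectiveTopology_iff_jointlySurjectivePretopology]
  intro x
  obtain ⟨Y, g, hg, y, hy⟩ := hR.1 x
  exact ⟨Y, g, Presieve.map_monotone (Sieve.le_generate R) _ _ hg, y, hy⟩

/-- Covering sieves of the big fppf site are jointly surjective. -/
theorem exists_mem_of_mem_J {U : Over S} {R : Sieve U}
    (hR : R ∈ QuotSh.J Scheme.fppfPrecoverage S U) (x : U.left) :
    ∃ (V : Over S) (f : V ⟶ U) (v : V.left), R f ∧ f.left v = x := by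
  rw [QuotSh.J, GrothendieckTopology.mem_over_iff] at hR
  have hR' := fppfTopology_le _ hR
  rw [Scheme.mem_jointlySurjectiveTopology_iff_jointlySurjectivePretopology] at hR'
  obtain ⟨Y, g, hg, y, hy⟩ := hR' x
  obtain @⟨Y, f, hf⟩ := hg
  exact ⟨_, _, y, (Sieve.overEquiv_iff R f).1 hf, hy⟩

variable {𝒳 : BasedCategory.{v, w} (Over S)} (Q : 𝒳.obj → Prop)

/-- `Q` holds exactly over an open locus of the base of each object, compatibly with all morphisms. -/
def HasOpenLocus : Prop :=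
  ∀ x : 𝒳.obj, ∃ U : (𝒳.p.obj x).left.Opens, ∀ (y : 𝒳.obj) (φ : y ⟶ x),
    Q y ↔ Set.range (𝒳.p.map φ).left ⊆ U

variable {Q}

theorem HasOpenLocus.of_hom (hQ : HasOpenLocus Q) {x y : 𝒳.obj} (φ : y ⟶ x) (hx : Q x) : Q y := by
  obtain ⟨U, hU⟩ := hQ x
  have h1 := (hU x (𝟙 x)).1 hx
  rw [(hU y φ)]
  rintro _ ⟨z, rfl⟩
  refine h1 ⟨(𝒳.p.map φ).left z, ?_⟩
  simp

theorem HasOpenLocus.isClosedUnderIsomorphisms (hQ : HasOpenLocus Q) :
    ObjectProperty.IsClosedUnderIsomorphisms Q :=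
  ⟨fun e hx => hQ.of_hom e.inv hx⟩

theorem isHomLift_iff {a b : (AlgSt.fullSub 𝒳 Q).obj} {R T : Over S} (f : R ⟶ T) (φ : a ⟶ b) :
    (AlgSt.fullSub 𝒳 Q).p.IsHomLift f φ ↔ 𝒳.p.IsHomLift f φ.hom :=
  (BasedFunctor.isHomLift_iff (AlgSt.subIncl 𝒳 Q) f φ).symm

theorem isFibGrpd_fullSub (h : FibCat.IsFibGrpd 𝒳.p) (hQ : ∀ {x y : 𝒳.obj}, (y ⟶ x) → Q x → Q y) :
    FibCat.IsFibGrpd (AlgSt.fullSub 𝒳 Q).p where
  exists_lift := fun {x} {V} f => by
    obtain ⟨y, φ, hφ⟩ := h.exists_lift (x := x.obj) f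
    refine ⟨⟨y, hQ φ x.property⟩, ObjectProperty.homMk φ, ?_⟩
    exact (isHomLift_iff _ _).2 hφ
  isStronglyCartesian := fun {y x} φ =>
    { universal_property' := fun {a'} g φ' hφ' => by
        have hs := h.isStronglyCartesian φ.hom
        have h1 : 𝒳.p.IsHomLift (g ≫ 𝒳.p.map φ.hom) φ'.hom := (isHomLift_iff _ _).1 hφ'
        obtain ⟨χ, ⟨hχ1, hχ2⟩, hχ3⟩ := hs.universal_property' g φ'.hom
        refine ⟨ObjectProperty.homMk χ, ⟨(isHomLift_iff _ _).2 hχ1, ObjectProperty.hom_ext _ hχ2⟩, ?_⟩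
        rintro ψ ⟨hψ1, hψ2⟩
        exact ObjectProperty.hom_ext _ (hχ3 ψ.hom ⟨(isHomLift_iff _ _).1 hψ1,
          congrArg (fun t => t.hom) hψ2⟩) }

section Post

variable {𝒜 : BasedCategory.{v₂, w₂} (Over S)} (Q)

/-- Functors over the base into the full subcategory. -/
def liftSub (G : 𝒜 ⥤ᵇ 𝒳) (h : ∀ a, Q (G.obj a)) : 𝒜 ⥤ᵇ AlgSt.fullSub 𝒳 Q where
  toFunctor := ObjectProperty.lift Q G.toFunctor h
  w := G.w

theorem liftSub_comp (G : 𝒜 ⥤ᵇ 𝒳) (h : ∀ a, Q (G.obj a)) :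
    BasedFunctor.comp (liftSub Q G h) (AlgSt.subIncl 𝒳 Q) = G := rfl

variable (𝒜) in
/-- Composition with the inclusion of the full subcategory. -/
def post : (𝒜 ⥤ᵇ AlgSt.fullSub 𝒳 Q) ⥤ (𝒜 ⥤ᵇ 𝒳) where
  obj G := BasedFunctor.comp G (AlgSt.subIncl 𝒳 Q)
  map α := BasedCategory.whiskerRight α (AlgSt.subIncl 𝒳 Q)
  map_id G := by apply BasedNatTrans.homCategory.ext; rfl
  map_comp α β := by apply BasedNatTrans.homCategory.ext; rfl

instance : (post Q 𝒜).Faithful where
  map_injective {G G'} α β h := by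
    apply BasedNatTrans.homCategory.ext
    ext a
    have := congrArg (fun t => t.toNatTrans.app a) h
    exact this

instance : (post Q 𝒜).Full where
  map_surjective {G G'} β := by
    refine ⟨{ app := fun a => ObjectProperty.homMk (β.toNatTrans.app a)
              naturality := fun a b f => ObjectProperty.hom_ext _ (β.toNatTrans.naturality f)
              isHomLift' := fun a => (isHomLift_iff _ _).2 (β.isHomLift' a) }, ?_⟩
    rfl

end Post

section Stack

theorem isStack_fullSub (h𝒳 : Stk.IsStack (QuotSh.J Scheme.fppfPrecoverage S) 𝒳) (hQ : HasOpenLocus Q) :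
    Stk.IsStack (QuotSh.J Scheme.fppfPrecoverage S) (AlgSt.fullSub 𝒳 Q) := by
  refine ⟨isFibGrpd_fullSub h𝒳.1 hQ.of_hom, fun U R hR => ?_⟩
  have hE : (Stk.resSieve R 𝒳).IsEquivalence := h𝒳.2 R hR
  have hcomm : Stk.resSieve R (AlgSt.fullSub 𝒳 Q) ⋙ post Q (Stk.sieveCat R) ≅
    post Q (FibCat.overCat U) ⋙ Stk.resSieve R 𝒳 := Iso.refl _
  have hfull : (Stk.resSieve R (AlgSt.fullSub 𝒳 Q)).Full := Functor.Full.of_comp_faithful_iso hcomm
  have hfaith : (Stk.resSieve R (AlgSt.fullSub 𝒳 Q)).Faithful := Functor.Faithful.of_comp_iso hcomm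
  refine { faithful := hfaith, full := hfull, essSurj := ⟨fun G => ?_⟩ }
  let H : FibCat.overCat U ⥤ᵇ 𝒳 := (Stk.resSieve R 𝒳).objPreimage ((post Q _).obj G)
  let e : (Stk.resSieve R 𝒳).obj H ≅ (post Q _).obj G := (Stk.resSieve R 𝒳).objObjPreimageIso _
  have hH : Q (H.obj (Over.mk (𝟙 U))) := by
    obtain ⟨W, hW⟩ := hQ (H.obj (Over.mk (𝟙 U)))
    rw [hW _ (𝟙 _)]
    rintro z -
    have h0 : 𝒳.p.obj (H.obj (Over.mk (𝟙 U))) = U := H.w_obj _
    obtain ⟨V, f, v, hf, hv⟩ := exists_mem_of_mem_J hR ((eqToHom h0).left z)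
    let φ : (Over.mk f : (FibCat.overCat U).obj) ⟶ Over.mk (𝟙 U) := Over.homMk f
    have h1 : Q (H.obj (Over.mk f)) := by
      let a : (Stk.sieveCat R).obj := ⟨Over.mk f, hf⟩
      let ea : H.obj (Over.mk f) ≅ (G.obj a).obj := ((BasedNatTrans.forgetful _ _).mapIso e).app a
      exact hQ.of_hom ea.hom (G.obj a).property
    have h2 := (hW _ (H.map φ)).1 h1
    have h3 : 𝒳.p.map (H.map φ) = eqToHom (H.w_obj _) ≫ f ≫ eqToHom h0.symm :=
      Functor.congr_hom H.w φ
    have h4 : 𝒳.p.obj (H.obj (Over.mk f)) = V := H.w_obj _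
    refine h2 ⟨(eqToHom h4.symm).left v, ?_⟩
    rw [h3]
    rw [← Scheme.Hom.comp_apply, ← Over.comp_left, eqToHom_trans_assoc, eqToHom_refl,
      Category.id_comp, Over.comp_left, Scheme.Hom.comp_apply, hv, ← Scheme.Hom.comp_apply,
      ← Over.comp_left, eqToHom_trans, eqToHom_refl]
    rfl
  have hH' : ∀ a, Q (H.obj a) := fun a => by
    refine hQ.of_hom (H.map (Over.homMk a.hom : a ⟶ Over.mk (𝟙 U))) hH
  refine ⟨liftSub Q H hH', ⟨(post Q _).preimageIso e⟩⟩

end Stack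

section Diag

variable (Q) in
/-- The inclusion on products with itself. -/
def prodIncl : FibCat.fp (FibCat.toSelf (AlgSt.fullSub 𝒳 Q)) (FibCat.toSelf (AlgSt.fullSub 𝒳 Q)) ⥤ᵇ
    FibCat.fp (FibCat.toSelf 𝒳) (FibCat.toSelf 𝒳) where
  toFunctor :=
    { obj := fun p => ⟨{ fst := p.obj.fst.obj, snd := p.obj.snd.obj, iso := p.obj.iso }, p.property⟩
      map := fun {p q} f => ObjectProperty.homMk { fst := f.hom.fst.hom, snd := f.hom.snd.hom, w := f.hom.w }
      map_id := fun p => rfl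
      map_comp := fun f g => rfl }
  w := rfl

theorem prodIncl_faithful : (prodIncl (𝒳 := 𝒳) Q).toFunctor.Faithful where
  map_injective {p q} f g h := by
    have h1 := congrArg (fun t => t.hom.fst) h
    have h2 := congrArg (fun t => t.hom.snd) h
    apply ObjectProperty.hom_ext; apply CategoricalPullback.hom_ext
    · exact ObjectProperty.hom_ext _ h1
    · exact ObjectProperty.hom_ext _ h2

theorem prodIncl_full : (prodIncl (𝒳 := 𝒳) Q).toFunctor.Full where
  map_surjective {p q} f :=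
    ⟨ObjectProperty.homMk { fst := ObjectProperty.homMk f.hom.fst, snd := ObjectProperty.homMk f.hom.snd,
                            w := f.hom.w }, rfl⟩

theorem repByAlgSp1_diag_fullSub (h : AlgSt.RepByAlgSp1 (FibCat.diag (FibCat.toSelf 𝒳)))
    (hQ : ∀ {x y : 𝒳.obj}, (y ⟶ x) → Q x → Q y) :
    AlgSt.RepByAlgSp1 (FibCat.diag (FibCat.toSelf (AlgSt.fullSub 𝒳 Q))) := by
  intro U y
  obtain ⟨F, e, he⟩ := h U (BasedFunctor.comp y (prodIncl Q))
  have hΘ := FpEquiv.Θ_isEquivOver y (AlgSt.subIncl 𝒳 Q) (prodIncl Q)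
    (FibCat.diag (FibCat.toSelf (AlgSt.fullSub 𝒳 Q))) (FibCat.diag (FibCat.toSelf 𝒳)) (Iso.refl _)
    (inferInstanceAs (ObjectProperty.ι Q).Full) (inferInstanceAs (ObjectProperty.ι Q).Faithful)
    prodIncl_full prodIncl_faithful (fun a x i hi => by
      refine ⟨⟨x, hQ (i.inv.hom.fst) (y.obj a).obj.fst.property⟩, Iso.refl _, ?_⟩
      exact IsHomLift.id rfl)
  obtain ⟨G, e', he', -⟩ := FpEquiv.exists_rep_of_Θ y _ _ _ _ _ hΘ ⊤ ⟨F, e, he, trivial⟩
  exact ⟨G, e', he'⟩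

end Diag

section Locus

/-- The open locus for an object given as a functor from a slice. -/
theorem exists_locus (hQ : HasOpenLocus Q) {U : Over S} (x : FibCat.overCat U ⥤ᵇ 𝒳) :
    ∃ W : U.left.Opens, ∀ a : Over U, Q (x.obj a) ↔ Set.range a.hom.left ⊆ W := by
  obtain ⟨W₀, hW₀⟩ := hQ (x.obj (Over.mk (𝟙 U)))
  have h0 : 𝒳.p.obj (x.obj (Over.mk (𝟙 U))) = U := x.w_obj _
  refine ⟨(eqToHom h0.symm).left ⁻¹ᵁ W₀, fun a => ?_⟩
  let φ : (a : (FibCat.overCat U).obj) ⟶ Over.mk (𝟙 U) := Over.homMk a.hom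
  rw [hW₀ _ (x.map φ)]
  have h3 : 𝒳.p.map (x.map φ) = eqToHom (x.w_obj _) ≫ a.hom ≫ eqToHom h0.symm :=
    Functor.congr_hom x.w φ
  have h4 : 𝒳.p.obj (x.obj a) = a.left := x.w_obj _
  rw [h3]
  constructor
  · rintro h _ ⟨z, rfl⟩
    have h5 := h ⟨(eqToHom h4.symm).left z, rfl⟩
    rw [← Scheme.Hom.comp_apply, ← Over.comp_left, eqToHom_trans_assoc, eqToHom_refl,
      Category.id_comp, Over.comp_left, Scheme.Hom.comp_apply] at h5
    exact h5
  · rintro h _ ⟨z, rfl⟩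
    have h5 := h ⟨(eqToHom h4).left z, rfl⟩
    rw [Over.comp_left, Over.comp_left, Scheme.Hom.comp_apply, Scheme.Hom.comp_apply]
    exact h5

/-- The open subscheme `W` of `U` as a scheme over `S`. -/
abbrev opOver (U : Over S) (W : U.left.Opens) : Over S := Over.mk (W.ι ≫ U.hom)

/-- Its inclusion. -/
abbrev opIncl (U : Over S) (W : U.left.Opens) : opOver U W ⟶ U := Over.homMk W.ι

theorem overMap_faithful {U V : Over S} (h : U ⟶ V) : (AlgSt.overMap h).toFunctor.Faithful where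
  map_injective {a b} f g hfg := by
    have h1 := congrArg (fun t => t.left) hfg
    exact Over.OverMorphism.ext h1

theorem overMap_opIncl_full (U : Over S) (W : U.left.Opens) : (AlgSt.overMap (opIncl U W)).toFunctor.Full where
  map_surjective {a b} f := by
    refine ⟨Over.homMk f.left ?_, ?_⟩
    · have h1 : f.left ≫ (b.hom ≫ opIncl U W) = a.hom ≫ opIncl U W := Over.w f
      apply Over.OverMorphism.ext
      rw [← cancel_mono W.ι]
      have h2 := congrArg CommaMorphism.left h1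
      simpa using h2
    · exact Over.OverMorphism.ext rfl

theorem exists_factor {U : Over S} {W : U.left.Opens} (g : Over U) (hg : Set.range g.hom.left ⊆ W) :
    ∃ (g' : Over (opOver U W)) (e : (AlgSt.overMap (opIncl U W)).obj g' ≅ g),
      (FibCat.overCat U).p.IsHomLift (𝟙 ((FibCat.overCat U).p.obj g)) e.hom := by
  have hW : Set.range g.hom.left ⊆ Set.range W.ι := by rwa [Scheme.Opens.range_ι]
  let k : g.left ⟶ opOver U W := Over.homMk (IsOpenImmersion.lift W.ι g.hom.left hW) (by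
    simp only [Over.mk_hom, IsOpenImmersion.lift_fac_assoc, Over.w])
  let e : (AlgSt.overMap (opIncl U W)).obj (Over.mk k) ≅ g := Over.isoMk (Iso.refl _) (by
    change 𝟙 _ ≫ g.hom = k ≫ opIncl U W
    apply Over.OverMorphism.ext
    simp [k])
  exact ⟨Over.mk k, e, IsHomLift.map (FibCat.overCat U).p e.hom⟩

theorem repByAlgSpWith_atlas (hQ : HasOpenLocus Q) {U : Over S} (x : FibCat.overCat U ⥤ᵇ 𝒳) (W : U.left.Opens)
    (hW : ∀ a : Over U, Q (x.obj a) ↔ Set.range a.hom.left ⊆ W)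
    (hx' : ∀ a, Q ((BasedFunctor.comp (AlgSt.overMap (opIncl U W)) x).obj a))
    (P : MorphismProperty (AlgSp.Sp S)) (h : AlgSt.RepByAlgSpWith P x) :
    AlgSt.RepByAlgSpWith P (liftSub Q (BasedFunctor.comp (AlgSt.overMap (opIncl U W)) x) hx') := by
  intro V y
  have hΘ := FpEquiv.Θ_isEquivOver y (AlgSt.overMap (opIncl U W)) (AlgSt.subIncl 𝒳 Q)
    (liftSub Q (BasedFunctor.comp (AlgSt.overMap (opIncl U W)) x) hx') x (Iso.refl _)
    (overMap_opIncl_full U W) (overMap_faithful _)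
    (inferInstanceAs (ObjectProperty.ι Q).Full) (inferInstanceAs (ObjectProperty.ι Q).Faithful)
    (fun a g i hi => exists_factor g ((hW g).1 (hQ.of_hom i.inv (y.obj a).property)))
  exact FpEquiv.exists_rep_of_Θ y _ _ _ _ _ hΘ P (h V _)

theorem hasAtlas_fullSub (hQ : HasOpenLocus Q) (P : MorphismProperty (AlgSp.Sp S)) (h : AlgSt.HasAtlas P 𝒳) :
    AlgSt.HasAtlas P (AlgSt.fullSub 𝒳 Q) := by
  obtain ⟨U, x, h₁, h₂⟩ := h
  obtain ⟨W, hW⟩ := exists_locus hQ x
  have hx' : ∀ a, Q ((BasedFunctor.comp (AlgSt.overMap (opIncl U W)) x).obj a) := fun a => by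
    refine (hW _).2 ?_
    change Set.range (a.hom ≫ opIncl U W).left ⊆ W
    rintro _ ⟨z, rfl⟩
    rw [Over.comp_left, Scheme.Hom.comp_apply]
    exact (a.hom.left z).2
  exact ⟨_, _, repByAlgSpWith_atlas hQ x W hW hx' P h₁, repByAlgSpWith_atlas hQ x W hW hx' _ h₂⟩

end Locus

section OpenImm

theorem toOverCat_isEquivOver (U : Over S) : FibCat.IsEquivOver (AlgSt.toOverCat U) :=
  ⟨AlgSt.ofOverCat U, ⟨Iso.refl _⟩, ⟨Iso.refl _⟩⟩

theorem isOpenImm_subIncl (hQ : HasOpenLocus Q) : AlgSt.IsOpenImm (AlgSt.subIncl 𝒳 Q) := by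
  intro U y
  obtain ⟨W, hW⟩ := exists_locus hQ y
  have hy' : ∀ a, Q ((BasedFunctor.comp (AlgSt.overMap (opIncl U W)) y).obj a) := fun a => by
    refine (hW _).2 ?_
    change Set.range (a.hom ≫ opIncl U W).left ⊆ W
    rintro _ ⟨z, rfl⟩
    rw [Over.comp_left, Scheme.Hom.comp_apply]
    exact (a.hom.left z).2
  let K : FibCat.overCat (opOver U W) ⥤ᵇ FibCat.fp y (AlgSt.subIncl 𝒳 Q) :=
    FibCat.fpLift (AlgSt.overMap (opIncl U W))
      (liftSub Q (BasedFunctor.comp (AlgSt.overMap (opIncl U W)) y) hy') (Iso.refl _)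
  have hKfst : BasedFunctor.comp K (FibCat.fpFst _ _) = AlgSt.overMap (opIncl U W) := rfl
  have hKfaith : K.toFunctor.Faithful := ⟨fun {a b} f g h =>
    (overMap_faithful (opIncl U W)).map_injective (congrArg (fun t => t.hom.fst) h)⟩
  have hKfull : K.toFunctor.Full := ⟨fun {a b} f => by
    have := overMap_opIncl_full U W
    obtain ⟨g, hg⟩ := (AlgSt.overMap (opIncl U W)).toFunctor.map_surjective (X := a) (Y := b) f.hom.fst
    refine ⟨g, ?_⟩
    apply ObjectProperty.hom_ext; apply CategoricalPullback.hom_ext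
    · exact hg
    · apply ObjectProperty.hom_ext
      have h1 : y.map f.hom.fst ≫ 𝟙 _ = 𝟙 _ ≫ f.hom.snd.hom := f.hom.w
      rw [Category.comp_id, Category.id_comp] at h1
      change y.map ((AlgSt.overMap (opIncl U W)).map g) = f.hom.snd.hom
      rw [← h1]
      exact congrArg y.map hg⟩
  have hK : FibCat.IsEquivOver K := by
    refine EquivOver.isEquivOver_of_fullyFaithful K hKfull hKfaith (fun p => ?_)
    have h1 : Q (y.obj p.obj.fst) := hQ.of_hom p.obj.iso.hom p.obj.snd.property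
    obtain ⟨g', e, he⟩ := exists_factor p.obj.fst ((hW _).1 h1)
    let E : (K.obj g').obj ≅ p.obj :=
      CategoricalPullback.mkIso e (ObjectProperty.isoMk _ (y.mapIso e ≪≫ p.obj.iso)) (by
        change y.map e.hom ≫ p.obj.iso.hom = 𝟙 _ ≫ (y.map e.hom ≫ p.obj.iso.hom)
        exact (Category.id_comp _).symm)
    exact ⟨g', ObjectProperty.isoMk _ E, (BasedFunctor.isHomLift_iff (FibCat.fpFst _ _) _ _).1 he⟩
  refine ⟨(AlgSp.ofScheme S).obj (opOver U W), BasedFunctor.comp (AlgSt.toOverCat (opOver U W)) K,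
    EquivOver.isEquivOver_comp (toOverCat_isEquivOver _) hK, ?_⟩
  have h2 : AlgSt.spMapOfOver (BasedFunctor.comp (BasedFunctor.comp (AlgSt.toOverCat (opOver U W)) K)
      (FibCat.fpFst y (AlgSt.subIncl 𝒳 Q))) = (AlgSp.yon S).map (opIncl U W) := by
    apply ObjectProperty.hom_ext
    ext T x
    obtain ⟨x⟩ := x
    change (⟨eqToHom _ ≫ (x ≫ opIncl U W)⟩ : ULift _) = ⟨x ≫ opIncl U W⟩
    rw [eqToHom_refl, Category.id_comp]
  rw [h2, AlgSp.repWith_yon_map_iff]
  change IsOpenImmersion W.ι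
  infer_instance

end OpenImm

/-- Main criterion. -/
theorem isOpenSubstack (h𝒳 : AlgSt.IsAlgStack Scheme.fppfPrecoverage 𝒳) (hQ : HasOpenLocus Q) :
    AlgSt.IsOpenSubstack 𝒳 Q Scheme.fppfPrecoverage :=
  ⟨hQ.isClosedUnderIsomorphisms,
    { isStack := isStack_fullSub h𝒳.isStack hQ
      diag := repByAlgSp1_diag_fullSub h𝒳.diag hQ.of_hom
      atlas := hasAtlas_fullSub hQ _ h𝒳.atlas },
    isOpenImm_subIncl hQ⟩

end K899.OpenCrit
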