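import Groth.Prelude.Def_StCurv2
import Groth.Agent.CurvSt.K902.LocSch
import Groth.Agent.AlgSp.K596.QC

/-!
# Scheme families of curves are families of curves

For a pointed family `A : PtFamObj S n` of schemes with `A.f` flat, proper, locally of finite presentation and with
local fibre dimensions at most one, `IsCurveFam ((toSpFam S n).obj A)`.
-/

set_option autoImplicit false

universe u

open CategoryTheory CategoryTheory.Limits AlgebraicGeometry Opposite

namespace K899.CurveFam

open CurvSt

variable {S : Scheme.{u}} {n : ℕ}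

/-- `LocP` of `h_f` for a property stable under base change and composition with etale morphisms. -/
theorem locP_yon_map (P : MorphismProperty Scheme.{u}) [P.IsStableUnderBaseChange] [P.IsStableUnderComposition]
    (hP : ∀ ⦃X Y : Scheme.{u}⦄ (f : X ⟶ Y), Etale f → P f) {X Y : Over S} (f : X ⟶ Y) (hf : P f.left) :
    AlgSp.LocP P ((AlgSp.yon S).map f) :=
  K902.LocSch.locP_yon_map_of P P (fun _ _ _ _ sq _ h => P.of_isPullback sq h)
    (fun a f ha h => P.comp_mem a f (hP a ha) h) f hf

/-- For the properties stable under etale localisation on source and target. -/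
theorem locP_nodal_yon_map {X Y : Over S} (f : X ⟶ Y)
    (hbc : ∀ {X' Y' : Scheme.{u}} (f' : X' ⟶ Y') (g' : X' ⟶ X.left) (g : Y' ⟶ Y.left),
      IsPullback g' f' f.left g → nodalFam f')
    (hpre : ∀ {U X Y : Scheme.{u}} (a : U ⟶ X) (f : X ⟶ Y), Etale a → nodalFam f → nodalFam (a ≫ f)) :
    AlgSp.LocP nodalFam ((AlgSp.yon S).map f) := by
  intro U V a b h ha hb hab
  obtain ⟨a, rfl⟩ := (AlgSp.yon S).map_surjective a
  obtain ⟨b, rfl⟩ := (AlgSp.yon S).map_surjective b
  have ha' : Etale a.left := (AlgSp.repWith_yon_map_iff _ _).1 ha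
  have hb' : Etale b.left := (AlgSp.repWith_yon_map_iff _ _).1 hb
  rw [← Functor.map_comp, ← Functor.map_comp] at hab
  have hab' : a.left ≫ f.left = h.left ≫ b.left :=
    congrArg CommaMorphism.left ((AlgSp.yon S).map_injective hab)
  let c : U.left ⟶ pullback f.left b.left := pullback.lift a.left h.left hab'
  have hc : Etale c := by
    have h1 : Etale (c ≫ pullback.fst f.left b.left) := by
      rw [pullback.lift_fst]; exact ha'
    exact MorphismProperty.of_postcomp (W := @Etale) (W' := @Etale) _ (pullback.fst f.left b.left)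
      inferInstance h1
  have h3 := hpre c _ hc (hbc _ _ _ (IsPullback.of_hasPullback f.left b.left))
  rwa [pullback.lift_snd] at h3

theorem locP_flat {X Y : Over S} (f : X ⟶ Y) (hf : Flat f.left) : AlgSp.LocP @Flat ((AlgSp.yon S).map f) :=
  locP_yon_map @Flat (fun _ _ _ _ => inferInstance) f hf

theorem locP_lft {X Y : Over S} (f : X ⟶ Y) (hf : LocallyOfFiniteType f.left) :
    AlgSp.LocP @LocallyOfFiniteType ((AlgSp.yon S).map f) :=
  locP_yon_map @LocallyOfFiniteType (fun _ _ _ _ => inferInstance) f hf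

theorem locP_lfp {X Y : Over S} (f : X ⟶ Y) (hf : LocallyOfFinitePresentation f.left) :
    AlgSp.LocP @LocallyOfFinitePresentation ((AlgSp.yon S).map f) :=
  locP_yon_map @LocallyOfFinitePresentation (fun _ _ _ _ => inferInstance) f hf

theorem locP_smooth {X Y : Over S} (f : X ⟶ Y) (hf : Smooth f.left) :
    AlgSp.LocP @Smooth ((AlgSp.yon S).map f) :=
  locP_yon_map @Smooth (fun _ _ _ _ => inferInstance) f hf

theorem isQuasiCompactMor {X Y : Over S} (f : X ⟶ Y) (hf : QuasiCompact f.left) :
    AlgSp.IsQuasiCompactMor ((AlgSp.yon S).map f) :=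
  K596.QC.isQuasiCompactMor_of_repWith ((AlgSp.repWith_yon_map_iff @QuasiCompact f).2 hf)

theorem isUnivClosedMor {X Y : Over S} (f : X ⟶ Y) (hf : UniversallyClosed f.left) :
    AlgSp.IsUnivClosedMor ((AlgSp.yon S).map f) :=
  (K596.Univ.repWith_universallyClosed_iff (AlgSp.representable_yon_map f)).1
    ((AlgSp.repWith_yon_map_iff @UniversallyClosed f).2 hf)

theorem isProperMor {X Y : Over S} (f : X ⟶ Y) (hf : IsProper f.left) :
    AlgSp.IsProperMor ((AlgSp.yon S).map f) :=
  ⟨(AlgSp.isSeparatedMor_yon_map_iff f).2 inferInstance,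
    ⟨locP_lft f inferInstance, isQuasiCompactMor f inferInstance⟩, isUnivClosedMor f inferInstance⟩

theorem isFinitePresentationMor {X Y : Over S} (f : X ⟶ Y) (hf : LocallyOfFinitePresentation f.left)
    (hc : QuasiCompact f.left) (hs : QuasiSeparated f.left) :
    AlgSp.IsFinitePresentationMor ((AlgSp.yon S).map f) :=
  ⟨locP_lfp f hf, isQuasiCompactMor f hc, (AlgSp.isQuasiSeparatedMor_yon_map_iff f).2 hs⟩

theorem relDimLE {X Y : Over S} (d : ℕ) (f : X ⟶ Y) (hf : ∀ x, FlatMor.fibreDimAt f.left x ≤ (d : WithBot ℕ∞)) :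
    RelDimLE d ((AlgSp.yon S).map f) := by
  intro x
  obtain ⟨t, rfl⟩ := (AlgSp.Points.schemeHomeo X).surjective x
  refine ⟨X, Y, 𝟙 _, 𝟙 _, f, t, (K613.Chart.Ch.id X).et, (K613.Chart.Ch.id Y).et, by simp, ?_, hf t⟩
  rfl

/-- A family of schemes which is flat, proper, of finite presentation and of relative dimension at most one is a
family of curves in the sense of algebraic spaces. -/
theorem isCurveFam_toSpFam (A : PtFamObj S n) (h1 : Flat A.f) (h2 : IsProper A.f)
    (h3 : LocallyOfFinitePresentation A.f) (h4 : ∀ x, FlatMor.fibreDimAt A.f x ≤ 1) :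
    IsCurveFam ((toSpFam S n).obj A) :=
  ⟨AlgSp.IsAlgSpace.yon_obj _, locP_flat A.fOver h1, isProperMor A.fOver h2,
    isFinitePresentationMor A.fOver h3 (show QuasiCompact A.f from inferInstance)
      (show QuasiSeparated A.f from inferInstance),
    relDimLE 1 A.fOver (fun x => by simpa using h4 x)⟩

/-- The family of schemes as an object of the stack of curves. -/
noncomputable def toCurves (A : PtFamObj S n) (h1 : Flat A.f) (h2 : IsProper A.f)
    (h3 : LocallyOfFinitePresentation A.f) (h4 : ∀ x, FlatMor.fibreDimAt A.f x ≤ 1) :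
    (Curves S n).obj :=
  ⟨(toSpFam S n).obj A, isCurveFam_toSpFam A h1 h2 h3 h4⟩

end K899.CurveFam
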