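import Groth.Agent.CurvSt.K899.LocCrit
import Groth.Agent.S1591
import Groth.Agent.S1592
import Groth.Agent.S1593
import Groth.Agent.Sga7.H734.NodalBC

/-!
# The at-worst-nodal locus is an open substack of the stack of curves
-/

set_option autoImplicit false

universe u

open CategoryTheory CategoryTheory.Limits AlgebraicGeometry

namespace K899.NodalLoc

theorem nodal_of_cover {U' U V : Scheme.{u}} (e : U' ⟶ U) (h : U ⟶ V) (he : Etale e) (hs : Surjective e)
    (H : Curv2.IsNodalFamily (e ≫ h)) : Curv2.IsNodalFamily h :=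
  Groth.Agent.S1593.result h PUnit (fun _ => U') (fun _ => e) (fun x => ⟨PUnit.unit, hs.surj x⟩) (fun _ => H)

theorem nodal_of_postcomp {U V V' : Scheme.{u}} (h : U ⟶ V) (e : V ⟶ V') (he : Etale e)
    (H : Curv2.IsNodalFamily (h ≫ e)) : Curv2.IsNodalFamily h := by
  have h1 : Curv2.IsNodalFamily (pullback.snd (h ≫ e) e) :=
    Groth.Agent.Sga7.H734.NodalBC.isNodalFamily_of_isPullback (IsPullback.of_hasPullback (h ≫ e) e) H
  let s : U ⟶ pullback (h ≫ e) e := pullback.lift (𝟙 U) h (by simp)
  have hs : Etale s := by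
    have : Etale (s ≫ pullback.fst (h ≫ e) e) := by
      rw [pullback.lift_fst]; infer_instance
    exact Etale.of_comp s (pullback.fst (h ≫ e) e)
  have h2 := Groth.Agent.S1592.result (pullback.snd (h ≫ e) e) h1 s
  rwa [pullback.lift_snd] at h2

theorem openLoc_nodal : LocCrit.OpenLoc CurvSt.nodalFam.{u} where
  of_postcomp h e he H := nodal_of_postcomp h e he H
  of_cover e h he hs H := nodal_of_cover e h he hs H
  locus {U V} h hfl hfp := by
    refine ⟨Groth.Agent.S1591.nodalLocus h, fun {V' Y U'} g fst snd sq e he => ?_⟩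
    have hN := Groth.Agent.S1591.nodalLocus_of_isPullback sq
    have hfl' : Flat snd := MorphismProperty.of_isPullback sq hfl
    have hfp' : LocallyOfFinitePresentation snd := MorphismProperty.of_isPullback sq hfp
    constructor
    · intro H
      have hopen : IsOpen (Set.range e) := e.isOpenMap.isOpen_range
      let R : Y.Opens := ⟨Set.range e, hopen⟩
      let e' : U' ⟶ R := IsOpenImmersion.lift R.ι e (by rw [Scheme.Opens.range_ι]; exact subset_rfl)
      have he' : e' ≫ R.ι = e := IsOpenImmersion.lift_fac _ _ _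
      have h1 : Etale e' := by
        have : Etale (e' ≫ R.ι) := by rw [he']; exact he
        exact Etale.of_comp e' R.ι
      have h2 : Surjective e' := ⟨fun y => by
        obtain ⟨z, hz⟩ := y.2
        refine ⟨z, R.ι.isOpenEmbedding.injective ?_⟩
        have h5 : R.ι (e' z) = (e' ≫ R.ι) z := rfl
        rw [h5, he', hz]
        rfl⟩
      have h3 : Curv2.IsNodalFamily (R.ι ≫ snd) := nodal_of_cover e' _ h1 h2 (by
        rw [← Category.assoc, he']; exact H)
      have h4 := Groth.Agent.S1591.le_nodalLocus snd R h3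
      rw [hN] at h4
      rintro _ ⟨z, rfl⟩
      exact h4 ⟨z, rfl⟩
    · intro H
      have h1 : Set.range e ⊆ Set.range (Groth.Agent.S1591.nodalLocus snd).ι := by
        rw [Scheme.Opens.range_ι, hN]
        rintro _ ⟨z, rfl⟩
        exact H ⟨z, rfl⟩
      let e' : U' ⟶ Groth.Agent.S1591.nodalLocus snd := IsOpenImmersion.lift _ e h1
      have he' : e' ≫ (Groth.Agent.S1591.nodalLocus snd).ι = e := IsOpenImmersion.lift_fac _ _ _
      have h2 : Etale e' := by
        have : Etale (e' ≫ (Groth.Agent.S1591.nodalLocus snd).ι) := by rw [he']; exact he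
        exact Etale.of_comp e' (Groth.Agent.S1591.nodalLocus snd).ι
      have h3 := Groth.Agent.S1592.result _ (Groth.Agent.S1591.isNodalFamily_nodalLocus snd) e'
      rw [← Category.assoc, he'] at h3
      exact h3

/-- The families at-worst-nodal of relative dimension one form an open substack of the stack of curves. -/
theorem isOpenSubstack_nodal (S : Scheme.{u}) (n : ℕ)
    (hC : AlgSt.IsAlgStack Scheme.fppfPrecoverage (CurvSt.Curves S n)) :
    AlgSt.IsOpenSubstack (CurvSt.Curves S n) (fun A => AlgSp.LocP CurvSt.nodalFam A.obj.f)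
      Scheme.fppfPrecoverage :=
  LocCrit.isOpenSubstack openLoc_nodal S n hC

end K899.NodalLoc
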