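import Groth.Prelude.Def_StCurv2
import Groth.Agent.CurvSt.K899.OpenCrit
import Groth.Agent.AlgSp.K609.Points
import Groth.Agent.AlgSp.K613.Chart

/-!
# Openness of etale-local loci in families of curves

`K899.LocCrit.OpenLoc P`: conditions on a property `P` of morphisms of schemes (etale local on the source, insensitive to etale
postcomposition, with an open locus in the source of every flat finitely presented morphism, compatible with base change).
`K899.LocCrit.exists_locus`: for `f : X ⟶ h_T` universally closed, flat, lfp with `X` an algebraic space, `LocP P` of base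
changes of `f` is an open condition on the base.
`K899.LocCrit.hasOpenLocus`, `K899.LocCrit.isOpenSubstack`: the locus `LocP P` in `CurvSt.Curves S n` is an open substack.
-/

set_option autoImplicit false

universe u

open CategoryTheory CategoryTheory.Limits AlgebraicGeometry Opposite AlgSp

namespace K899.LocCrit

/-- Conditions on a property `P` of morphisms of schemes making `AlgSp.LocP P` an open condition in proper flat families. -/
structure OpenLoc (P : MorphismProperty Scheme.{u}) : Prop where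
  /-- etale postcomposition can be cancelled -/
  of_postcomp : ∀ {U V V' : Scheme.{u}} (h : U ⟶ V) (e : V ⟶ V'), Etale e → P (h ≫ e) → P h
  /-- `P` descends along etale surjective maps on the source -/
  of_cover : ∀ {U' U V : Scheme.{u}} (e : U' ⟶ U) (h : U ⟶ V), Etale e → Surjective e → P (e ≫ h) → P h
  /-- open locus, compatible with base change and etale localisation -/
  locus : ∀ {U V : Scheme.{u}} (h : U ⟶ V), Flat h → LocallyOfFinitePresentation h →
    ∃ W : U.Opens, ∀ {V' Y U' : Scheme.{u}} (g : V' ⟶ V) (fst : Y ⟶ U) (snd : Y ⟶ V'),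
      IsPullback fst snd h g → ∀ (e : U' ⟶ Y), Etale e → (P (e ≫ snd) ↔ Set.range (e ≫ fst) ⊆ W)

variable {S : Scheme.{u}} {P : MorphismProperty Scheme.{u}}

theorem exists_locus (hP : OpenLoc P) {X : Sp S} {T : Over S} (hX : IsAlgSpace X) (f : X ⟶ (yon S).obj T)
    (hfl : LocP @Flat f) (hfp : LocP @LocallyOfFinitePresentation f) (hcl : IsUnivClosedMor f) :
    ∃ U : T.left.Opens, ∀ {T' : Over S} (g : T' ⟶ T) {X' : Sp S} (top : X' ⟶ X) (f' : X' ⟶ (yon S).obj T'),
      IsPullback top f' f ((yon S).map g) → (LocP P f' ↔ Set.range g.left ⊆ U) := by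
  obtain ⟨V, p, hp⟩ := K613.Chart.exists_ch hX
  obtain ⟨h, hh⟩ := (yon S).map_surjective (p ≫ f)
  have hfl' : Flat h.left := hfl p (𝟙 _) h hp.et (K613.Chart.Ch.id T).et (by simp [hh])
  have hfp' : LocallyOfFinitePresentation h.left := hfp p (𝟙 _) h hp.et (K613.Chart.Ch.id T).et (by simp [hh])
  obtain ⟨W, hW⟩ := hP.locus h.left hfl' hfp'
  -- `W` is stable under the equivalence relation
  have hstab : ∀ u w : ↥V.left, Points.ofPt p u = Points.ofPt p w → w ∈ W → u ∈ W := by
    intro u w huw hw
    obtain ⟨R, t, s, sq⟩ := hp.et.1 p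
    obtain ⟨s, rfl⟩ := (yon S).map_surjective s
    obtain ⟨r, hr1, hr2⟩ := (K609.Points.ofPt_eq_ofPt_iff sq u w).1 huw
    have hst : s ≫ h = t ≫ h := by
      apply (yon S).map_injective
      rw [Functor.map_comp, Functor.map_comp, hh, ← Category.assoc, ← Category.assoc, sq.w]
    have ht : Etale t.left := hp.et.2 p _ _ sq
    have hs : Etale s.left := hp.et.2 p _ _ sq.flip
    have hpb : IsPullback (𝟙 V.left) h.left h.left (𝟙 T.left) := IsPullback.of_horiz_isIso ⟨by simp⟩
    have e1 := hW (𝟙 T.left) (𝟙 V.left) h.left hpb ((t.left ⁻¹ᵁ W).ι ≫ t.left) inferInstance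
    have e2 := hW (𝟙 T.left) (𝟙 V.left) h.left hpb ((t.left ⁻¹ᵁ W).ι ≫ s.left) inferInstance
    have h1 : P (((t.left ⁻¹ᵁ W).ι ≫ t.left) ≫ h.left) := by
      rw [e1]
      rintro _ ⟨z, rfl⟩
      simp only [Category.comp_id]
      exact z.2
    have h2 : ((t.left ⁻¹ᵁ W).ι ≫ t.left) ≫ h.left = ((t.left ⁻¹ᵁ W).ι ≫ s.left) ≫ h.left := by
      have := congrArg CommaMorphism.left hst
      simp only [Category.assoc]
      rw [← Over.comp_left, ← Over.comp_left, hst]
    rw [h2, e2] at h1
    have hr : r ∈ t.left ⁻¹ᵁ W := by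
      change t.left r ∈ W
      rw [hr2]; exact hw
    have h3 := h1 ⟨⟨r, hr⟩, rfl⟩
    simp only [Category.comp_id, Scheme.Hom.comp_apply] at h3
    rw [← hr1]
    exact h3
  -- the closed image
  have hsurj := K609.Points.surjective_ofPt_of_repWith_surjective hp.surj
  have hZ : IsClosed (Points.ofPt p '' (Wᶜ : Set V.left)) := by
    have : (Points.ofPt p '' (Wᶜ : Set V.left)) = (Points.ofPt p '' (W : Set V.left))ᶜ := by
      ext x
      constructor
      · rintro ⟨z, hz, rfl⟩ ⟨w, hw, hzw⟩
        exact hz (hstab z w hzw.symm hw)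
      · intro hx
        obtain ⟨z, rfl⟩ := hsurj x
        exact ⟨z, fun hz => hx ⟨z, hz, rfl⟩, rfl⟩
    rw [this]
    exact (K609.Points.isOpenMap_ofPt hp.et _ W.2).isClosed_compl
  have hclm : IsClosedMap (Points.map f) :=
    hcl (IsAlgSpace.yon_obj T) (𝟙 _) (𝟙 _) f (IsPullback.of_horiz_isIso ⟨by simp⟩)
  have hZ' : IsClosed (h.left '' (Wᶜ : Set V.left)) := by
    have h1 : h.left '' (Wᶜ : Set V.left) =
        Points.schemeHomeo T ⁻¹' (Points.map f '' (Points.ofPt p '' (Wᶜ : Set V.left))) := by
      ext t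
      constructor
      · rintro ⟨z, hz, rfl⟩
        refine ⟨_, ⟨z, hz, rfl⟩, ?_⟩
        rw [Points.map_ofPt, ← hh]
        exact K609.Points.ofPt_yon_map h z
      · rintro ⟨_, ⟨z, hz, rfl⟩, hzt⟩
        refine ⟨z, hz, ?_⟩
        rw [Points.map_ofPt, ← hh, K609.Points.ofPt_yon_map] at hzt
        exact K609.Points.ofScheme_injective T hzt
    rw [h1]
    exact (hclm _ hZ).preimage (Points.schemeHomeo T).continuous
  refine ⟨⟨_, hZ'.isOpen_compl⟩, fun {T'} g {X'} top f' sq => ?_⟩
  -- the base change of the chart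
  let Y : Over S := pullback h g
  have hY : IsPullback (pullback.fst h g) (pullback.snd h g) h g := IsPullback.of_hasPullback h g
  have hYy : IsPullback ((yon S).map (pullback.fst h g)) ((yon S).map (pullback.snd h g)) (p ≫ f)
      ((yon S).map g) := by rw [← hh]; exact hY.map (yon S)
  have hYs : IsPullback (pullback.fst h g).left (pullback.snd h g).left h.left g.left :=
    hY.map (Over.forget S)
  let a' : (yon S).obj Y ⟶ X' := sq.lift ((yon S).map (pullback.fst h g) ≫ p) ((yon S).map (pullback.snd h g))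
    (by rw [Category.assoc]; exact hYy.w)
  have ha1 : a' ≫ top = (yon S).map (pullback.fst h g) ≫ p := sq.lift_fst _ _ _
  have ha2 : a' ≫ f' = (yon S).map (pullback.snd h g) := sq.lift_snd _ _ _
  have sq2 : IsPullback ((yon S).map (pullback.fst h g)) a' p top := by
    refine IsPullback.of_bot ?_ ha1.symm sq
    rw [ha2]
    exact hYy
  have ha'et : RepWith @Etale a' := (repWith_isStableUnderBaseChange @Etale).of_isPullback sq2 hp.et
  have ha'su : RepWith @Surjective a' := (repWith_isStableUnderBaseChange @Surjective).of_isPullback sq2 hp.surj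
  constructor
  · -- the locus is everything
    intro hL
    have h1 : P (pullback.snd h g).left :=
      hL a' (𝟙 _) (pullback.snd h g) ha'et (K613.Chart.Ch.id T').et (by rw [ha2, Category.comp_id])
    have h2 := (hW g.left _ _ hYs (𝟙 _) inferInstance).1 (by rwa [Category.id_comp])
    rintro _ ⟨t', rfl⟩ ⟨z, hz, hzt⟩
    obtain ⟨y, hy1, hy2⟩ := Scheme.exists_preimage_of_isPullback hYs z t' hzt
    have h3 := h2 ⟨y, rfl⟩
    rw [Category.id_comp, hy1] at h3
    exact hz h3
  · intro hg U₁ V₁ a₁ b₁ h₁ ha₁ hb₁ hab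
    obtain ⟨β, rfl⟩ := (yon S).map_surjective b₁
    have hβ : Etale β.left := (repWith_yon_map_iff _ _).1 hb₁
    refine hP.of_postcomp h₁.left β.left hβ ?_
    obtain ⟨R, s, ρ, sqR⟩ := ha'et.1 a₁
    obtain ⟨ρ, rfl⟩ := (yon S).map_surjective ρ
    have hs1 : Etale s.left := ha'et.2 a₁ _ _ sqR
    have hs2 : Surjective s.left := ha'su.2 a₁ _ _ sqR
    have hρ : Etale ρ.left := ha₁.2 a' _ _ sqR.flip
    refine hP.of_cover s.left _ hs1 hs2 ?_
    have hk : s ≫ h₁ ≫ β = ρ ≫ pullback.snd h g := by
      apply (yon S).map_injective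
      rw [Functor.map_comp, Functor.map_comp, ← hab, ← Category.assoc, ← sqR.w, Category.assoc, ha2,
        ← Functor.map_comp]
    have hk' : s.left ≫ h₁.left ≫ β.left = ρ.left ≫ (pullback.snd h g).left := by
      rw [← Over.comp_left, ← Over.comp_left, hk, Over.comp_left]
    rw [hk', hW g.left _ _ hYs ρ.left hρ]
    rintro _ ⟨r, rfl⟩
    by_contra hr
    have h3 : g.left ((pullback.snd h g).left (ρ.left r)) ∈ (h.left '' (Wᶜ : Set V.left)) := by
      refine ⟨(pullback.fst h g).left (ρ.left r), hr, ?_⟩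
      have h4 := congrArg (fun t : Y.left ⟶ T.left => t (ρ.left r)) hYs.w
      exact h4
    exact hg ⟨_, rfl⟩ h3

/-- `LocP P` is an open condition in the stack of pointed curves. -/
theorem hasOpenLocus (hP : OpenLoc P) (S : Scheme.{u}) (n : ℕ) :
    OpenCrit.HasOpenLocus (𝒳 := CurvSt.Curves S n) (fun A => LocP P A.obj.f) := by
  intro A
  obtain ⟨hX, hfl, hpr, hfp, -⟩ := A.property
  obtain ⟨U, hU⟩ := exists_locus hP hX A.obj.f hfl hfp.1 hpr.2.2
  exact ⟨U, fun B φ => hU φ.hom.base φ.hom.top B.obj.f φ.hom.cart⟩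

/-- The open substack of the stack of curves cut out by an etale-local property. -/
theorem isOpenSubstack (hP : OpenLoc P) (S : Scheme.{u}) (n : ℕ)
    (hC : AlgSt.IsAlgStack Scheme.fppfPrecoverage (CurvSt.Curves S n)) :
    AlgSt.IsOpenSubstack (CurvSt.Curves S n) (fun A => LocP P A.obj.f) Scheme.fppfPrecoverage :=
  OpenCrit.isOpenSubstack hC (hasOpenLocus hP S n)

end K899.LocCrit
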