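import Groth.Agent.CurvSt.K899.LocCrit
import Groth.Agent.CurvSt.K901.Loci
import Groth.Agent.AlgSp.K597.EtLoc

/-!
# Pointwise properties of morphisms define open substacks of the stack of curves

For `hR : K901.Loci.LocusProp R`, the families `A` with `LocP (fun _ _ f => ∀ x, R f x) A.f` form an open substack of the stack
of pointed curves.
-/

set_option autoImplicit false

universe u

open CategoryTheory CategoryTheory.Limits AlgebraicGeometry

namespace K899.LociAdapt

open K901.Loci

/-- Flat, locally of finite presentation, and `R` at every point. -/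
def PR (R : PtProp.{u}) : MorphismProperty Scheme.{u} := fun _ _ f =>
  Flat f ∧ LocallyOfFinitePresentation f ∧ ∀ x, R f x

variable {R : PtProp.{u}}

theorem openLoc (hR : LocusProp R) : LocCrit.OpenLoc (PR R) where
  of_postcomp h e he := by
    rintro ⟨h1, h2, h3⟩
    have h1' : Flat h := K597.etLoc_flat.cancel h e he h1
    have h2' : LocallyOfFinitePresentation h := K597.etLoc_lfp.cancel h e he h2
    exact ⟨h1', h2', fun x => (hR.target h e x).1 (h3 x)⟩
  of_cover e h he hs := by
    rintro ⟨h1, h2, h3⟩
    have h1' : Flat h := K597.etLoc_flat.descend e h he hs h1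
    have h2' : LocallyOfFinitePresentation h := K597.etLoc_lfp.descend e h he hs h2
    refine ⟨h1', h2', fun x => ?_⟩
    obtain ⟨z, rfl⟩ := hs.surj x
    exact (hR.source e h z).1 (h3 z)
  locus {U V} h hfl hfp := by
    refine ⟨⟨{x | R h x}, hR.isOpen h⟩, fun {V' Y U'} g fst snd sq e he => ?_⟩
    have hfl' : Flat snd := MorphismProperty.of_isPullback sq hfl
    have hfp' : LocallyOfFinitePresentation snd := MorphismProperty.of_isPullback sq hfp
    have key : ∀ z, R (e ≫ snd) z ↔ R h ((e ≫ fst) z) := fun z => by
      rw [hR.source e snd z, hR.baseChange h snd fst g sq (e z)]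
      rfl
    constructor
    · rintro ⟨-, -, h3⟩ _ ⟨z, rfl⟩
      exact (key z).1 (h3 z)
    · intro H
      exact ⟨inferInstance, inferInstance, fun z => (key z).2 (H ⟨z, rfl⟩)⟩

/-- On a family of curves `LocP (PR R)` is `LocP` of the pointwise condition. -/
theorem locP_PR_iff (S : Scheme.{u}) (n : ℕ) (A : (CurvSt.Curves S n).obj) :
    AlgSp.LocP (PR R) A.obj.f ↔ AlgSp.LocP (fun _ _ f => ∀ x, R f x) A.obj.f := by
  obtain ⟨-, hfl, -, hfp, -⟩ := A.property
  constructor
  · intro h U V a b i ha hb hab
    exact (h a b i ha hb hab).2.2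
  · intro h U V a b i ha hb hab
    exact ⟨hfl a b i ha hb hab, hfp.1 a b i ha hb hab, h a b i ha hb hab⟩

/-- The open substack of the stack of curves cut out by a pointwise property. -/
theorem isOpenSubstack (hR : LocusProp R) (S : Scheme.{u}) (n : ℕ)
    (hC : AlgSt.IsAlgStack Scheme.fppfPrecoverage (CurvSt.Curves S n)) :
    AlgSt.IsOpenSubstack (CurvSt.Curves S n) (fun A => AlgSp.LocP (fun _ _ f => ∀ x, R f x) A.obj.f)
      Scheme.fppfPrecoverage := by
  have h := LocCrit.isOpenSubstack (openLoc hR) S n hC
  have e : (fun A : (CurvSt.Curves S n).obj => AlgSp.LocP (PR R) A.obj.f) =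
      (fun A => AlgSp.LocP (fun _ _ f => ∀ x, R f x) A.obj.f) :=
    funext fun A => propext (locP_PR_iff S n A)
  rwa [e] at h

end K899.LociAdapt
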