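import Groth.Agent.CurvSt.K899.CurveFam
import Groth.Agent.CurvSt.K899.NodalLoc
import Groth.Agent.CurvSt.K903.GeomFib
import Groth.Agent.TopDim.K284.Basic
import Groth.Agent.S10831

/-!
# Proper at-worst-nodal families of schemes as objects of the stack of curves

`K899.NodalFib.fam T f` is the unpointed family `f : C ⟶ T.left` over `T : Over S`.
-/

set_option autoImplicit false

universe u

open CategoryTheory CategoryTheory.Limits AlgebraicGeometry Opposite

namespace K899.NodalFib

open CurvSt

variable {S : Scheme.{u}}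

/-- All irreducible components of dimension one: the dimension is at most one. -/
theorem fibreDimAt_le {X T : Scheme.{u}} (f : X ⟶ T)
    (h : ∀ s : T, ∀ Z ∈ irreducibleComponents (f.fiber s : Type u), topologicalKrullDim Z = 1) (x : X) :
    FlatMor.fibreDimAt f x ≤ 1 := by
  refine (K284.TopDim.localDim_le_dim _).trans ?_
  rw [Groth.Agent.S10831.result]
  exact iSup₂_le fun Z hZ => (h _ Z hZ).le

/-- The unpointed family attached to a morphism of schemes. -/
def fam (T : Over S) {C : Scheme.{u}} (f : C ⟶ T.left) : PtFamObj S 0 where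
  base := T
  C := C
  f := f
  sect := Fin.elim0
  sect_f i := i.elim0

/-- A nodal family of schemes is nodal as a family of algebraic spaces. -/
theorem locP_nodal {X Y : Over S} (f : X ⟶ Y) (hf : Curv2.IsNodalFamily f.left) :
    AlgSp.LocP nodalFam ((AlgSp.yon S).map f) := by
  refine CurveFam.locP_nodal_yon_map f (fun f' g' g sq => ?_) (fun a f ha h => ?_)
  · exact Groth.Agent.Sga7.H734.NodalBC.isNodalFamily_of_isPullback sq hf
  · exact Groth.Agent.S1592.result f h a

theorem isCurveFam (A : PtFamObj S 0) (hp : IsProper A.f) (hf : Curv2.IsNodalFamily A.f) :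
    IsCurveFam ((toSpFam S 0).obj A) :=
  CurveFam.isCurveFam_toSpFam A hf.1 hp hf.2.1 (fibreDimAt_le A.f fun s => (hf.2.2 s).1)

/-- The object of the stack of curves given by a proper nodal family of schemes. -/
theorem nonempty_fiber (T : Over S) {C : Scheme.{u}} (f : C ⟶ T.left) (hp : IsProper f)
    (hf : Curv2.IsNodalFamily f) (Q : (Curves S 0).obj → Prop)
    (hQ : ∀ h, Q ⟨(toSpFam S 0).obj (fam T f), h⟩) : Nonempty ((AlgSt.fullSub (Curves S 0) Q).p.Fiber T) :=
  ⟨⟨⟨⟨(toSpFam S 0).obj (fam T f), isCurveFam (fam T f) hp hf⟩, hQ _⟩, rfl⟩⟩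

end K899.NodalFib
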