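import Groth.Agent.CurvSt.K899.CtrL4

/-!
# Local existence of a contraction of a family, fppf locally on the base
-/

set_option autoImplicit false
universe u
open CategoryTheory CategoryTheory.Limits AlgebraicGeometry TopologicalSpace Opposite

namespace K899.Ctr

open Groth.Agent

variable {K : Type u} [Field K]

theorem exists_multisection {C T : Scheme.{u}} (f : C ⟶ T) [Flat f] [LocallyOfFinitePresentation f]
    (τ : Spec (CommRingCat.of K) ⟶ T) {m : ℕ} (x : Fin m → (Spec (CommRingCat.of K) ⟶ C))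
    (hx : ∀ j, x j ≫ f = τ) (hSM : ∀ j, SM f (x j (pt K))) :
    ∃ (T' : Scheme.{u}) (b : T' ⟶ T) (_ : Flat b) (_ : LocallyOfFinitePresentation b)
      (τ' : Spec (CommRingCat.of K) ⟶ T') (s : Fin m → (T' ⟶ C)),
      τ' ≫ b = τ ∧ (∀ j, s j ≫ f = b) ∧ (∀ j, τ' ≫ s j = x j) ∧ ∀ j t, SM f (s j t) := by
  induction m with
  | zero =>
    exact ⟨T, 𝟙 T, inferInstance, inferInstance, τ, fun j => j.elim0, Category.comp_id _, fun j => j.elim0,
      fun j => j.elim0, fun j => j.elim0⟩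
  | succ m ih =>
    obtain ⟨T₁, b, hb1, hb2, τ₁, s, h1, h2, h3, h4⟩ := ih (fun j => x j.castSucc) (fun j => hx _) (fun j => hSM _)
    have hr : Set.range (x (Fin.last m)) ⊆ Set.range (smOpens f).ι := by
      rintro _ ⟨t, rfl⟩
      rw [Scheme.Opens.range_ι, Subsingleton.elim t (pt K)]
      exact hSM _
    obtain ⟨y, hy⟩ : ∃ y : Spec (CommRingCat.of K) ⟶ (smOpens f).toScheme, y ≫ (smOpens f).ι = x (Fin.last m) :=
      ⟨IsOpenImmersion.lift (smOpens f).ι _ hr, IsOpenImmersion.lift_fac _ _ _⟩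
    obtain ⟨S, hS1, hS2⟩ : ∃ S : Fin (m + 1) → (pullback b ((smOpens f).ι ≫ f) ⟶ C),
        S (Fin.last m) = pullback.snd _ _ ≫ (smOpens f).ι ∧ ∀ j : Fin m, S j.castSucc = pullback.fst _ _ ≫ s j :=
      ⟨fun j => Fin.lastCases (motive := fun _ => pullback b ((smOpens f).ι ≫ f) ⟶ C)
        (pullback.snd _ _ ≫ (smOpens f).ι) (fun j => pullback.fst _ _ ≫ s j) j, by simp, by simp⟩
    refine ⟨pullback b ((smOpens f).ι ≫ f), pullback.fst _ _ ≫ b, inferInstance, inferInstance,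
      pullback.lift τ₁ y (by rw [h1, reassoc_of% hy, hx]), S, ?_, ?_, ?_, ?_⟩
    · rw [pullback.lift_fst_assoc, h1]
    · intro j
      refine Fin.lastCases ?_ (fun j => ?_) j
      · rw [hS1, Category.assoc, pullback.condition]
      · rw [hS2, Category.assoc, h2]
    · intro j
      refine Fin.lastCases ?_ (fun j => ?_) j
      · rw [hS1, pullback.lift_snd_assoc, hy]
      · rw [hS2, pullback.lift_fst_assoc, h3]
    · intro j
      refine Fin.lastCases ?_ (fun j => ?_) j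
      · intro t
        rw [hS1, Scheme.Hom.comp_apply]
        exact (pullback.snd b ((smOpens f).ι ≫ f) t).2
      · intro t
        rw [hS2, Scheme.Hom.comp_apply]
        exact h4 j _

theorem exists_multisection_affine {C T : Scheme.{u}} (f : C ⟶ T) [Flat f] [LocallyOfFinitePresentation f]
    (τ : Spec (CommRingCat.of K) ⟶ T) {m : ℕ} (x : Fin m → (Spec (CommRingCat.of K) ⟶ C))
    (hx : ∀ j, x j ≫ f = τ) (hSM : ∀ j, SM f (x j (pt K))) :
    ∃ (A : Type u) (_ : CommRing A) (b : Spec (CommRingCat.of A) ⟶ T) (_ : Flat b) (_ : LocallyOfFinitePresentation b)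
      (τ' : Spec (CommRingCat.of K) ⟶ Spec (CommRingCat.of A)) (s : Fin m → (Spec (CommRingCat.of A) ⟶ C)),
      τ' ≫ b = τ ∧ (∀ j, s j ≫ f = b) ∧ (∀ j, τ' ≫ s j = x j) ∧ ∀ j t, SM f (s j t) := by
  obtain ⟨T', b, hb1, hb2, τ', s, h1, h2, h3, h4⟩ := exists_multisection f τ x hx hSM
  obtain ⟨W, hW, hxW, -⟩ := exists_isAffineOpen_mem_and_subset (U := (⊤ : T'.Opens)) (x := τ' (pt K)) trivial
  let j : Spec (CommRingCat.of Γ(T', W)) ⟶ T' := hW.fromSpec
  have hr : Set.range τ' ⊆ Set.range j := by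
    rintro _ ⟨t, rfl⟩
    have h5 : Set.range j = W := hW.range_fromSpec
    rw [h5, Subsingleton.elim t (pt K)]
    exact hxW
  have hj : IsOpenImmersion j := inferInstanceAs (IsOpenImmersion hW.fromSpec)
  obtain ⟨τ'', hτ''⟩ : ∃ y : Spec (CommRingCat.of K) ⟶ Spec (CommRingCat.of Γ(T', W)), y ≫ j = τ' :=
    ⟨IsOpenImmersion.lift j _ hr, IsOpenImmersion.lift_fac _ _ _⟩
  refine ⟨Γ(T', W), inferInstance, j ≫ b, inferInstance, inferInstance, τ'', fun k => j ≫ s k, ?_, fun k => ?_, fun k => ?_,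
    fun k t => ?_⟩
  · rw [reassoc_of% hτ'', h1]
  · rw [Category.assoc, h2]
  · rw [reassoc_of% hτ'', h3]
  · rw [Scheme.Hom.comp_apply]
    exact h4 k _

/-- **Local existence of the contraction, fppf locally on the base.** -/
theorem exists_local [IsAlgClosed K] {C T X Y : Scheme.{u}} (f : C ⟶ T) [IsProper f] [Flat f]
    [LocallyOfFinitePresentation f] (τ : Spec (CommRingCat.of K) ⟶ T) {i : X ⟶ C} {q : X ⟶ Spec (CommRingCat.of K)}
    (sq : IsPullback i q f τ) {c : X ⟶ Y} (hc : IsCtr c) {qY : Y ⟶ Spec (CommRingCat.of K)} [IsProper qY]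
    (hcq : c ≫ qY = q) (hdimX : topologicalKrullDim X ≤ 1) (hdimY : topologicalKrullDim Y ≤ 1) [IsReduced Y] :
    ∃ (T' C' C₁ : Scheme.{u}) (b : T' ⟶ T) (p : C' ⟶ C) (f' : C' ⟶ T') (g : C₁ ⟶ T') (γ : C' ⟶ C₁)
      (τ' : Spec (CommRingCat.of K) ⟶ T') (i' : X ⟶ C') (e : Y ⟶ C₁),
      Flat b ∧ LocallyOfFinitePresentation b ∧ τ' ≫ b = τ ∧ IsPullback p f' f b ∧ i' ≫ p = i ∧ γ ≫ g = f' ∧
        IsProper g ∧ Flat g ∧ LocallyOfFinitePresentation g ∧ IsCtr γ ∧ IsPullback e qY g τ' ∧ IsPullback i' c γ e := by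
  have hPq : IsProper q := MorphismProperty.of_isPullback (P := @IsProper) sq inferInstance
  have hPc : IsProper c := by
    have : IsProper (c ≫ qY) := by rw [hcq]; exact hPq
    exact IsProper.of_comp c qY
  obtain ⟨m, x, y, h1, h2, h3, h4, h5, h6⟩ := exists_points (c := c) (qY := qY) hc hdimX hdimY
  have hxq : ∀ j, x j ≫ q = 𝟙 _ := fun j => by rw [← hcq, reassoc_of% (h1 j), h2]
  obtain ⟨A, _, b, hb1, hb2, τ', s, k1, k2, k3, k4⟩ := exists_multisection_affine f τ (fun j => x j ≫ i)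
    (fun j => by rw [Category.assoc, sq.w, reassoc_of% (hxq j)]) (fun j => by
      rw [Scheme.Hom.comp_apply, ← locusProp_SM.baseChange f q i τ sq, ← hcq]
      exact h4 j)
  have sqb : IsPullback (pullback.fst f b) (pullback.snd f b) f b := IsPullback.of_hasPullback f b
  let i' : X ⟶ pullback f b := pullback.lift i (q ≫ τ') (by rw [Category.assoc, k1, sq.w])
  have hi'1 : i' ≫ pullback.fst f b = i := pullback.lift_fst _ _ _
  have hi'2 : i' ≫ pullback.snd f b = q ≫ τ' := pullback.lift_snd _ _ _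
  have sq' : IsPullback i' q (pullback.snd f b) τ' := by
    refine IsPullback.of_right ?_ hi'2 sqb
    rw [hi'1, k1]
    exact sq
  let σ : Fin m → (Spec (CommRingCat.of A) ⟶ pullback f b) := fun j => pullback.lift (s j) (𝟙 _) (by rw [k2, Category.id_comp])
  have hσ1 : ∀ j, σ j ≫ pullback.fst f b = s j := fun j => pullback.lift_fst _ _ _
  have hσ2 : ∀ j, σ j ≫ pullback.snd f b = 𝟙 _ := fun j => pullback.lift_snd _ _ _
  have hLC := lc_sections (pullback.snd f b) τ' sq' hc hcq hdimY x y h2 h3 h5 h6 σ hσ2 (fun j t => by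
      rw [locusProp_SM.baseChange f (pullback.snd f b) (pullback.fst f b) b sqb, ← Scheme.Hom.comp_apply, hσ1]
      exact k4 j t) (fun j => by
      apply pullback.hom_ext
      · rw [Category.assoc, hi'1, Category.assoc, hσ1, k3]
      · rw [Category.assoc, hi'2, Category.assoc, hσ2, Category.comp_id, reassoc_of% (hxq j)])
  obtain ⟨U, j, τ'', CU, iU, fU, i'', C1, g, γ, e, hj, l1, l2, l3, l4, l5, l6, l7, l8, l9, l10⟩ := hLC
  refine ⟨U, CU, C1, j ≫ b, iU ≫ pullback.fst f b, fU, g, γ, τ'', i'', e, inferInstance, inferInstance, ?_, ?_, ?_,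
    l4, l5, l6, l7, l8, l9, l10⟩
  · rw [reassoc_of% l1, k1]
  · exact l2.paste_horiz sqb
  · rw [reassoc_of% l3, hi'1]

end K899.Ctr
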