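import Groth.Agent.CurvSt.K899.DivCore4
import Groth.Agent.AlgSp.K613.Diag
import Groth.Agent.AlgSp.K610.Coeq
import Groth.Prelude.Def_AlgSpDec

/-!
# The scheme-level square of a chart of an algebraic space and a scheme over it

`W = U ×_X Z` for `a : U ⟶ X` and `z : Z ⟶ X`, with `X` separated over the scheme `B`.
-/

set_option autoImplicit false
universe u
open CategoryTheory CategoryTheory.Limits AlgebraicGeometry TopologicalSpace Opposite

namespace K899.ChartW

open AlgSp

variable {S : Scheme.{u}} {X : Sp S} {B U Z W : Over S}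

/-- the square over `B` -/
theorem comm {a : (yon S).obj U ⟶ X} {z : (yon S).obj Z ⟶ X} {q : W ⟶ U} {φ : W ⟶ Z}
    (sq : IsPullback ((yon S).map q) ((yon S).map φ) a z) {f : X ⟶ (yon S).obj B} {pU : U ⟶ B} {pZ : Z ⟶ B}
    (hU : a ≫ f = (yon S).map pU) (hZ : z ≫ f = (yon S).map pZ) : q ≫ pU = φ ≫ pZ := by
  apply (yon S).map_injective
  rw [Functor.map_comp, Functor.map_comp, ← hU, ← hZ, ← Category.assoc, ← Category.assoc, sq.w]

theorem isClosedImmersion_lift {a : (yon S).obj U ⟶ X} {z : (yon S).obj Z ⟶ X} {q : W ⟶ U} {φ : W ⟶ Z}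
    (sq : IsPullback ((yon S).map q) ((yon S).map φ) a z) {f : X ⟶ (yon S).obj B} {pU : U ⟶ B} {pZ : Z ⟶ B}
    (hU : a ≫ f = (yon S).map pU) (hZ : z ≫ f = (yon S).map pZ) (hf : IsSeparatedMor f)
    (hw : q.left ≫ pU.left = φ.left ≫ pZ.left) :
    IsClosedImmersion (pullback.lift q.left φ.left hw) := by
  let T : Over S := Over.mk (pullback.fst pU.left pZ.left ≫ U.hom)
  let r1 : T ⟶ U := Over.homMk (pullback.fst pU.left pZ.left) rfl
  let r2 : T ⟶ Z := Over.homMk (pullback.snd pU.left pZ.left) (by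
    change pullback.snd pU.left pZ.left ≫ Z.hom = pullback.fst pU.left pZ.left ≫ U.hom
    rw [← Over.w pZ, ← Over.w pU, ← pullback.condition_assoc])
  have hr : r1 ≫ pU = r2 ≫ pZ := by
    ext : 1
    exact pullback.condition
  let e : W ⟶ T := Over.homMk (pullback.lift q.left φ.left hw) (by
    change pullback.lift q.left φ.left hw ≫ pullback.fst pU.left pZ.left ≫ U.hom = W.hom
    rw [pullback.lift_fst_assoc, Over.w])
  have he1 : e ≫ r1 = q := by
    ext : 1
    exact pullback.lift_fst _ _ _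
  have he2 : e ≫ r2 = φ := by
    ext : 1
    exact pullback.lift_snd _ _ _
  have hab : ((yon S).map r1 ≫ a) ≫ f = ((yon S).map r2 ≫ z) ≫ f := by
    rw [Category.assoc, Category.assoc, hU, hZ, ← Functor.map_comp, ← Functor.map_comp, hr]
  have hE : K613.Chart.IsEq ((yon S).map r1 ≫ a) ((yon S).map r2 ≫ z) e := by
    refine ⟨?_, fun R r hr' => ?_⟩
    · rw [← Category.assoc, ← Category.assoc, ← Functor.map_comp, ← Functor.map_comp, he1, he2, sq.w]
    · obtain ⟨r', hr''⟩ := (yon S).map_surjective (sq.lift ((yon S).map (r ≫ r1)) ((yon S).map (r ≫ r2)) (by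
        rw [Functor.map_comp, Functor.map_comp, Category.assoc, Category.assoc, hr']))
      have h1 : r' ≫ q = r ≫ r1 := by
        apply (yon S).map_injective
        rw [Functor.map_comp, hr'', sq.lift_fst]
      have h2 : r' ≫ φ = r ≫ r2 := by
        apply (yon S).map_injective
        rw [Functor.map_comp, hr'', sq.lift_snd]
      refine ⟨r', ?_, fun y hy => ?_⟩
      · ext : 1
        apply pullback.hom_ext
        · have h3 := congrArg CommaMorphism.left h1
          have h4 := congrArg CommaMorphism.left (show (r' ≫ e) ≫ r1 = r ≫ r1 by rw [Category.assoc, he1, h1])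
          exact h4
        · have h4 := congrArg CommaMorphism.left (show (r' ≫ e) ≫ r2 = r ≫ r2 by rw [Category.assoc, he2, h2])
          exact h4
      · apply (yon S).map_injective
        apply sq.hom_ext
        · rw [hr'', sq.lift_fst, ← Functor.map_comp, ← he1, ← hy, Category.assoc]
        · rw [hr'', sq.lift_snd, ← Functor.map_comp, ← he2, ← hy, Category.assoc]
  exact K613.Diag.prop_of_isEq (Pr := @IsClosedImmersion) hf hab hE

theorem etale_φ {a : (yon S).obj U ⟶ X} {z : (yon S).obj Z ⟶ X} {q : W ⟶ U} {φ : W ⟶ Z}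
    (sq : IsPullback ((yon S).map q) ((yon S).map φ) a z) (ha : RepWith @Etale a) : Etale φ.left :=
  ha.2 _ _ _ sq

theorem isFinite_q {a : (yon S).obj U ⟶ X} {z : (yon S).obj Z ⟶ X} {q : W ⟶ U} {φ : W ⟶ Z}
    (sq : IsPullback ((yon S).map q) ((yon S).map φ) a z) (hz : RepWith @IsFinite z) : IsFinite q.left :=
  hz.2 _ _ _ sq.flip

theorem monoAt {a : (yon S).obj U ⟶ X} {z : (yon S).obj Z ⟶ X} {q : W ⟶ U} {φ : W ⟶ Z}
    (sq : IsPullback ((yon S).map q) ((yon S).map φ) a z) (u : U.left)
    (hu : Mono (FieldPt.ofPt a u).toHom) : DivCore.MonoAt q.left φ.left u := by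
  intro Y w1 w2 c d hφ hc hd
  have hw2 : w2 ≫ W.hom = w1 ≫ W.hom := by
    rw [← Over.w φ, reassoc_of% hφ]
  let Y' : Over S := Over.mk (w1 ≫ W.hom)
  let w1' : Y' ⟶ W := Over.homMk w1 rfl
  let w2' : Y' ⟶ W := Over.homMk w2 hw2
  let k : Over.mk (U.left.fromSpecResidueField u ≫ U.hom) ⟶ U := Over.homMk (U.left.fromSpecResidueField u) rfl
  have hcY : c ≫ U.left.fromSpecResidueField u ≫ U.hom = w1 ≫ W.hom := by
    rw [← reassoc_of% hc, Over.w]
  have hdY : d ≫ U.left.fromSpecResidueField u ≫ U.hom = w1 ≫ W.hom := by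
    rw [← reassoc_of% hd, Over.w, hw2]
  let c' : Y' ⟶ Over.mk (U.left.fromSpecResidueField u ≫ U.hom) := Over.homMk c hcY
  let d' : Y' ⟶ Over.mk (U.left.fromSpecResidueField u ≫ U.hom) := Over.homMk d hdY
  have h1 : c' ≫ k = w1' ≫ q := by
    ext : 1
    exact hc.symm
  have h2 : d' ≫ k = w2' ≫ q := by
    ext : 1
    exact hd.symm
  have h3 : w1' ≫ φ = w2' ≫ φ := by
    ext : 1
    exact hφ
  have h4 : (yon S).map c' ≫ (FieldPt.ofPt a u).toHom = (yon S).map d' ≫ (FieldPt.ofPt a u).toHom := by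
    have h5 : (FieldPt.ofPt a u).toHom = (yon S).map k ≫ a := FieldPt.toHom_ofPt a u
    rw [h5, ← Category.assoc, ← Category.assoc, ← Functor.map_comp, ← Functor.map_comp, h1, h2, Functor.map_comp,
      Functor.map_comp, Category.assoc, Category.assoc, sq.w, ← Category.assoc, ← Category.assoc,
      ← Functor.map_comp, ← Functor.map_comp, h3]
  have h6 : c' = d' := (yon S).map_injective (hu.right_cancellation _ _ h4)
  exact congrArg CommaMorphism.left h6

end K899.ChartW
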