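import Groth.Agent.Ega41.ContrSurjC
import Groth.Agent.Flat2G.ContrGlue
import Groth.Agent.Flat2C.ContrLocal
import Groth.Agent.Flat2C.CechLocal
import Groth.Agent.CohqA.ContrBij
import Groth.Agent.CurvSt.K898.ContrUniv

/-!
# Contractions (`O = c_* O`, vanishing higher direct images of `O`)

* `IsCtr c`, `AcycS f V` (the surjective version over one open);
* `isCtr_of_forall`, `IsCtr.isAcyc`, `acycS_iff`, `AcycS.comp_closed`.
-/

set_option autoImplicit false
universe u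
open CategoryTheory CategoryTheory.Limits AlgebraicGeometry TopologicalSpace Opposite

namespace K899.Ctr

open Groth.Agent Groth.Agent.CohqA.CechE Groth.Agent.Ega41.ContrSurj

/-- `c` is a contraction: `O = c_* O` and the higher direct images of `O` vanish. -/
structure IsCtr {X Y : Scheme.{u}} (c : X ⟶ Y) : Prop where
  bij : ∀ W : Y.Opens, IsAffineOpen W → Function.Bijective (c.app W)
  van : ∀ W : Y.Opens, IsAffineOpen W → ∀ n,
    Subsingleton (Coh.HHon X (Coh.structureModule X) (c ⁻¹ᵁ W) (n + 1))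

/-- `O_V ⟶ f_* O` surjective and the higher direct images of `O` vanish over `V`. -/
structure AcycS {X Y : Scheme.{u}} (f : X ⟶ Y) (V : Y.Opens) : Prop where
  surj : Function.Surjective (f.app V)
  van : ∀ n, Subsingleton (Coh.HHon X (Coh.structureModule X) (f ⁻¹ᵁ V) (n + 1))

variable {X Y Z : Scheme.{u}}

theorem AcycS.of_le {f : X ⟶ Y} [QuasiCompact f] [IsSeparated f] {V V' : Y.Opens} (h : AcycS f V)
    (hV : IsAffineOpen V) (hV' : IsAffineOpen V') (hle : V' ≤ V) : AcycS f V' where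
  surj := Flat2C.ContrLocal.surjective_app_of_forall hV' fun y hy => by
    obtain ⟨b, hb, hyb⟩ := hV.exists_basicOpen_le (V := V') ⟨y, hy⟩ (hle hy)
    exact ⟨Y.basicOpen b, hV.basicOpen b, hyb, Flat2C.ContrLocal.surjective_app_basicOpen hV b h.surj⟩
  van n := by
    have hqc : (Coh.structureModule X).IsQuasicoherent := Fdesc.StructMod.isQCoh_structureModule X
    exact Flat2C.CechLocal.subsingleton_HHon_preimage_of_le (Coh.structureModule X) f hV hV' hle n (h.van n)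

theorem acycS_iff (f : X ⟶ Y) (V : Y.Opens) : AcycS f V ↔ IsAcycS (f ∣_ V) := by
  constructor
  · intro h
    refine ⟨?_, fun n => (Flat2G.FibreRestrict.subsingleton_HHon_iff (f ⁻¹ᵁ V).ι (f ⁻¹ᵁ V) (by simp) (n + 1)).1
      (h.van n)⟩
    obtain ⟨a, b, ha, hb, hab⟩ := Flat2G.FibreRestrict.exists_iso_app f (f ∣_ V) (f ⁻¹ᵁ V).ι V.ι
      (isPullback_morphismRestrict f V).flip ⊤ V (by simp)
    intro z
    obtain ⟨z', rfl⟩ := (ConcreteCategory.bijective_of_isIso b).2 z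
    obtain ⟨x, rfl⟩ := h.surj z'
    exact ⟨a x, (ConcreteCategory.congr_hom hab x).symm⟩
  · intro h
    exact ⟨h.on.2, h.on.1⟩

/-- Transport along a cartesian square over an open immersion. -/
theorem acycS_image {X' Y' : Scheme.{u}} {f : X ⟶ Y} {f' : X' ⟶ Y'} {i : X' ⟶ X} {j : Y' ⟶ Y}
    [IsOpenImmersion j] (H : IsPullback i f' f j) (V : Y'.Opens) : AcycS f' V ↔ AcycS f (j ''ᵁ V) := by
  have hi : IsOpenImmersion i := MorphismProperty.of_isPullback (P := @IsOpenImmersion) H.flip ‹_›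
  have hp : f ⁻¹ᵁ j ''ᵁ V = i ''ᵁ (f' ⁻¹ᵁ V) :=
    (IsOpenImmersion.image_preimage_eq_preimage_image_of_isPullback H.flip V).symm
  obtain ⟨a, b, ha, hb, hab⟩ := Flat2G.FibreRestrict.exists_iso_app f f' i j H V _ rfl
  have hb' := ConcreteCategory.bijective_of_isIso b
  have ha' := ConcreteCategory.bijective_of_isIso a
  have hv (n : ℕ) : Subsingleton (Coh.HHon X (Coh.structureModule X) (f ⁻¹ᵁ j ''ᵁ V) n) ↔
      Subsingleton (Coh.HHon X' (Coh.structureModule X') (f' ⁻¹ᵁ V) n) := by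
    exact Flat2G.FibreRestrict.subsingleton_HHon_image_iff i (f' ⁻¹ᵁ V) _ hp n
  constructor
  · intro h
    refine ⟨fun z => ?_, fun n => (hv _).2 (h.van n)⟩
    obtain ⟨x', hx'⟩ := h.surj (b z)
    obtain ⟨x, rfl⟩ := ha'.2 x'
    exact ⟨x, hb'.1 ((ConcreteCategory.congr_hom hab x).trans hx')⟩
  · intro h
    refine ⟨fun z => ?_, fun n => (hv _).1 (h.van n)⟩
    obtain ⟨z', rfl⟩ := hb'.2 z
    obtain ⟨x, rfl⟩ := h.surj z'
    exact ⟨a x, (ConcreteCategory.congr_hom hab x).symm⟩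

theorem isCtr_of_forall {c : X ⟶ Y} [QuasiCompact c] [IsSeparated c]
    (h : ∀ y : Y, ∃ W : Y.Opens, IsAffineOpen W ∧ y ∈ W ∧ Function.Bijective (c.app W) ∧
      ∀ n, Subsingleton (Coh.HHon X (Coh.structureModule X) (c ⁻¹ᵁ W) (n + 1))) : IsCtr c where
  bij W hW := Flat2C.ContrLocal.bijective_app_of_forall hW fun y _ => by
    obtain ⟨W', h1, h2, h3, -⟩ := h y
    exact ⟨W', h1, h2, h3⟩
  van W hW n := by
    have hqc : (Coh.structureModule X).IsQuasicoherent := Fdesc.StructMod.isQCoh_structureModule X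
    refine Flat2C.CechLocal.subsingleton_HHon_preimage_of_forall (Coh.structureModule X) c hW n fun y _ => ?_
    obtain ⟨W', h1, h2, -, h4⟩ := h y
    exact ⟨W', h1, h2, h4 n⟩

theorem IsCtr.isIso_app {c : X ⟶ Y} (h : IsCtr c) (W : Y.Opens) : IsIso (c.app W) :=
  Flat2C.ContrLocal.isIso_app_of_forall (V := ⊤) (fun U _ hU => h.bij U hU) W le_top

theorem isAcyc_restrict_iff (c : X ⟶ Y) (W : Y.Opens) : IsAcyc (c ∣_ W) ↔ Function.Bijective (c.app W) ∧
    ∀ n, Subsingleton (Coh.HHon X (Coh.structureModule X) (c ⁻¹ᵁ W) (n + 1)) := by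
  have h1 (n : ℕ) := Flat2G.FibreRestrict.subsingleton_HHon_iff (c ⁻¹ᵁ W).ι (c ⁻¹ᵁ W) (by simp) (n + 1)
  constructor
  · intro h
    exact ⟨(CohqA.ContrBij.bijective_restrict_iff c W).1 h.bij, fun n => (h1 n).2 (h.van n)⟩
  · intro h
    exact ⟨(CohqA.ContrBij.bijective_restrict_iff c W).2 h.1, fun n => (h1 n).1 (h.2 n)⟩

theorem IsCtr.isAcyc {c : X ⟶ Y} (h : IsCtr c) {W : Y.Opens} (hW : IsAffineOpen W) : IsAcyc (c ∣_ W) :=
  (isAcyc_restrict_iff c W).2 ⟨h.bij W hW, h.van W hW⟩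

/-- a contraction followed by a closed immersion -/
theorem IsCtr.acycS {c : X ⟶ Y} (h : IsCtr c) (j : Y ⟶ Z) [IsClosedImmersion j] {W : Z.Opens}
    (hW : IsAffineOpen W) : AcycS (c ≫ j) W where
  surj := by
    intro z
    obtain ⟨z', hz'⟩ := (h.bij _ (hW.preimage j)).2 z
    obtain ⟨w, hw⟩ := j.app_surjective W hW z'
    refine ⟨w, ?_⟩
    rw [← hz', ← hw]
    exact ConcreteCategory.congr_hom (Scheme.Hom.comp_app c j W) w
  van n := h.van _ (hW.preimage j) n

theorem IsCtr.of_acycAt {c : X ⟶ Y} {S : Scheme.{u}} {g : Y ⟶ S} [IsProper c]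
    (h : ∀ y, K898.ContrUniv.AcycAt c g y) : IsCtr c where
  bij W _ := by
    have := K898.ContrUniv.isIso_app_of_acycAt h W
    exact ConcreteCategory.bijective_of_isIso _
  van W hW n := K898.ContrUniv.subsingleton_HHon_of_acycAt h W hW n

/-- A contraction of flat schemes is a universal contraction. -/
theorem IsCtr.acycAt {c : X ⟶ Y} {S : Scheme.{u}} {g : Y ⟶ S} (h : IsCtr c) [QuasiCompact c] [IsSeparated c]
    [Flat (c ≫ g)] (y : Y) : K898.ContrUniv.AcycAt c g y := by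
  obtain ⟨S₁, hS₁, hs, -⟩ := exists_isAffineOpen_mem_and_subset (X := S) (x := g y) (U := ⊤) trivial
  obtain ⟨D, hD, hyD, hle⟩ := exists_isAffineOpen_mem_and_subset (X := Y) (x := y) (U := g ⁻¹ᵁ S₁) hs
  have e : D ≤ g ⁻¹ᵁ S₁ := hle
  have a1 : IsAffine (S₁ : Scheme.{u}) := hS₁
  have a2 : IsAffine (D : Scheme.{u}) := hD
  have hac := h.isAcyc hD
  have e' : c ⁻¹ᵁ D ≤ (c ≫ g) ⁻¹ᵁ S₁ := fun x hx => e (show c x ∈ D from hx)
  have hfl : Flat ((c ∣_ D) ≫ g.resLE S₁ D e) := by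
    have h1 : (c ∣_ D) ≫ g.resLE S₁ D e = (c ≫ g).resLE S₁ (c ⁻¹ᵁ D) e' := by
      rw [← cancel_mono S₁.ι, Category.assoc, Scheme.Hom.resLE_comp_ι, Scheme.Hom.resLE_comp_ι,
        morphismRestrict_ι_assoc]
    rw [h1]
    infer_instance
  exact ⟨S₁, D, e, hS₁, hD, hyD, hac, hfl, hac.flat (g.resLE S₁ D e)⟩

end K899.Ctr
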