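import Groth.Agent.CurvSt.K899.Ctr1

/-!
# Contractions in families: spreading out from a fibre

Let `φ : C ⟶ P` and `p : P ⟶ T` be morphisms, `T` affine, `P` locally Noetherian, `C` flat over `T`. Suppose that over
`τ : S' ⟶ T` the morphism `φ` becomes a contraction `c : X ⟶ Y` followed by a closed immersion `j : Y ⟶ P'`.

* `exists_acycS`: near the points of the image of `P'`, `φ` is acyclic with surjective `O_P ⟶ φ_* O_C`.
* `isCtr_toImage`: if this is the case everywhere, then `C ⟶ φ.image` is a contraction.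
* `exists_fibre`: the base change of `φ.image` to `S'` is `Y`.
-/

set_option autoImplicit false
universe u
open CategoryTheory CategoryTheory.Limits AlgebraicGeometry TopologicalSpace Opposite

namespace K899.Ctr

open Groth.Agent Groth.Agent.CohqA.CechE Groth.Agent.Ega41.ContrSurj K898.ContrUniv

variable {C P T S' X Y PK : Scheme.{u}}

theorem exists_acycS [IsAffine T] [IsLocallyNoetherian P] {p : P ⟶ T} {φ : C ⟶ P} [IsProper φ]
    [Flat (φ ≫ p)] [IsAffine S'] {τ : S' ⟶ T} {iP : PK ⟶ P} {pK : PK ⟶ S'} {iC : X ⟶ C}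
    {φK : X ⟶ PK} (sqP : IsPullback iP pK p τ) (sqC : IsPullback iC φK φ iP)
    (h : ∀ W : PK.Opens, IsAffineOpen W → AcycS φK W) (y' : PK) :
    ∃ V : P.Opens, IsAffineOpen V ∧ iP y' ∈ V ∧ AcycS φ V := by
  obtain ⟨P1, hP1, hy, -⟩ := exists_isAffineOpen_mem_and_subset (X := P) (x := iP y') (U := ⊤) trivial
  have a1 : IsAffine (P1 : Scheme.{u}) := hP1
  have hτ : IsAffineHom τ := isAffineHom_of_isAffine τ
  have hiP : IsAffineHom iP := MorphismProperty.of_isPullback (P := @IsAffineHom) sqP.flip hτ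
  let W : PK.Opens := iP ⁻¹ᵁ P1
  have hW : IsAffineOpen W := hP1.preimage iP
  have sqB := (isPullback_morphismRestrict φ P1).flip
  have sqD := (isPullback_morphismRestrict φK W).flip.paste_horiz sqC
  have wD : ((φK ⁻¹ᵁ W).ι ≫ iC) ≫ φ = ((φK ∣_ W) ≫ (iP ∣_ P1)) ≫ P1.ι := by
    rw [Category.assoc (φK ∣_ W), morphismRestrict_ι]
    exact sqD.w
  have sq1 : IsPullback (sqB.lift _ _ wD) (φK ∣_ W) (φ ∣_ P1) (iP ∣_ P1) := by
    refine IsPullback.of_right ?_ (sqB.lift_snd _ _ wD) sqB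
    rw [sqB.lift_fst, morphismRestrict_ι]
    exact sqD
  have HY : IsPullback (iP ∣_ P1) (W.ι ≫ pK) (P1.ι ≫ p) τ := (isPullback_morphismRestrict iP P1).paste_vert sqP
  have HX := sq1.paste_vert HY
  have hfl : Flat ((φ ∣_ P1) ≫ P1.ι ≫ p) := by
    rw [morphismRestrict_ι_assoc]
    infer_instance
  have hno : IsNoetherianRing Γ((P1 : Scheme.{u}), ⊤) := by
    have : IsLocallyNoetherian (P1 : Scheme.{u}) := inferInstance
    exact IsLocallyNoetherian.component_noetherian ⟨⊤, isAffineOpen_top _⟩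
  obtain ⟨a, ha, hac⟩ := core HX HY sq1.w ((acycS_iff _ _).1 (h W hW)) ⟨y', hy⟩
  have hac' : AcycS (φ ∣_ P1) ((P1 : Scheme.{u}).basicOpen a) := (acycS_iff _ _).2 hac
  refine ⟨P1.ι ''ᵁ (P1 : Scheme.{u}).basicOpen a,
    ((isAffineOpen_top _).basicOpen a).image_of_isOpenImmersion P1.ι, ⟨_, ha, ?_⟩, (acycS_image sqB _).1 hac'⟩
  exact (Scheme.Hom.comp_apply (iP ∣_ P1) P1.ι _).symm.trans
    ((congrArg (fun k : W.toScheme ⟶ P => k ⟨y', hy⟩) (morphismRestrict_ι iP P1)).trans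
      (Scheme.Hom.comp_apply _ _ _))

theorem isCtr_toImage (φ : C ⟶ P) [QuasiCompact φ] [IsSeparated φ]
    (h : ∀ y : P, ∃ V : P.Opens, IsAffineOpen V ∧ y ∈ V ∧ AcycS φ V) : IsCtr φ.toImage := by
  have hsep : IsSeparated φ.toImage := by
    have : IsSeparated (φ.toImage ≫ φ.imageι) := by rw [Scheme.Hom.toImage_imageι]; infer_instance
    exact IsSeparated.of_comp φ.toImage φ.imageι
  refine isCtr_of_forall fun y => ?_
  obtain ⟨V, hV, hyV, hac⟩ := h (φ.imageι y)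
  have hac' : AcycS (φ.toImage ≫ φ.imageι) V := by rw [Scheme.Hom.toImage_imageι]; exact hac
  refine ⟨φ.imageι ⁻¹ᵁ V, hV.preimage _, hyV, ⟨φ.toImage_app_injective ⟨V, hV⟩, fun z => ?_⟩, hac'.van⟩
  obtain ⟨x, hx⟩ := hac'.surj z
  refine ⟨φ.imageι.app V x, ?_⟩
  rw [← hx]
  exact (ConcreteCategory.congr_hom (Scheme.Hom.comp_app φ.toImage φ.imageι V) x).symm

theorem flat_of_acycAt {c : X ⟶ Y} {g : Y ⟶ T} (h : ∀ y, AcycAt c g y) : Flat g := by
  rw [Flat.iff_flat_stalkMap]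
  intro y
  obtain ⟨S₁, D, e, hS₁, hD, hyD, hac, hfl1, hfl2⟩ := h y
  have h1 : Flat (D.ι ≫ g) := by
    rw [← Scheme.Hom.resLE_comp_ι g e]
    infer_instance
  obtain ⟨y', rfl⟩ : ∃ y' : (D : Scheme.{u}), D.ι y' = y := ⟨⟨y, hyD⟩, rfl⟩
  have h2 := (Flat.iff_flat_stalkMap (D.ι ≫ g)).1 h1 y'
  rw [Scheme.Hom.stalkMap_comp D.ι g y'] at h2
  have h5 : (g.stalkMap (D.ι y')).hom =
      (inv (D.ι.stalkMap y')).hom.comp (g.stalkMap (D.ι y') ≫ D.ι.stalkMap y').hom := by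
    rw [← CommRingCat.hom_comp, Category.assoc, IsIso.hom_inv_id, Category.comp_id]
  rw [h5]
  exact RingHom.Flat.comp h2 (RingHom.Flat.of_bijective ((ConcreteCategory.isIso_iff_bijective _).mp inferInstance))

theorem IsCtr.ker_eq_bot {c : X ⟶ Y} (h : IsCtr c) [QuasiCompact c] : c.ker = ⊥ := by
  refine Scheme.IdealSheafData.ext_of_iSup_eq_top (fun U : Y.affineOpens => U)
    Y.isBasis_affineOpens.isOpenCover.iSup_eq_top fun U => ?_
  rw [Scheme.Hom.ker_apply, Scheme.IdealSheafData.ideal_bot]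
  exact (RingHom.injective_iff_ker_eq_bot _).1 (h.bij U U.2).1

theorem ker_comp_of_isCtr {c : X ⟶ Y} (h : IsCtr c) [QuasiCompact c] (j : Y ⟶ PK) :
    (c ≫ j).ker = j.ker := by
  rw [Scheme.Hom.ker_comp, h.ker_eq_bot, Scheme.IdealSheafData.map_bot]

/-- Two factorizations into a contraction and a closed immersion agree. -/
theorem exists_iso_of_isCtr {Y1 : Scheme.{u}} {c : X ⟶ Y} {c1 : X ⟶ Y1} (h : IsCtr c) (h1 : IsCtr c1)
    [QuasiCompact c] [QuasiCompact c1] (j : Y ⟶ PK) (j1 : Y1 ⟶ PK) [IsClosedImmersion j] [IsClosedImmersion j1]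
    (hcj : c ≫ j = c1 ≫ j1) : ∃ e : Y ≅ Y1, e.hom ≫ j1 = j ∧ c ≫ e.hom = c1 := by
  have hker : j1.ker = j.ker := by
    rw [← ker_comp_of_isCtr h, ← ker_comp_of_isCtr h1, hcj]
  let k : Y ⟶ Y1 := IsClosedImmersion.lift j1 j hker.le
  have hk : k ≫ j1 = j := IsClosedImmersion.lift_fac j1 j hker.le
  have : IsIso k := IsClosedImmersion.isIso_lift j1 j hker
  refine ⟨asIso k, hk, ?_⟩
  rw [← cancel_mono j1, Category.assoc]
  change c ≫ k ≫ j1 = _
  rw [hk, hcj]

/-- The base change of the scheme theoretic image. -/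
theorem exists_fibre {p : P ⟶ T} {φ : C ⟶ P} [IsProper φ] (h : ∀ y, AcycAt φ.toImage (φ.imageι ≫ p) y)
    {τ : S' ⟶ T} {iP : PK ⟶ P} {pK : PK ⟶ S'} {iC : X ⟶ C} {c : X ⟶ Y} {j : Y ⟶ PK} [IsClosedImmersion j]
    [QuasiCompact c] (hc : IsCtr c) (sqP : IsPullback iP pK p τ) (sqC : IsPullback iC (c ≫ j) φ iP) :
    ∃ e : Y ⟶ φ.image, IsPullback e (j ≫ pK) (φ.imageι ≫ p) τ ∧ IsPullback iC c φ.toImage e ∧
      e ≫ φ.imageι = j ≫ iP := by
  have hpr : IsProper φ.toImage := by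
    have : IsProper (φ.toImage ≫ φ.imageι) := by rw [Scheme.Hom.toImage_imageι]; infer_instance
    exact IsProper.of_comp φ.toImage φ.imageι
  have sq0 : IsPullback (pullback.fst φ.imageι iP) (pullback.snd φ.imageι iP) φ.imageι iP :=
    IsPullback.of_hasPullback _ _
  have sqI : IsPullback (pullback.fst φ.imageι iP) (pullback.snd φ.imageι iP ≫ pK) (φ.imageι ≫ p) τ :=
    sq0.paste_vert sqP
  have hw : (iC ≫ φ.toImage) ≫ φ.imageι = (c ≫ j) ≫ iP := by
    rw [Category.assoc, Scheme.Hom.toImage_imageι]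
    exact sqC.w
  let c1 : X ⟶ pullback φ.imageι iP := sq0.lift _ _ hw
  have hc1 : c1 ≫ pullback.fst φ.imageι iP = iC ≫ φ.toImage := sq0.lift_fst _ _ hw
  have hc2 : c1 ≫ pullback.snd φ.imageι iP = c ≫ j := sq0.lift_snd _ _ hw
  have sq1 : IsPullback iC c1 φ.toImage (pullback.fst φ.imageι iP) := by
    refine IsPullback.of_bot ?_ hc1.symm sq0
    rw [hc2, Scheme.Hom.toImage_imageι]
    exact sqC
  have hpr1 : IsProper c1 := MorphismProperty.of_isPullback (P := @IsProper) sq1 hpr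
  have hctr1 : IsCtr c1 := IsCtr.of_acycAt (g := pullback.snd φ.imageι iP ≫ pK) fun y =>
    acycAt_baseChange sqI sq1 y (h _)
  have hcl : IsClosedImmersion (pullback.snd φ.imageι iP) := inferInstance
  obtain ⟨e, he1, he2⟩ := exists_iso_of_isCtr hc hctr1 j (pullback.snd φ.imageι iP) hc2.symm
  refine ⟨e.hom ≫ pullback.fst φ.imageι iP, ?_, ?_, ?_⟩
  · refine IsPullback.of_iso sqI e.symm (Iso.refl _) (Iso.refl _) (Iso.refl _) ?_ ?_ ?_ ?_
    · simp
    · simp [← he1]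
    · simp
    · simp
  · refine IsPullback.of_iso sq1 (Iso.refl _) (Iso.refl _) e.symm (Iso.refl _) ?_ ?_ ?_ ?_
    · simp
    · simp [← he2]
    · simp
    · simp
  · rw [Category.assoc, pullback.condition, ← he1, Category.assoc]

end K899.Ctr
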