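import Groth.Agent.Ega3B.SecLiftMain
import Groth.Agent.Ega3B.NearFibre
import Groth.Agent.Ega3B.AcycNbhd
import Groth.Agent.Pic13.K244.TorsProj
import Groth.Agent.Desc.K390.PnDesc

/-!
# Sections of a fibre with `H^1 = 0` are spanned by global sections
-/

set_option autoImplicit false
universe u
open CategoryTheory CategoryTheory.Limits AlgebraicGeometry TopologicalSpace Opposite

namespace K899.Ctr

open Groth.Agent Groth.Agent.Fdesc.LocGen K390.PnDesc K390.PnSec Groth.Agent.Ega3B
  Groth.Agent.Ega3B.EqzSections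

variable {X X' V Y : Scheme.{u}}

/-- finite combinations of pulled back global sections -/
def Spanned (a : X' ⟶ X) (b : X' ⟶ V) (L : X.Modules) (s' : Γ((Scheme.Modules.pullback a).obj L, ⊤)) : Prop :=
  ∃ T : Finset Γ(L, ⊤), HasSpan a b L T s'

variable {a : X' ⟶ X} {b : X' ⟶ V} {L : X.Modules}

theorem Spanned.add {s t : Γ((Scheme.Modules.pullback a).obj L, ⊤)} (hs : Spanned a b L s) (ht : Spanned a b L t) :
    Spanned a b L (s + t) := by
  classical
  obtain ⟨S, hS⟩ := hs
  obtain ⟨T, hT⟩ := ht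
  exact ⟨S ∪ T, (hS.mono Finset.subset_union_left).add (hT.mono Finset.subset_union_right)⟩

theorem Spanned.smul (c : Γ(V, ⊤)) {s : Γ((Scheme.Modules.pullback a).obj L, ⊤)} (hs : Spanned a b L s) :
    Spanned a b L (b.appTop c • s) := by
  obtain ⟨S, hS⟩ := hs
  exact ⟨S, hS.smul c⟩

theorem Spanned.zero : Spanned a b L 0 := ⟨∅, ⟨0, by simp⟩⟩

theorem Spanned.pullTop (t : Γ(L, ⊤)) : Spanned a b L (pullTop a t) := ⟨{t}, ⟨fun _ => 1, by simp⟩⟩

theorem Spanned.sum {ι : Type*} (T : Finset ι) (s : ι → Γ((Scheme.Modules.pullback a).obj L, ⊤))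
    (h : ∀ k ∈ T, Spanned a b L (s k)) : Spanned a b L (∑ k ∈ T, s k) := by
  classical
  induction T using Finset.induction_on with
  | empty => simpa using Spanned.zero
  | insert k T hk ih =>
    rw [Finset.sum_insert hk]
    exact (h k (Finset.mem_insert_self _ _)).add (ih fun j hj => h j (Finset.mem_insert_of_mem hj))

theorem exists_factor_residueField {A : Type u} [CommRing A] {K : Type u} [Field K]
    (τ : Spec (CommRingCat.of K) ⟶ Spec (CommRingCat.of A)) :
    ∃ (p : Ideal A) (_ : p.IsPrime) (ψ : p.ResidueField →+* K),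
      Spec.map (CommRingCat.ofHom ψ) ≫ Spec.map (CommRingCat.ofHom (algebraMap A p.ResidueField)) = τ := by
  obtain ⟨φ, rfl⟩ : ∃ φ : CommRingCat.of A ⟶ CommRingCat.of K, Spec.map φ = τ := ⟨_, Spec.map_preimage τ⟩
  let p : Ideal A := RingHom.ker φ.hom
  have hp : p.IsPrime := RingHom.ker_isPrime φ.hom
  have h2 : p.primeCompl ≤ Submonoid.comap φ.hom (IsUnit.submonoid K) := by
    intro x hx
    exact IsUnit.mk0 _ (fun h => hx h)
  let ψ : p.ResidueField →+* K := Ideal.ResidueField.lift p φ.hom le_rfl h2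
  refine ⟨p, hp, ψ, ?_⟩
  rw [← Spec.map_comp]
  refine congrArg Spec.map ?_
  apply CommRingCat.hom_ext
  apply RingHom.ext
  intro x
  exact Ideal.ResidueField.lift_algebraMap p φ.hom le_rfl h2 x

theorem spanned {A : Type u} [CommRing A] [IsNoetherianRing A] {C : Scheme.{u}}
    (f : C ⟶ Spec (CommRingCat.of A)) [IsProper f] [Flat f] {L : C.Modules} (hL : PicF.IsInvertible L)
    {K : Type u} [Field K] (τ : Spec (CommRingCat.of K) ⟶ Spec (CommRingCat.of A)) {X : Scheme.{u}} {i : X ⟶ C}
    {q : X ⟶ Spec (CommRingCat.of K)} (sq : IsPullback i q f τ)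
    (h1 : Subsingleton (Coh.HH X ((Scheme.Modules.pullback i).obj L) 1))
    (s' : Γ((Scheme.Modules.pullback i).obj L, ⊤)) : Spanned i q L s' := by
  obtain ⟨p, hp, ψ, hψ⟩ := exists_factor_residueField τ
  let _ : C.Over (Spec (CommRingCat.of A)) := ⟨f⟩
  have hpr : IsProper (C ↘ Spec (CommRingCat.of A)) := ‹IsProper f›
  have H : IsPullback (pullback.fst f (Spec.map (CommRingCat.ofHom (algebraMap A p.ResidueField))))
      (pullback.snd f (Spec.map (CommRingCat.ofHom (algebraMap A p.ResidueField)))) f _ :=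
    IsPullback.of_hasPullback _ _
  generalize pullback.fst f (Spec.map (CommRingCat.ofHom (algebraMap A p.ResidueField))) = g at H
  generalize pullback.snd f (Spec.map (CommRingCat.ofHom (algebraMap A p.ResidueField))) = qZ at H
  generalize pullback f (Spec.map (CommRingCat.ofHom (algebraMap A p.ResidueField))) = Z at g qZ H
  obtain ⟨g0, rfl, H0⟩ := AcycNbhd.factor sq H _ hψ
  have hqc : CompactSpace Z := by
    have : QuasiCompact qZ := MorphismProperty.of_isPullback H inferInstance
    exact QuasiCompact.compactSpace_of_compactSpace qZ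
  have hqs : QuasiSeparatedSpace Z := by
    have : QuasiSeparated qZ := MorphismProperty.of_isPullback H inferInstance
    exact quasiSeparatedSpace_of_quasiSeparated qZ
  have hLc : Coh.IsCoh L := PerfA.CohSerre.isCoh_of_isFinLocFree (NearFibre.isFinLocFree_of_isInvertible hL)
  let c := (Scheme.Modules.pullbackComp g0 g).app L
  have h1' : Subsingleton (Coh.HH X ((Scheme.Modules.pullback g0).obj ((Scheme.Modules.pullback g).obj L)) 1) :=
    CohqA.DirectSum.subsingleton_of_iso c.symm 1 h1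
  have hLZ : PicF.IsInvertible ((Scheme.Modules.pullback g).obj L) := isInvertible_pullback g hL
  have h1Z : Subsingleton (Coh.HH Z ((Scheme.Modules.pullback g).obj L) 1) := by
    let _ : X.Over (Spec (CommRingCat.of K)) := ⟨q⟩
    let _ : Z.Over (Spec (CommRingCat.of p.ResidueField)) := ⟨qZ⟩
    exact K244.TorsProj.subsingleton_of_pullback (g := g0) ψ H0 _ (VarietyB.PullSec.isQCoh_pullback g L hLc.1) 1 h1'
  have hflat : Flat (Spec.map (CommRingCat.ofHom ψ)) := by
    let _ : Algebra p.ResidueField K := ψ.toAlgebra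
    have h2 : ψ.Flat := RingHom.flat_algebraMap_iff.2 (inferInstanceAs (Module.Flat p.ResidueField K))
    exact HasRingHomProperty.Spec_iff.2 h2
  obtain ⟨T, β, hβ⟩ := exists_finset H0 hLZ (c.inv.app ⊤ s')
  have hs' : s' = c.hom.app ⊤ (∑ t ∈ T, (q.appTop (β t)) • Fdesc.LocGen.pullTop g0 t) := by
    rw [← hβ]
    have h0 := c.inv_hom_id
    exact (congr(($(h0).app ⊤) s')).symm
  have key : ∀ t : Γ((Scheme.Modules.pullback g).obj L, ⊤),
      Spanned (g0 ≫ g) q L (c.hom.app ⊤ (Fdesc.LocGen.pullTop g0 t)) := by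
    intro t
    have hfl : FlatMod.IsFlatOver f L := NearFibre.isFlatOver_of_isInvertible f hL
    have hsub : Subsingleton ((CohIII.tensorAFunctor A L ⋙ CohIII.HAb C 1).obj (ModuleCat.of A p.ResidueField)) := by
      obtain ⟨e, -⟩ := FibreCmp.exists_cmp (A := A) g qZ H L hLc.1 1
      exact e.symm.toEquiv.subsingleton
    obtain ⟨a, s, ha, hs⟩ := SecLiftMain.exists_sec_lift L hLc hfl p hsub H t
    let x : Γ(Spec (CommRingCat.of p.ResidueField), ⊤) :=
      (Scheme.ΓSpecIso (CommRingCat.of p.ResidueField)).inv.hom (algebraMap A p.ResidueField a)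
    have hx : IsUnit x := by
      refine IsUnit.map _ (IsUnit.mk0 _ ?_)
      rw [Ne, Ideal.algebraMap_residueField_eq_zero]
      exact ha
    obtain ⟨y, hy⟩ := hx.exists_left_inv
    have h2 : Fdesc.LocGen.pullTop g s = (show Γ(Z, ⊤) from qZ.appTop x) • t := by
      have h3 : Fdesc.LocGen.pullTop g s = VarietyB.PullSec.sec g L (le_refl (g ⁻¹ᵁ ⊤)) s := by
        rw [LiftSection.sec_eq_pullSec, Fdesc.LocGen.res_refl]
        rfl
      rw [h3, hs]
      have h4 : qZ.appLE ⊤ (g ⁻¹ᵁ ⊤) (le_preimage_top qZ _) = qZ.appTop := (Scheme.Hom.app_eq_appLE _).symm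
      have h5 : secMap qZ (g ⁻¹ᵁ ⊤) (algebraMap A p.ResidueField a) = qZ.appTop.hom x := by
        rw [← h4]
        rfl
      rw [h5]
      rfl
    have h3 : t = (show Γ(Z, ⊤) from qZ.appTop y) • Fdesc.LocGen.pullTop g s := by
      rw [h2, smul_smul]
      have : (show Γ(Z, ⊤) from qZ.appTop y) * (show Γ(Z, ⊤) from qZ.appTop x) = 1 := by
        refine (map_mul qZ.appTop.hom y x).symm.trans ?_
        rw [hy, map_one]
      rw [this, one_smul]
    have h4 : c.hom.app ⊤ (Fdesc.LocGen.pullTop g0 t) =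
        (q.appTop ((Spec.map (CommRingCat.ofHom ψ)).appTop y)) • Fdesc.LocGen.pullTop (g0 ≫ g) s := by
      have e1 : Fdesc.LocGen.pullTop g0 t = (show Γ(X, ⊤) from g0.appTop (qZ.appTop y)) •
          Fdesc.LocGen.pullTop g0 (Fdesc.LocGen.pullTop g s) := by
        conv_lhs => rw [h3]
        exact pullSec_smul g0 _ _
      have e2 : g0.appTop (qZ.appTop y) = q.appTop ((Spec.map (CommRingCat.ofHom ψ)).appTop y) := by
        have h6 : qZ.appTop ≫ g0.appTop = (Spec.map (CommRingCat.ofHom ψ)).appTop ≫ q.appTop := by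
          rw [← Scheme.Hom.comp_appTop, ← Scheme.Hom.comp_appTop, H0.w]
        exact congrArg (fun k => k.hom y) h6
      rw [e1, e2]
      refine (Scheme.Modules.Hom.app_smul c.hom _ _).trans ?_
      congr 1
      exact pullSec_comp' g0 g s
    rw [h4]
    exact (Spanned.pullTop s).smul _
  have hs2 : s' = ∑ t ∈ T, (q.appTop (β t)) • c.hom.app ⊤ (Fdesc.LocGen.pullTop g0 t) := by
    rw [hs']
    refine (map_sum (c.hom.app ⊤).hom _ _).trans ?_
    exact Finset.sum_congr rfl fun k _ => Scheme.Modules.Hom.app_smul c.hom _ _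
  rw [hs2]
  exact Spanned.sum _ _ fun t _ => (key t).smul _

end K899.Ctr
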