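import Groth.Agent.CurvSt.K899.Ctr2
import Groth.Agent.CurvSt.K899.Ctr3
import Groth.Agent.PicF.K245.DescUnit

/-!
# Spreading out a contraction (I): sections
-/

set_option autoImplicit false
universe u
open CategoryTheory CategoryTheory.Limits AlgebraicGeometry TopologicalSpace Opposite

namespace K899.Ctr

open Groth.Agent Groth.Agent.Fdesc.LocGen K390.PnDesc K390.PnSec Groth.Agent.Ega3B
  Groth.Agent.Ega3B.EqzSections

variable {X Y C T : Scheme.{u}}

theorem IsCtr.isIso_unit {c : X ⟶ Y} (hc : IsCtr c) {M : Y.Modules} (hM : PicF.IsInvertible M) :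
    IsIso ((Scheme.Modules.pullbackPushforwardAdjunction c).unit.app M) :=
  K245.DescUnit.isIso_unit c (fun U => hc.isIso_app U) (NearFibre.isFinLocFree_of_isInvertible hM)

theorem IsCtr.pullTop_bijective {c : X ⟶ Y} (hc : IsCtr c) {M : Y.Modules} (hM : PicF.IsInvertible M) :
    Function.Bijective (pullTop c : Γ(M, ⊤) → _) := by
  have h := hc.isIso_unit hM
  have h2 : IsIso (((Scheme.Modules.pullbackPushforwardAdjunction c).unit.app M).app ⊤) := inferInstance
  exact ConcreteCategory.bijective_of_isIso (((Scheme.Modules.pullbackPushforwardAdjunction c).unit.app M).app ⊤)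

theorem iso_bijective {M N : X.Modules} (e : M ≅ N) : Function.Bijective (e.hom.app ⊤ : Γ(M, ⊤) → Γ(N, ⊤)) := by
  have h2 : IsIso (e.hom.app ⊤) := inferInstance
  exact ConcreteCategory.bijective_of_isIso (e.hom.app ⊤)


theorem isClosedImmersion_of_liftP {m : ℕ} {r : X ⟶ CohB1.ProjSpace m Z.{u}} {q : X ⟶ T} [IsProper q]
    (h : IsImmersion (liftP r q)) : IsClosedImmersion (liftP r q) := by
  have hp : IsProper (liftP r q ≫ CohB1.ProjSpaceOver.toBase m T) := by
    rw [liftP_toBase]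
    infer_instance
  have hjp : IsProper (liftP r q) := IsProper.of_comp (liftP r q) (CohB1.ProjSpaceOver.toBase m T)
  have hjpre : IsPreimmersion (liftP r q) := inferInstance
  exact IsClosedImmersion.of_isPreimmersion (liftP r q) (liftP r q).isClosedMap.isClosed_range

theorem exists_sections {A : Type u} [CommRing A] [IsNoetherianRing A]
    (f : C ⟶ Spec (CommRingCat.of A)) [IsProper f] [Flat f] {L : C.Modules} (hL : PicF.IsInvertible L)
    {K : Type u} [Field K] (τ : Spec (CommRingCat.of K) ⟶ Spec (CommRingCat.of A)) {i : X ⟶ C}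
    {q : X ⟶ Spec (CommRingCat.of K)} (sq : IsPullback i q f τ)
    (h1 : Subsingleton (Coh.HH X ((Scheme.Modules.pullback i).obj L) 1))
    {c : X ⟶ Y} (hc : IsCtr c) {qY : Y ⟶ Spec (CommRingCat.of K)} [IsProper qY] (hcq : c ≫ qY = q)
    {M : Y.Modules} (hM : PicF.IsInvertible M) (hva : RelAmple.IsRelVeryAmplePn qY M)
    (e : (Scheme.Modules.pullback c).obj M ≅ (Scheme.Modules.pullback i).obj L) :
    ∃ (m : ℕ) (t : Fin (m + 1) → Γ(L, ⊤)) (t' : Fin (m + 1) → Γ(M, ⊤)) (r' : Y ⟶ CohB1.ProjSpace m Z.{u}),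
      (∀ k, e.hom.app ⊤ (pullTop c (t' k)) = pullTop i (t k)) ∧ GivenBy r' M t' ∧
        IsClosedImmersion (liftP r' qY) := by
  classical
  obtain ⟨n, r0, s, hr0, him⟩ := (isRelVeryAmplePn_iff qY M).1 hva
  have hsp := fun j => spanned f hL τ sq h1 (e.hom.app ⊤ (pullTop c (s j)))
  choose T hT using hsp
  let T0 : Finset Γ(L, ⊤) := insert 0 (Finset.univ.biUnion T)
  have hT0 : ∀ j, HasSpan i q L T0 (e.hom.app ⊤ (pullTop c (s j))) := fun j =>
    (hT j).mono ((Finset.subset_biUnion_of_mem T (Finset.mem_univ j)).trans (Finset.subset_insert _ _))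
  choose β hβ using hT0
  obtain ⟨m, ⟨eq⟩⟩ : ∃ m : ℕ, Nonempty (T0 ≃ Fin (m + 1)) := by
    have h0 : T0.card ≠ 0 := Finset.card_ne_zero.2 ⟨0, Finset.mem_insert_self _ _⟩
    obtain ⟨m, hm⟩ := Nat.exists_eq_succ_of_ne_zero h0
    exact ⟨m, ⟨T0.equivFinOfCardEq hm⟩⟩
  let t : Fin (m + 1) → Γ(L, ⊤) := fun k => (eq.symm k).1
  let b : Fin (n + 1) → Fin (m + 1) → Γ(Spec (CommRingCat.of K), ⊤) := fun j k => β j (t k)
  have hb : ∀ j, e.hom.app ⊤ (pullTop c (s j)) = ∑ k, q.appTop (b j k) • pullTop i (t k) := by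
    intro j
    rw [hβ j, ← Finset.sum_coe_sort T0]
    exact (Equiv.sum_comp eq.symm (fun x : T0 => q.appTop (β j x) • pullTop i (x : Γ(L, ⊤)))).symm
  have hbij : Function.Bijective (fun x : Γ(M, ⊤) => e.hom.app ⊤ (pullTop c x)) :=
    (iso_bijective e).comp (hc.pullTop_bijective hM)
  choose t' ht' using fun k => hbij.2 (pullTop i (t k))
  have hs : ∀ j, s j = ∑ k, qY.appTop (b j k) • t' k := by
    intro j
    apply hbij.1
    change e.hom.app ⊤ (pullTop c (s j)) = e.hom.app ⊤ (pullTop c (∑ k, qY.appTop (b j k) • t' k))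
    rw [hb j, pullTop_sum_smul, app_sum_smul]
    refine Finset.sum_congr rfl fun k _ => ?_
    have h3 : c.appTop (qY.appTop (b j k)) = q.appTop (b j k) := by
      have h4 : qY.appTop ≫ c.appTop = q.appTop := by rw [← Scheme.Hom.comp_appTop, hcq]
      exact congrArg (fun z => z.hom (b j k)) h4
    rw [h3]
    exact congrArg _ (ht' k).symm
  have hcov : ⨆ k, CohB1.genLocus M (homOf (t' k)) = ⊤ := by
    rw [eq_top_iff]
    intro y _
    have h3 : y ∈ ⨆ j, CohB1.genLocus M (homOf (s j)) := by rw [hr0.iSup_genLocus]; trivial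
    obtain ⟨j, hj⟩ := Opens.mem_iSup.1 h3
    rw [hs j] at hj
    obtain ⟨k, -, hk⟩ := exists_mem_genLocus_of_sum hM Finset.univ (fun k => qY.appTop (b j k)) t' y hj
    exact Opens.mem_iSup.2 ⟨k, hk⟩
  obtain ⟨r', hr'⟩ := exists_givenBy' t' hcov
  exact ⟨m, t, t', r', ht', hr', isClosedImmersion_of_liftP (isImmersion_liftP_of_span qY hr' hr0 b hs him)⟩

end K899.Ctr
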