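import Groth.Agent.CurvSt.K899.Ctr4

/-!
# Spreading out a contraction (II): the map to a proper scheme is given
-/

set_option autoImplicit false
universe u
open CategoryTheory CategoryTheory.Limits AlgebraicGeometry TopologicalSpace Opposite

namespace K899.Ctr

open Groth.Agent Groth.Agent.CohqA.CechE Groth.Agent.Ega41.ContrSurj K898.ContrUniv

variable {C P T S' X Y PK : Scheme.{u}}

/-- After restriction to an open subscheme of the base through which `τ` factors, the morphism `f` factors through a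
contraction to a proper flat family, whose base change along `τ` is `c`. -/
def LC (f : C ⟶ T) (τ : S' ⟶ T) (i : X ⟶ C) (c : X ⟶ Y) (qY : Y ⟶ S') : Prop :=
  ∃ (U : Scheme.{u}) (j : U ⟶ T) (τ' : S' ⟶ U) (CU : Scheme.{u}) (iU : CU ⟶ C) (fU : CU ⟶ U) (i' : X ⟶ CU)
    (C1 : Scheme.{u}) (g : C1 ⟶ U) (γ : CU ⟶ C1) (e : Y ⟶ C1),
    IsOpenImmersion j ∧ τ' ≫ j = τ ∧ IsPullback iU fU f j ∧ i' ≫ iU = i ∧ γ ≫ g = fU ∧ IsProper g ∧
    Flat g ∧ LocallyOfFinitePresentation g ∧ IsCtr γ ∧ IsPullback e qY g τ' ∧ IsPullback i' c γ e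

theorem LC.trans {f : C ⟶ T} {τ : S' ⟶ T} {i : X ⟶ C} {c : X ⟶ Y} {qY : Y ⟶ S'} {U CU : Scheme.{u}} {j : U ⟶ T}
    [IsOpenImmersion j] {τ' : S' ⟶ U} (hτ : τ' ≫ j = τ) {iU : CU ⟶ C} {fU : CU ⟶ U} (sq : IsPullback iU fU f j)
    {i' : X ⟶ CU} (hi : i' ≫ iU = i) (h : LC fU τ' i' c qY) : LC f τ i c qY := by
  obtain ⟨U2, j2, τ2, CU2, iU2, fU2, i2, C1, g, γ, e, h1, h2, h3, h4, h5⟩ := h
  refine ⟨U2, j2 ≫ j, τ2, CU2, iU2 ≫ iU, fU2, i2, C1, g, γ, e, inferInstance, ?_, ?_, ?_, h5⟩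
  · rw [← Category.assoc, h2, hτ]
  · exact h3.paste_horiz sq
  · rw [← Category.assoc, h4, hi]

theorem isPullback_of_mono {A B C' D E : Scheme.{u}} {a : A ⟶ B} {b : A ⟶ C'} {d : B ⟶ D} {m : C' ⟶ D}
    {j : D ⟶ E} [Mono j] (h : IsPullback a b (d ≫ j) (m ≫ j)) : IsPullback a b d m := by
  refine ⟨⟨by rw [← cancel_mono j, Category.assoc, Category.assoc, h.w]⟩, ⟨PullbackCone.IsLimit.mk _
    (fun s => h.lift s.fst s.snd (by rw [← Category.assoc, s.condition, Category.assoc]))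
    (fun s => h.lift_fst _ _ _) (fun s => h.lift_snd _ _ _) (fun s k h1 h2 => ?_)⟩⟩
  apply h.hom_ext
  · rw [h1, h.lift_fst]
  · rw [h2, h.lift_snd]

/-- **Spreading out a contraction.** -/
theorem lc_of_map [IsAffine T] [IsLocallyNoetherian T] {p : P ⟶ T} [IsProper p] {φ : C ⟶ P} [IsProper φ]
    [Flat (φ ≫ p)] {K : Type u} [Field K] {τ : Spec (CommRingCat.of K) ⟶ T} {iP : PK ⟶ P}
    {pK : PK ⟶ Spec (CommRingCat.of K)} {iC : X ⟶ C} {c : X ⟶ Y} {j : Y ⟶ PK} [IsClosedImmersion j]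
    [QuasiCompact c] (hc : IsCtr c) (sqP : IsPullback iP pK p τ) (sqC : IsPullback iC (c ≫ j) φ iP) :
    LC (φ ≫ p) τ iC c (j ≫ pK) := by
  have hPn : IsLocallyNoetherian P := LocallyOfFiniteType.isLocallyNoetherian p
  let t : T := τ (IsLocalRing.closedPoint K)
  have hτ : ∀ x, τ x = t := fun x => by rw [Subsingleton.elim x (IsLocalRing.closedPoint K)]
  let W0 : Set P := {y | ∃ V : P.Opens, IsAffineOpen V ∧ y ∈ V ∧ AcycS φ V}
  have hW0 : IsOpen W0 := by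
    rw [isOpen_iff_forall_mem_open]
    rintro y ⟨V, h1, h2, h3⟩
    exact ⟨V, fun z hz => ⟨V, h1, hz, h3⟩, V.2, h2⟩
  have hfib : ∀ y, p y = t → y ∈ W0 := by
    intro y hy
    obtain ⟨y', hy', -⟩ := Scheme.exists_preimage_of_isPullback sqP y (IsLocalRing.closedPoint K) hy
    obtain ⟨V, h1, h2, h3⟩ := exists_acycS sqP sqC (fun W hW => hc.acycS j hW) y'
    exact ⟨V, h1, hy' ▸ h2, h3⟩
  obtain ⟨U, htU, hU⟩ := exists_nhd_of_isClosedMap p.isClosedMap W0 hW0 t hfib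
  -- the restricted data
  let P2 : P.Opens := p ⁻¹ᵁ U
  let p2 : (P2 : Scheme.{u}) ⟶ U := p ∣_ U
  let φ2 : (φ ⁻¹ᵁ P2 : Scheme.{u}) ⟶ P2 := φ ∣_ P2
  have hle : Set.range τ ⊆ Set.range U.ι := by
    rw [Scheme.Opens.range_ι]
    rintro _ ⟨x, rfl⟩
    rw [hτ x]
    exact htU
  let τ2 : Spec (CommRingCat.of K) ⟶ U := IsOpenImmersion.lift U.ι τ hle
  have hτ2 : τ2 ≫ U.ι = τ := IsOpenImmersion.lift_fac _ _ _
  have sqU : IsPullback P2.ι p2 p U.ι := (isPullback_morphismRestrict p U).flip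
  have sqφ : IsPullback (φ ⁻¹ᵁ P2).ι φ2 φ P2.ι := (isPullback_morphismRestrict φ P2).flip
  have wP : iP ≫ p = (pK ≫ τ2) ≫ U.ι := by rw [Category.assoc, hτ2, sqP.w]
  let iP2 : PK ⟶ P2 := sqU.lift iP (pK ≫ τ2) wP
  have hiP2 : iP2 ≫ P2.ι = iP := sqU.lift_fst _ _ wP
  have sqP2 : IsPullback iP2 pK p2 τ2 := by
    refine IsPullback.of_right ?_ (sqU.lift_snd _ _ wP) sqU
    rw [hiP2, hτ2]
    exact sqP
  have wC : iC ≫ φ = ((c ≫ j) ≫ iP2) ≫ P2.ι := by rw [Category.assoc (c ≫ j), hiP2, sqC.w]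
  let iC2 : X ⟶ (φ ⁻¹ᵁ P2 : Scheme.{u}) := sqφ.lift iC ((c ≫ j) ≫ iP2) wC
  have hiC2 : iC2 ≫ (φ ⁻¹ᵁ P2).ι = iC := sqφ.lift_fst _ _ wC
  have sqC2 : IsPullback iC2 (c ≫ j) φ2 iP2 := by
    refine IsPullback.of_right ?_ (sqφ.lift_snd _ _ wC) sqφ
    rw [hiC2, hiP2]
    exact sqC
  have hpr2 : IsProper φ2 := MorphismProperty.of_isPullback (P := @IsProper) sqφ ‹_›
  have hpp2 : IsProper p2 := MorphismProperty.of_isPullback (P := @IsProper) sqU ‹_›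
  have sqf := sqφ.paste_vert sqU
  have hfl2 : Flat (φ2 ≫ p2) := MorphismProperty.of_isPullback (P := @Flat) sqf ‹_›
  have hpr3 : IsProper φ2.toImage := by
    have : IsProper (φ2.toImage ≫ φ2.imageι) := by rw [Scheme.Hom.toImage_imageι]; infer_instance
    exact IsProper.of_comp φ2.toImage φ2.imageι
  have hctr : IsCtr φ2.toImage := by
    refine isCtr_toImage φ2 fun y => ?_
    obtain ⟨V, h1, h2, h3⟩ := hU (P2.ι y) y.2
    obtain ⟨V', hV', hy', hle'⟩ := exists_isAffineOpen_mem_and_subset (X := (P2 : Scheme.{u})) (x := y)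
      (U := P2.ι ⁻¹ᵁ V) h2
    refine ⟨V', hV', hy', (acycS_image sqφ V').2 (h3.of_le h1 (hV'.image_of_isOpenImmersion P2.ι) ?_)⟩
    rintro _ ⟨z, hz, rfl⟩
    exact hle' hz
  have hac : ∀ y, AcycAt φ2.toImage (φ2.imageι ≫ p2) y := by
    have : Flat (φ2.toImage ≫ φ2.imageι ≫ p2) := by
      rw [← Category.assoc, Scheme.Hom.toImage_imageι]
      infer_instance
    exact fun y => hctr.acycAt y
  obtain ⟨e, he1, he2, -⟩ := exists_fibre hac hc sqP2 sqC2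
  refine ⟨U, U.ι, τ2, _, (φ ⁻¹ᵁ P2).ι, φ2 ≫ p2, iC2, φ2.image, φ2.imageι ≫ p2, φ2.toImage, e, inferInstance, hτ2, sqf,
    hiC2, ?_, inferInstance, flat_of_acycAt hac, inferInstance, hctr, he1, he2⟩
  rw [← Category.assoc, Scheme.Hom.toImage_imageι]

end K899.Ctr
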