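import Groth.Agent.CurvSt.K899.Ctr5

/-!
# Spreading out a contraction (III): Noetherian base
-/

set_option autoImplicit false
universe u
open CategoryTheory CategoryTheory.Limits AlgebraicGeometry TopologicalSpace Opposite

namespace K899.Ctr

open Groth.Agent Groth.Agent.Fdesc.LocGen K390.PnDesc K390.PnSec Groth.Agent.Ega3B K898.ContrUniv

variable {X Y C T : Scheme.{u}}

theorem lc_noeth {A : Type u} [CommRing A] [IsNoetherianRing A]
    (f : C ⟶ Spec (CommRingCat.of A)) [IsProper f] [Flat f] {L : C.Modules} (hL : PicF.IsInvertible L)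
    {K : Type u} [Field K] (τ : Spec (CommRingCat.of K) ⟶ Spec (CommRingCat.of A)) {i : X ⟶ C}
    {q : X ⟶ Spec (CommRingCat.of K)} (sq : IsPullback i q f τ)
    (h1 : Subsingleton (Coh.HH X ((Scheme.Modules.pullback i).obj L) 1))
    {c : X ⟶ Y} [QuasiCompact c] (hc : IsCtr c) {qY : Y ⟶ Spec (CommRingCat.of K)} [IsProper qY] (hcq : c ≫ qY = q)
    {M : Y.Modules} (hM : PicF.IsInvertible M) (hva : RelAmple.IsRelVeryAmplePn qY M)
    (e : (Scheme.Modules.pullback c).obj M ≅ (Scheme.Modules.pullback i).obj L) : LC f τ i c qY := by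
  obtain ⟨m, t, t', r', ht, hr', hcl⟩ := exists_sections f hL τ sq h1 hc hcq hM hva e
  let V : C.Opens := ⨆ k, CohB1.genLocus L (homOf (t k))
  have hfib : ∀ x : C, f x = τ (IsLocalRing.closedPoint K) → x ∈ (V : Set C) := by
    intro x hx
    obtain ⟨x', rfl, -⟩ := Scheme.exists_preimage_of_isPullback sq x (IsLocalRing.closedPoint K) hx
    have h2 : c x' ∈ ⨆ k, CohB1.genLocus M (homOf (t' k)) := by rw [hr'.iSup_genLocus]; trivial
    obtain ⟨k, hk⟩ := Opens.mem_iSup.1 h2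
    have h3 : x' ∈ CohB1.genLocus _ (homOf (pullTop c (t' k))) := by
      rw [genLocus_pullTop c hM]
      exact hk
    rw [← genLocus_app e, ht k, genLocus_pullTop i hL] at h3
    exact Opens.mem_iSup.2 ⟨k, h3⟩
  obtain ⟨U0, ht0, hU0⟩ := exists_nhd_of_isClosedMap f.isClosedMap (V : Set C) V.2 _ hfib
  obtain ⟨U, hUa, htU, hle⟩ := exists_isAffineOpen_mem_and_subset (U := U0) ht0
  have hUa' : IsAffine (U : Scheme.{u}) := hUa
  have hrg : Set.range τ ⊆ Set.range U.ι := by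
    rw [Scheme.Opens.range_ι]
    rintro _ ⟨x, rfl⟩
    rw [Subsingleton.elim x (IsLocalRing.closedPoint K)]
    exact htU
  let τ1 : Spec (CommRingCat.of K) ⟶ U := IsOpenImmersion.lift U.ι τ hrg
  have hτ1 : τ1 ≫ U.ι = τ := IsOpenImmersion.lift_fac _ _ _
  have sqU : IsPullback (f ⁻¹ᵁ U).ι (f ∣_ U) f U.ι := (isPullback_morphismRestrict f U).flip
  obtain ⟨i1, rfl, sq1⟩ := AcycNbhd.factor sq sqU τ1 hτ1
  let L1 := (Scheme.Modules.pullback (f ⁻¹ᵁ U).ι).obj L
  let t1 : Fin (m + 1) → Γ(L1, ⊤) := fun k => pullTop (f ⁻¹ᵁ U).ι (t k)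
  have hcov : ⨆ k, CohB1.genLocus L1 (homOf (t1 k)) = ⊤ := by
    rw [eq_top_iff]
    intro x _
    have h2 : (f ⁻¹ᵁ U).ι x ∈ V := hU0 _ (hle x.2)
    obtain ⟨k, hk⟩ := Opens.mem_iSup.1 h2
    refine Opens.mem_iSup.2 ⟨k, ?_⟩
    change x ∈ CohB1.genLocus _ (homOf (pullTop (f ⁻¹ᵁ U).ι (t k)))
    rw [genLocus_pullTop _ hL]
    exact hk
  obtain ⟨φ0, hφ0⟩ := exists_givenBy' t1 hcov
  have hcomm : i1 ≫ φ0 = c ≫ r' := by
    have g1 := (hφ0.comp i1).of_iso ((Scheme.Modules.pullbackComp i1 (f ⁻¹ᵁ U).ι).app L)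
    have g2 := (hr'.comp c).of_iso e
    have h3 : (fun k => ((Scheme.Modules.pullbackComp i1 (f ⁻¹ᵁ U).ι).app L).hom.app ⊤ (pullTop i1 (t1 k))) =
        fun k => e.hom.app ⊤ (pullTop c (t' k)) := by
      funext k
      rw [ht k]
      exact pullSec_comp' i1 (f ⁻¹ᵁ U).ι (t k)
    rw [h3] at g1
    exact g1.unique' g2
  have hpr : IsProper (liftP φ0 (f ∣_ U)) := by
    have : IsProper (liftP φ0 (f ∣_ U) ≫ CohB1.ProjSpaceOver.toBase m (U : Scheme.{u})) := by
      rw [liftP_toBase]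
      infer_instance
    exact IsProper.of_comp _ (CohB1.ProjSpaceOver.toBase m (U : Scheme.{u}))
  have hfl : Flat (liftP φ0 (f ∣_ U) ≫ CohB1.ProjSpaceOver.toBase m (U : Scheme.{u})) := by
    rw [liftP_toBase]
    infer_instance
  have sqC := isPullback_liftP sq1 φ0
  have h4 : liftP (i1 ≫ φ0) q = c ≫ liftP r' qY := by
    apply hom_ext_over
    · rw [liftP_toZ, Category.assoc, liftP_toZ, hcomm]
    · rw [liftP_toBase, Category.assoc, liftP_toBase, hcq]
  rw [h4] at sqC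
  have hn : IsLocallyNoetherian (U : Scheme.{u}) := inferInstance
  have h5 := lc_of_map hc (Dix.ProjProper.isPullback_mapBase m τ1) sqC
  rw [liftP_toBase, liftP_toBase] at h5
  exact h5.trans hτ1 sqU rfl

end K899.Ctr
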