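import Groth.Agent.CurvSt.K899.Ctr6
import Groth.Agent.Ega3B.LimInv4

/-!
# Spreading out a contraction (IV): arbitrary base
-/

set_option autoImplicit false
universe u
open CategoryTheory CategoryTheory.Limits AlgebraicGeometry TopologicalSpace Opposite

namespace K899.Ctr

open Groth.Agent Groth.Agent.Ega3B K898.ContrUniv

variable {X Y C T C0 T0 S' : Scheme.{u}}

theorem IsCtr.baseChange {c : X ⟶ Y} {S : Scheme.{u}} {g : Y ⟶ S} (h : IsCtr c) [IsProper c] [Flat (c ≫ g)]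
    {S' X' Y' : Scheme.{u}} {b : S' ⟶ S} {g' : Y' ⟶ S'} {c' : X' ⟶ Y'} {pY : Y' ⟶ Y} {pX : X' ⟶ X}
    (hY : IsPullback pY g' g b) (hX : IsPullback pX c' c pY) : IsCtr c' := by
  have : IsProper c' := MorphismProperty.of_isPullback (P := @IsProper) hX ‹_›
  exact IsCtr.of_acycAt (g := g') fun y => acycAt_baseChange hY hX y (h.acycAt _)

theorem LC.baseChange {f0 : C0 ⟶ T0} [IsProper f0] [Flat f0] {b : T ⟶ T0} {f : C ⟶ T} {p : C ⟶ C0}
    (sq : IsPullback p f f0 b) {τ : S' ⟶ T} {i : X ⟶ C} {c : X ⟶ Y} {qY : Y ⟶ S'} (hw : i ≫ f = (c ≫ qY) ≫ τ)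
    (h : LC f0 (τ ≫ b) (i ≫ p) c qY) : LC f τ i c qY := by
  obtain ⟨U0, j0, τ0', CU0, iU0, fU0, i0', C10, g0, γ0, e0, h1, h2, h3, h4, h5, h6, h7, h8, h9, h10, h11⟩ := h
  have sqU : IsPullback (pullback.fst b j0) (pullback.snd b j0) b j0 := IsPullback.of_hasPullback _ _
  generalize pullback.fst b j0 = j at sqU
  generalize pullback.snd b j0 = bU at sqU
  generalize pullback b j0 = U at j bU sqU
  have hj : IsOpenImmersion j := MorphismProperty.of_isPullback (P := @IsOpenImmersion) sqU.flip h1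
  let τ' : S' ⟶ U := sqU.lift τ τ0' h2.symm
  have hτ1 : τ' ≫ j = τ := sqU.lift_fst _ _ _
  have hτ2 : τ' ≫ bU = τ0' := sqU.lift_snd _ _ _
  have sqCU : IsPullback (pullback.fst f j) (pullback.snd f j) f j := IsPullback.of_hasPullback _ _
  generalize pullback.fst f j = iU at sqCU
  generalize pullback.snd f j = fU at sqCU
  generalize pullback f j = CU at iU fU sqCU
  have wCU : (iU ≫ p) ≫ f0 = (fU ≫ bU) ≫ j0 := by
    rw [Category.assoc, sq.w, sqCU.w_assoc, sqU.w, Category.assoc]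
  let pU : CU ⟶ CU0 := h3.lift (iU ≫ p) (fU ≫ bU) wCU
  have hpU1 : pU ≫ iU0 = iU ≫ p := h3.lift_fst _ _ _
  have sqf : IsPullback pU fU fU0 bU := by
    refine IsPullback.of_right ?_ (h3.lift_snd _ _ wCU) h3
    rw [hpU1, ← sqU.w]
    exact sqCU.paste_horiz sq
  have sq1 : IsPullback (pullback.fst g0 bU) (pullback.snd g0 bU) g0 bU := IsPullback.of_hasPullback _ _
  generalize pullback.fst g0 bU = p1 at sq1
  generalize pullback.snd g0 bU = g at sq1
  generalize pullback g0 bU = C1 at p1 g sq1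
  have w1 : (pU ≫ γ0) ≫ g0 = fU ≫ bU := by rw [Category.assoc, h5, sqf.w]
  let γ : CU ⟶ C1 := sq1.lift (pU ≫ γ0) fU w1
  have hγ1 : γ ≫ p1 = pU ≫ γ0 := sq1.lift_fst _ _ _
  have hγ2 : γ ≫ g = fU := sq1.lift_snd _ _ _
  have sqγ : IsPullback pU γ γ0 p1 := by
    refine IsPullback.of_bot ?_ hγ1.symm sq1
    rw [hγ2, h5]
    exact sqf
  have w2 : e0 ≫ g0 = (qY ≫ τ') ≫ bU := by rw [Category.assoc, hτ2, h10.w]
  let e : Y ⟶ C1 := sq1.lift e0 (qY ≫ τ') w2
  have he1 : e ≫ p1 = e0 := sq1.lift_fst _ _ _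
  have he2 : e ≫ g = qY ≫ τ' := sq1.lift_snd _ _ _
  have sqe : IsPullback e qY g τ' := by
    refine IsPullback.of_right ?_ he2 sq1
    rw [he1, hτ2]
    exact h10
  have w3 : i ≫ f = ((c ≫ qY) ≫ τ') ≫ j := by rw [Category.assoc, hτ1, hw]
  let i' : X ⟶ CU := sqCU.lift i ((c ≫ qY) ≫ τ') w3
  have hi1 : i' ≫ iU = i := sqCU.lift_fst _ _ _
  have hi2 : i' ≫ fU = (c ≫ qY) ≫ τ' := sqCU.lift_snd _ _ _
  have hi3 : i' ≫ pU = i0' := by
    apply h3.hom_ext
    · rw [Category.assoc, hpU1, ← Category.assoc, hi1, h4]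
    · rw [Category.assoc, sqf.w, ← Category.assoc, hi2, Category.assoc, hτ2, ← h5, ← Category.assoc, h11.w,
        Category.assoc, Category.assoc, h10.w]
  have hcomm : i' ≫ γ = c ≫ e := by
    apply sq1.hom_ext
    · rw [Category.assoc, hγ1, ← Category.assoc, hi3, h11.w, Category.assoc, he1]
    · rw [Category.assoc, hγ2, hi2, Category.assoc, Category.assoc, he2]
  have sqi : IsPullback i' c γ e := by
    refine IsPullback.of_right ?_ hcomm sqγ
    rw [hi3, he1]
    exact h11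
  have hfU0 : IsProper fU0 := MorphismProperty.of_isPullback (P := @IsProper) h3 ‹_›
  have hflU0 : Flat (γ0 ≫ g0) := by rw [h5]; exact MorphismProperty.of_isPullback (P := @Flat) h3 ‹_›
  have hγp : IsProper γ0 := by
    have : IsProper (γ0 ≫ g0) := by rw [h5]; exact hfU0
    exact IsProper.of_comp γ0 g0
  exact ⟨U, j, τ', CU, iU, fU, i', C1, g, γ, e, hj, hτ1, sqCU, hi1, hγ2,
    MorphismProperty.of_isPullback (P := @IsProper) sq1 h6, MorphismProperty.of_isPullback (P := @Flat) sq1 h7,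
    MorphismProperty.of_isPullback (P := @LocallyOfFinitePresentation) sq1 h8, h9.baseChange sq1 sqγ, sqe, sqi⟩

/-- **Spreading out a contraction.** `f : C ⟶ Spec A` proper flat of finite presentation, `L` invertible on `C`,
`c : X ⟶ Y` a contraction of the fibre `X` over a field valued point, `M` very ample on `Y` with
`c^* M ≅ L|X` and `H¹(X, L|X) = 0`: then `c` extends to a contraction of `C` over a neighbourhood. -/
theorem lc_affine {A : Type u} [CommRing A]
    (f : C ⟶ Spec (CommRingCat.of A)) [IsProper f] [Flat f] [LocallyOfFinitePresentation f]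
    {L : C.Modules} (hL : PicF.IsInvertible L)
    {K : Type u} [Field K] (τ : Spec (CommRingCat.of K) ⟶ Spec (CommRingCat.of A)) {i : X ⟶ C}
    {q : X ⟶ Spec (CommRingCat.of K)} (sq : IsPullback i q f τ)
    (h1 : Subsingleton (Coh.HH X ((Scheme.Modules.pullback i).obj L) 1))
    {c : X ⟶ Y} [QuasiCompact c] (hc : IsCtr c) {qY : Y ⟶ Spec (CommRingCat.of K)} [IsProper qY] (hcq : c ≫ qY = q)
    {M : Y.Modules} (hM : PicF.IsInvertible M) (hva : RelAmple.IsRelVeryAmplePn qY M)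
    (e : (Scheme.Modules.pullback c).obj M ≅ (Scheme.Modules.pullback i).obj L) : LC f τ i c qY := by
  obtain ⟨S, hS, C0, f0, p, L0, sq0, k1, k2, k3, hL0, ⟨ε⟩⟩ := LimInv.exists_proper_flat_model_Spec A f hL
  have hN : IsNoetherianRing S := by
    have h2 : Algebra.FiniteType ℤ S := (Subalgebra.fg_iff_finiteType S).1 hS
    exact Algebra.FiniteType.isNoetherianRing ℤ S
  have sq2 : IsPullback (i ≫ p) q f0 (τ ≫ Spec.map (CommRingCat.ofHom S.val.toRingHom)) := sq.paste_horiz sq0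
  let ε' : (Scheme.Modules.pullback i).obj L ≅ (Scheme.Modules.pullback (i ≫ p)).obj L0 :=
    (Scheme.Modules.pullback i).mapIso ε.symm ≪≫ (Scheme.Modules.pullbackComp i p).app L0
  have h1' : Subsingleton (Coh.HH X ((Scheme.Modules.pullback (i ≫ p)).obj L0) 1) :=
    CohqA.DirectSum.subsingleton_of_iso ε' 1 h1
  have h3 := lc_noeth f0 hL0 _ sq2 h1' hc hcq hM hva (e ≪≫ ε')
  refine h3.baseChange sq0 ?_
  rw [hcq, sq.w]

end K899.Ctr
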