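import Groth.Agent.CurvSt.K899.CtrL1

/-!
# Descent of contractions
-/

set_option autoImplicit false
universe u
open CategoryTheory CategoryTheory.Limits AlgebraicGeometry TopologicalSpace Opposite

namespace K899.Ctr

open Groth.Agent Groth.Agent.CohqA.CechE

theorem IsCtr.isAcyc_of_open {X Y X₁ Y₁ : Scheme.{u}} {c : X ⟶ Y} [QuasiCompact c] [IsSeparated c] (hc : IsCtr c)
    {c₁ : X₁ ⟶ Y₁} {pX : X₁ ⟶ X} {j : Y₁ ⟶ Y} [IsOpenImmersion j] [IsAffine Y₁] (sq : IsPullback pX c₁ c j) :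
    IsAcyc c₁ := by
  let W := j.opensRange
  have hW : IsAffineOpen W := isAffineOpen_opensRange j
  have hW' : IsAffine W := hW
  let e : Y₁ ≅ W := j.isoOpensRange
  have he : e.hom ≫ W.ι = j := j.isoOpensRange_hom_ι
  have sqW : IsPullback (c ⁻¹ᵁ W).ι (c ∣_ W) c W.ι := (isPullback_morphismRestrict c W).flip
  have w : pX ≫ c = (c₁ ≫ e.hom) ≫ W.ι := by rw [Category.assoc, he, sq.w]
  have sq1 : IsPullback (sqW.lift pX (c₁ ≫ e.hom) w) c₁ (c ∣_ W) e.hom := by
    refine IsPullback.of_right ?_ (sqW.lift_snd _ _ w) sqW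
    rw [sqW.lift_fst, he]
    exact sq
  exact IsAcyc.baseChange_flat (g := 𝟙 _) (g' := 𝟙 _) (h := e.hom) sq1 (IsPullback.of_vert_isIso ⟨by simp⟩)
    (hc.isAcyc hW)

theorem isPullback_id_of_mono {A B D : Scheme.{u}} {u : A ⟶ B} {j : B ⟶ D} [Mono j] {w : A ⟶ D} (h : u ≫ j = w) :
    IsPullback (𝟙 A) u w j := by
  refine ⟨⟨by rw [Category.id_comp, h]⟩, ⟨PullbackCone.IsLimit.mk _ (fun s => s.fst) (fun s => Category.comp_id _) ?_ ?_⟩⟩
  · intro s
    rw [← cancel_mono j, Category.assoc, h]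
    exact s.condition
  · intro s m h1 _
    simpa using h1

/-- A flat morphism locally of finite presentation is, near a point of its image, a faithfully flat morphism of affine
schemes up to open immersions. -/
theorem exists_ff {V T : Scheme.{u}} (a : V ⟶ T) [Flat a] [LocallyOfFinitePresentation a] (v : V) :
    ∃ (T₁ V₁ : Scheme.{u}) (k : T₁ ⟶ T) (j : V₁ ⟶ V) (a₁ : V₁ ⟶ T₁), IsAffine T₁ ∧ IsAffine V₁ ∧ IsOpenImmersion k ∧
      IsOpenImmersion j ∧ a v ∈ Set.range k ∧ a₁ ≫ k = j ≫ a ∧ Flat a₁ ∧ Surjective a₁ := by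
  obtain ⟨T₀, hT₀, hvT, -⟩ := exists_isAffineOpen_mem_and_subset (X := T) (x := a v) (U := ⊤) trivial
  obtain ⟨V₀, hV₀, hvV, hle⟩ := exists_isAffineOpen_mem_and_subset (X := V) (x := v) (U := a ⁻¹ᵁ T₀) hvT
  have i1 : IsAffine T₀ := hT₀
  have i2 : IsAffine V₀ := hV₀
  let u : V₀.toScheme ⟶ T₀.toScheme := a.resLE T₀ V₀ hle
  have hu : u ≫ T₀.ι = V₀.ι ≫ a := a.resLE_comp_ι hle
  have sqm := isPullback_id_of_mono hu
  have hfl : Flat u := MorphismProperty.of_isPullback (P := @Flat) sqm inferInstance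
  have hfp : LocallyOfFinitePresentation u :=
    MorphismProperty.of_isPullback (P := @LocallyOfFinitePresentation) sqm inferInstance
  let v' : V₀.toScheme := ⟨v, hvV⟩
  let O : T₀.toScheme.Opens := ⟨Set.range u, u.isOpenMap.isOpen_range⟩
  obtain ⟨D, hD, hvD, hDO⟩ := exists_isAffineOpen_mem_and_subset (X := T₀.toScheme) (x := u v') (U := O) ⟨v', rfl⟩
  have i3 : IsAffine D := hD
  have hua : IsAffineHom u := isAffineHom_of_isAffine u
  have i4 : IsAffine (u ⁻¹ᵁ D) := hD.preimage u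
  refine ⟨D.toScheme, (u ⁻¹ᵁ D).toScheme, D.ι ≫ T₀.ι, (u ⁻¹ᵁ D).ι ≫ V₀.ι, u ∣_ D, i3, i4, inferInstance, inferInstance,
    ?_, ?_, inferInstance, ?_⟩
  · let d' : D.toScheme := ⟨u v', hvD⟩
    refine ⟨d', ?_⟩
    rw [Scheme.Hom.comp_apply]
    change T₀.ι (u v') = a v
    rw [← Scheme.Hom.comp_apply, hu]
    rfl
  · rw [Category.assoc, ← hu, ← Category.assoc, ← Category.assoc, morphismRestrict_ι]
  · refine ⟨fun d => ?_⟩
    obtain ⟨w, hw⟩ := hDO d.2
    have hwD : w ∈ u ⁻¹ᵁ D := by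
      change u w ∈ D
      rw [hw]
      exact d.2
    let w' : (u ⁻¹ᵁ D).toScheme := ⟨w, hwD⟩
    refine ⟨w', ?_⟩
    have h1 : D.ι ((u ∣_ D) w') = D.ι d := by
      rw [← Scheme.Hom.comp_apply, morphismRestrict_ι, Scheme.Hom.comp_apply]
      exact hw
    exact D.ι.isOpenEmbedding.injective h1

/-- **Descent of contractions** along flat morphisms locally of finite presentation covering the base. -/
theorem isCtr_of_cover {X Y T : Scheme.{u}} {c : X ⟶ Y} {g : Y ⟶ T} [QuasiCompact c] [IsSeparated c]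
    (h : ∀ t : T, ∃ (V X' Y' : Scheme.{u}) (a : V ⟶ T) (_ : Flat a) (_ : LocallyOfFinitePresentation a) (v : V)
      (c' : X' ⟶ Y') (g' : Y' ⟶ V) (pY : Y' ⟶ Y) (pX : X' ⟶ X), a v = t ∧ IsPullback pY g' g a ∧
        IsPullback pX c' c pY ∧ IsCtr c') : IsCtr c := by
  refine isCtr_of_forall fun y => ?_
  obtain ⟨V, X', Y', a, _, _, v, c', g', pY, pX, hv, sqY, sqX, hc'⟩ := h (g y)
  have i1 : QuasiCompact c' := MorphismProperty.of_isPullback (P := @QuasiCompact) sqX ‹_›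
  have i2 : IsSeparated c' := MorphismProperty.of_isPullback (P := @IsSeparated) sqX ‹_›
  obtain ⟨T₁, V₁, k, j, a₁, j1, j2, j3, j4, ⟨t₁, ht₁⟩, j5, j6, j7⟩ := exists_ff a v
  obtain ⟨W, hW, hyW, hle⟩ := exists_isAffineOpen_mem_and_subset (X := Y) (x := y) (U := g ⁻¹ᵁ k.opensRange) (by
    change g y ∈ k.opensRange
    rw [← hv, ← ht₁]
    exact ⟨t₁, rfl⟩)
  have i3 : IsAffine W := hW
  have hr : Set.range (W.ι ≫ g) ⊆ Set.range k := by
    rintro _ ⟨w, rfl⟩
    exact hle w.2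
  obtain ⟨g₁, hg₁⟩ : ∃ g₁ : W.toScheme ⟶ T₁, g₁ ≫ k = W.ι ≫ g :=
    ⟨IsOpenImmersion.lift k _ hr, IsOpenImmersion.lift_fac _ _ _⟩
  -- the base change of `W`
  have sq2 : IsPullback (pullback.fst g₁ a₁) (pullback.snd g₁ a₁) g₁ a₁ := IsPullback.of_hasPullback _ _
  have sqW : IsPullback (c ⁻¹ᵁ W).ι (c ∣_ W) c W.ι := (isPullback_morphismRestrict c W).flip
  have sq1 : IsPullback (pullback.fst (c ∣_ W) (pullback.fst g₁ a₁)) (pullback.snd (c ∣_ W) (pullback.fst g₁ a₁))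
    (c ∣_ W) (pullback.fst g₁ a₁) := IsPullback.of_hasPullback _ _
  have wY : (pullback.fst g₁ a₁ ≫ W.ι) ≫ g = (pullback.snd g₁ a₁ ≫ j) ≫ a := by
    rw [Category.assoc, Category.assoc, ← hg₁, ← j5, pullback.condition_assoc]
  let m : pullback g₁ a₁ ⟶ Y' := sqY.lift _ _ wY
  have hm1 : m ≫ pY = pullback.fst g₁ a₁ ≫ W.ι := sqY.lift_fst _ _ _
  have hm2 : m ≫ g' = pullback.snd g₁ a₁ ≫ j := sqY.lift_snd _ _ _
  have hmo : IsOpenImmersion m := by
    -- `m` factors through the fibre product over `T`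
    have hmono : IsPullback (pullback.fst g₁ a₁) (pullback.snd g₁ a₁) (W.ι ≫ g) (j ≫ a) := by
      rw [← hg₁, ← j5]
      refine IsPullback.of_isLimit' ⟨by rw [pullback.condition_assoc]⟩ (PullbackCone.IsLimit.mk _
        (fun s => pullback.lift s.fst s.snd (by
          rw [← cancel_mono k, Category.assoc, Category.assoc]; exact s.condition))
        (fun s => pullback.lift_fst _ _ _) (fun s => pullback.lift_snd _ _ _) ?_)
      intro s m' h1 h2
      apply pullback.hom_ext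
      · rw [h1, pullback.lift_fst]
      · rw [h2, pullback.lift_snd]
    -- first restrict the source, then the base
    have q1 : IsPullback (pullback.fst pY W.ι) (pullback.snd pY W.ι) pY W.ι := IsPullback.of_hasPullback _ _
    have q2 : IsPullback (pullback.snd pY W.ι) (pullback.fst pY W.ι ≫ g') (W.ι ≫ g) a := q1.flip.paste_vert sqY
    have w3 : pullback.fst g₁ a₁ ≫ W.ι ≫ g = (pullback.snd g₁ a₁ ≫ j) ≫ a := by
      rw [Category.assoc, hmono.w]
    let n : pullback g₁ a₁ ⟶ pullback pY W.ι := q2.lift _ _ w3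
    have hn1 : n ≫ pullback.snd pY W.ι = pullback.fst g₁ a₁ := q2.lift_fst _ _ _
    have hn2 : n ≫ pullback.fst pY W.ι ≫ g' = pullback.snd g₁ a₁ ≫ j := q2.lift_snd _ _ _
    have q3 : IsPullback n (pullback.snd g₁ a₁) (pullback.fst pY W.ι ≫ g') j := by
      refine IsPullback.of_right ?_ hn2 q2
      rw [hn1]
      exact hmono
    have hno : IsOpenImmersion n := MorphismProperty.of_isPullback (P := @IsOpenImmersion) q3.flip j4
    have hmn : m = n ≫ pullback.fst pY W.ι := by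
      apply sqY.hom_ext
      · rw [hm1, Category.assoc, pullback.condition, ← Category.assoc, hn1]
      · rw [hm2, Category.assoc, hn2]
    rw [hmn]
    infer_instance
  have i5 : IsAffine (pullback g₁ a₁) := isAffine_of_sq sq2
  have wX : (pullback.fst (c ∣_ W) (pullback.fst g₁ a₁) ≫ (c ⁻¹ᵁ W).ι) ≫ c =
      (pullback.snd (c ∣_ W) (pullback.fst g₁ a₁) ≫ m) ≫ pY := by
    rw [Category.assoc, Category.assoc, hm1, ← morphismRestrict_ι, pullback.condition_assoc]
  have sq3 : IsPullback (sqX.lift _ _ wX) (pullback.snd (c ∣_ W) (pullback.fst g₁ a₁)) c' m := by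
    refine IsPullback.of_right ?_ (sqX.lift_snd _ _ wX) sqX
    rw [sqX.lift_fst, hm1]
    exact sq1.paste_horiz sqW
  have hac := hc'.isAcyc_of_open sq3
  have hff : (a₁.app ⊤).hom.FaithfullyFlat :=
    (Flat.flat_and_surjective_iff_faithfullyFlat_of_isAffine a₁).1 ⟨inferInstance, inferInstance⟩
  have h1 : IsAcyc (c ∣_ W) := IsAcyc.of_baseChange hff sq1 sq2 hac
  obtain ⟨h2, h3⟩ := (isAcyc_restrict_iff c W).1 h1
  exact ⟨W, hW, hyW, h2, h3⟩

end K899.Ctr
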