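import Groth.Agent.CurvSt.K899.CtrD1
import Groth.Agent.CurvSt.K899.CtrL5
import Groth.Agent.CurvSt.K333.StableOpen
import Groth.Agent.CurvSt.K508.SmLocus
import Groth.Agent.CurvSt.K896.Stabil
import Groth.Agent.S17207

/-!
# Stable contractions of pointed families: base change, uniqueness, local existence
-/

set_option autoImplicit false
universe u
open CategoryTheory CategoryTheory.Limits AlgebraicGeometry TopologicalSpace Opposite CurvSt

namespace K899.Ctr

open Groth.Agent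

/-- The conclusions of the statements on contractions. -/
theorem IsCtr.concl {X Y : Scheme.{u}} {c : X ⟶ Y} (h : IsCtr c) [HasInjectiveResolutions X.Modules] :
    IsIso (ClSub.unitToPush c) ∧ IsZero ((Coh.Rpush c 1).obj (Coh.structureModule X)) :=
  ⟨h.isCon.isIso_unit, h.isCon.isZero_Rpush 1 Nat.one_pos⟩

theorem IsCtr.concl_baseChange {C C₁ T : Scheme.{u}} {c : C ⟶ C₁} {g : C₁ ⟶ T} (h : IsCtr c) [IsProper c]
    [Flat (c ≫ g)] :
    ∀ (T₀ C₀ D₀ : Scheme.{u}) (b : T₀ ⟶ T) (g₀ : D₀ ⟶ T₀) (c₀ : C₀ ⟶ D₀) (pD : D₀ ⟶ C₁) (pC : C₀ ⟶ C)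
        [HasInjectiveResolutions C₀.Modules],
        IsPullback pD g₀ g b → IsPullback pC c₀ c pD →
          IsIso (ClSub.unitToPush c₀) ∧ IsZero ((Coh.Rpush c₀ 1).obj (Coh.structureModule C₀)) :=
  fun _ _ _ _ _ _ _ _ _ h1 h2 => (h.baseChange h1 h2).concl

/-- A contraction is an epimorphism. -/
theorem IsCtr.hom_ext {X Y Z : Scheme.{u}} {c : X ⟶ Y} [IsProper c] (h : IsCtr c) {a b : Y ⟶ Z}
    (hab : c ≫ a = c ≫ b) : a = b := by
  have := h.surjective
  have := K900.Desc.isIso_c c (fun U => h.isIso_app U)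
  exact (Groth.Agent.S3567.result c (K900.Desc.isQuotientMap c) Z).1 a b hab

variable {n : ℕ}

/-- A stable contraction of a pointed family. -/
structure Con {C T : Scheme.{u}} (f : C ⟶ T) (σ : Fin n → (T ⟶ C)) (hσ : ∀ i, σ i ≫ f = 𝟙 T) (g : ℕ) where
  C₁ : Scheme.{u}
  g₁ : C₁ ⟶ T
  γ : C ⟶ C₁
  w : γ ≫ g₁ = f
  ctr : IsCtr γ
  st : IsStableFam g₁ (fun i => σ i ≫ γ)
    (fun i => (Category.assoc _ _ _).trans ((congrArg (fun x => σ i ≫ x) w).trans (hσ i))) g

namespace Con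

variable {C T : Scheme.{u}} {f : C ⟶ T} {σ : Fin n → (T ⟶ C)} {hσ : ∀ i, σ i ≫ f = 𝟙 T} {g : ℕ}

theorem proper_γ [IsProper f] (A : Con f σ hσ g) : IsProper A.γ := by
  have h1 : IsProper A.g₁ := A.st.2.1
  have : IsProper (A.γ ≫ A.g₁) := by rw [A.w]; infer_instance
  exact IsProper.of_comp A.γ A.g₁

section BC

variable {C' T' : Scheme.{u}} {f' : C' ⟶ T'} {b : T' ⟶ T} {p : C' ⟶ C} (sq : IsPullback p f' f b)
  {σ' : Fin n → (T' ⟶ C')} (hσ' : ∀ i, σ' i ≫ f' = 𝟙 T') (hp : ∀ i, σ' i ≫ p = b ≫ σ i)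

/-- The contraction morphism of the base change. -/
noncomputable def bcγ (A : Con f σ hσ g) : C' ⟶ pullback A.g₁ b :=
  pullback.lift (p ≫ A.γ) f' (by rw [Category.assoc, A.w, sq.w])

theorem bcγ_fst (A : Con f σ hσ g) : bcγ sq A ≫ pullback.fst A.g₁ b = p ≫ A.γ := pullback.lift_fst _ _ _
theorem bcγ_snd (A : Con f σ hσ g) : bcγ sq A ≫ pullback.snd A.g₁ b = f' := pullback.lift_snd _ _ _

theorem isPullback_bcγ (A : Con f σ hσ g) : IsPullback p (bcγ sq A) A.γ (pullback.fst A.g₁ b) := by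
  refine IsPullback.of_bot (h₃₁ := b) (v₂₁ := pullback.snd A.g₁ b) (v₂₂ := A.g₁) ?_ (bcγ_fst sq A).symm
    (IsPullback.of_hasPullback _ _)
  rw [bcγ_snd, A.w]
  exact sq

include hσ' hp in
/-- Base change of a stable contraction. -/
noncomputable def baseChange [IsProper f] [Flat f] (A : Con f σ hσ g) : Con f' σ' hσ' g where
  C₁ := pullback A.g₁ b
  g₁ := pullback.snd A.g₁ b
  γ := bcγ sq A
  w := bcγ_snd sq A
  ctr := by
    have := A.proper_γ
    have : Flat (A.γ ≫ A.g₁) := by rw [A.w]; infer_instance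
    exact A.ctr.baseChange (IsPullback.of_hasPullback A.g₁ b) (isPullback_bcγ sq A)
  st := K508.SmLocus.isStableFam_of_isPullback _ A.st (IsPullback.of_hasPullback A.g₁ b) fun i => by
    rw [Category.assoc, bcγ_fst, ← Category.assoc, hp, Category.assoc]

end BC

/-- Uniqueness of the stable contraction. -/
theorem existsUnique_iso (hpre : IsPrestablePtdFam f σ hσ g) (hg : 3 ≤ 2 * g + n) (A B : Con f σ hσ g) :
    ∃! e : A.C₁ ≅ B.C₁, A.γ ≫ e.hom = B.γ := by
  have h1 : Flat f := hpre.1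
  have h2 : IsProper f := hpre.2.1
  have hA := A.proper_γ
  have hB := B.proper_γ
  have hAf : Flat (A.γ ≫ A.g₁) := by rw [A.w]; infer_instance
  have hBf : Flat (B.γ ≫ B.g₁) := by rw [B.w]; infer_instance
  exact Groth.Agent.S17207.result f n g σ hσ hpre hg A.C₁ A.g₁ A.γ A.w A.st A.ctr.concl_baseChange
    B.C₁ B.g₁ B.γ B.w B.st B.ctr.concl_baseChange

section Top

variable {C' T' : Scheme.{u}} {f' : C' ⟶ T'} {b : T' ⟶ T} {p : C' ⟶ C} (sq : IsPullback p f' f b)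
  {σ' : Fin n → (T' ⟶ C')} {hσ' : ∀ i, σ' i ≫ f' = 𝟙 T'} (hp : ∀ i, σ' i ≫ p = b ≫ σ i)

include sq hp in
/-- Prestable families are stable under base change. -/
theorem prestable_baseChange (hpre : IsPrestablePtdFam f σ hσ g) : IsPrestablePtdFam f' σ' hσ' g := by
  obtain ⟨h1, h2, h3, h4⟩ := hpre
  refine ⟨MorphismProperty.of_isPullback sq h1, MorphismProperty.of_isPullback sq h2,
    MorphismProperty.of_isPullback sq h3, fun Ω _ _ t X i q hP => ?_⟩
  have hP' : IsPullback (i ≫ p) q f (t ≫ b) := hP.paste_horiz sq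
  have := h4 Ω (t ≫ b) X (i ≫ p) q hP'
  rwa [K508.SmLocus.markedPt_congr_fun hσ' hσ hP hP' p rfl fun j => by rw [hp, Category.assoc]]

include sq hp in
theorem exists_top (hpre : IsPrestablePtdFam f σ hσ g) (hg : 3 ≤ 2 * g + n) (A : Con f σ hσ g) (A' : Con f' σ' hσ' g) :
    ∃ top : A'.C₁ ⟶ A.C₁, A'.γ ≫ top = p ≫ A.γ ∧ IsPullback top A'.g₁ A.g₁ b := by
  have h1 : Flat f := hpre.1
  have h2 : IsProper f := hpre.2.1
  have hpre' : IsPrestablePtdFam f' σ' hσ' g := prestable_baseChange sq hp hpre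
  have h2' : IsProper f' := hpre'.2.1
  have hA' := A'.proper_γ
  obtain ⟨e, he'⟩ : ∃ e : A'.C₁ ≅ pullback A.g₁ b, A'.γ ≫ e.hom = bcγ sq A := by
    obtain ⟨e, he, -⟩ := existsUnique_iso hpre' hg A' (A.baseChange sq hσ' hp)
    exact ⟨e, he⟩
  have h3 : e.hom ≫ pullback.snd A.g₁ b = A'.g₁ := by
    apply A'.ctr.hom_ext
    rw [← Category.assoc, he', bcγ_snd, A'.w]
  refine ⟨e.hom ≫ pullback.fst A.g₁ b, ?_, ?_⟩
  · rw [← Category.assoc, he', bcγ_fst]
  · have h4 : IsPullback e.hom A'.g₁ (pullback.snd A.g₁ b) (𝟙 T') :=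
      IsPullback.of_horiz_isIso ⟨by rw [Category.comp_id, h3]⟩
    have h5 := h4.paste_horiz (IsPullback.of_hasPullback A.g₁ b)
    rwa [Category.id_comp] at h5

end Top

end Con

theorem isStableFam_restrict {C₁ T' C₁V : Scheme.{u}} {g' : C₁ ⟶ T'} {s₁ : Fin n → (T' ⟶ C₁)}
    {hs₁ : ∀ i, s₁ i ≫ g' = 𝟙 _} {g : ℕ} (h1 : Flat g') (h2 : IsProper g') (h3 : LocallyOfFinitePresentation g')
    {V : T'.Opens} (hV : (V : Set T') ⊆ K901.SchLoc.Loc (K333.StableOpen.StabProp n g) g' s₁ hs₁)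
    {gV : C₁V ⟶ V.toScheme} {pV : C₁V ⟶ C₁} (sq : IsPullback pV gV g' V.ι) {sV : Fin n → (V.toScheme ⟶ C₁V)}
    {hsV : ∀ i, sV i ≫ gV = 𝟙 _} (hp : ∀ i, sV i ≫ pV = V.ι ≫ s₁ i) : IsStableFam gV sV hsV g := by
  refine ⟨MorphismProperty.of_isPullback sq h1, MorphismProperty.of_isPullback sq h2,
    MorphismProperty.of_isPullback sq h3, fun Ω _ _ t X i q hP => ?_⟩
  have hP' : IsPullback (i ≫ pV) q g' (t ≫ V.ι) := hP.paste_horiz sq
  have := hV (t (pt Ω)).2 Ω (t ≫ V.ι) rfl X (i ≫ pV) q hP'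
  rwa [K508.SmLocus.markedPt_congr_fun hsV hs₁ hP hP' pV rfl fun j => by rw [hp, Category.assoc]]

/-- The sections of a base change. -/
noncomputable def bs {C T T' : Scheme.{u}} (f : C ⟶ T) (σ : Fin n → (T ⟶ C)) (hσ : ∀ j, σ j ≫ f = 𝟙 T) (u : T' ⟶ T)
    (j : Fin n) : T' ⟶ pullback f u :=
  pullback.lift (u ≫ σ j) (𝟙 _) (by rw [Category.assoc, hσ, Category.comp_id, Category.id_comp])

theorem bs_snd {C T T' : Scheme.{u}} (f : C ⟶ T) (σ : Fin n → (T ⟶ C)) (hσ : ∀ j, σ j ≫ f = 𝟙 T) (u : T' ⟶ T)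
    (j : Fin n) : bs f σ hσ u j ≫ pullback.snd f u = 𝟙 _ := pullback.lift_snd _ _ _

theorem bs_fst {C T T' : Scheme.{u}} (f : C ⟶ T) (σ : Fin n → (T ⟶ C)) (hσ : ∀ j, σ j ≫ f = 𝟙 T) (u : T' ⟶ T)
    (j : Fin n) : bs f σ hσ u j ≫ pullback.fst f u = u ≫ σ j := pullback.lift_fst _ _ _

/-- **Local existence of stable contractions**, fppf locally on the base. -/
theorem exists_con {C T : Scheme.{u}} {f : C ⟶ T} {σ : Fin n → (T ⟶ C)} {hσ : ∀ i, σ i ≫ f = 𝟙 T} {g : ℕ}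
    (hpre : IsPrestablePtdFam f σ hσ g) (hg : 3 ≤ 2 * g + n) (t : T) :
    ∃ (V : Scheme.{u}) (a : V ⟶ T) (_ : Flat a) (_ : LocallyOfFinitePresentation a) (v : V), a v = t ∧
      Nonempty (Con (pullback.snd f a) (bs f σ hσ a) (bs_snd f σ hσ a) g) := by
  have k1 : Flat f := hpre.1
  have k2 : IsProper f := hpre.2.1
  have k3 : LocallyOfFinitePresentation f := hpre.2.2.1
  obtain ⟨K, _, _, τ, hτ⟩ := K901.GeomLoc.exists_geomPt t
  have sq : IsPullback (pullback.fst f τ) (pullback.snd f τ) f τ := IsPullback.of_hasPullback f τ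
  have hX := hpre.2.2.2 K τ _ _ _ sq
  obtain ⟨m1, m2, m3, ⟨m4, m5⟩, m6, m7⟩ := hX
  obtain ⟨Y, qY, c, hcq, hst, hcon⟩ := K896.Stabil.main K (pullback.snd f τ) g n (markedPt σ hσ sq)
    ⟨m1, m2, m3, m4, m5, m6, fun i => (m7 i).1, fun i => (m7 i).2⟩ hg
  have hc := IsCtr.of_isCon hcon
  have hPY : IsProper qY := hst.1
  have hRY : IsReduced Y := by
    let _ : Y.Over (Spec (CommRingCat.of K)) := ⟨qY⟩
    have : IsProper (Y ↘ Spec (CommRingCat.of K)) := hPY
    exact Groth.Agent.CurvesC.GenusOne512.isReduced_of_atWorstNodal K Y hst.2.2.2.1.1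
  obtain ⟨T', C', C₁, b, p, f', g', γ, τ', i', e, l1, l2, l3, l4, l5, l6, l7, l8, l9, l10, l11, l12⟩ :=
    exists_local f τ sq hc hcq m3.le hst.2.2.1.le
  let σ' : Fin n → (T' ⟶ C') := fun i => l4.lift (b ≫ σ i) (𝟙 _) (by
    rw [Category.assoc, hσ, Category.comp_id, Category.id_comp])
  have hσ'1 : ∀ i, σ' i ≫ p = b ≫ σ i := fun i => l4.lift_fst _ _ _
  have hσ'2 : ∀ i, σ' i ≫ f' = 𝟙 _ := fun i => l4.lift_snd _ _ _
  have hs₁ : ∀ i, (σ' i ≫ γ) ≫ g' = 𝟙 _ := fun i => by rw [Category.assoc, l6, hσ'2]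
  have hopen := K333.StableOpen.isOpen_stable g' (fun i => σ' i ≫ γ) hs₁ g
  have hif : i' ≫ f' = pullback.snd f τ ≫ τ' := by
    rw [← l6, ← Category.assoc, l12.w, Category.assoc, l11.w, ← Category.assoc, hcq]
  have hmem : τ' (pt K) ∈ K901.SchLoc.Loc (K333.StableOpen.StabProp n g) g' (fun i => σ' i ≫ γ) hs₁ := by
    refine (K333.StableOpen.isStablePtd_iff g' (fun i => σ' i ≫ γ) hs₁ g l11).1 ?_
    have hmk : markedPt (fun i => σ' i ≫ γ) hs₁ l11 = fun i => c.base (markedPt σ hσ sq i) := by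
      funext j
      let x : Spec (CommRingCat.of K) ⟶ pullback f τ := sq.lift (τ ≫ σ j) (𝟙 _) (by
        rw [Category.assoc, hσ, Category.comp_id, Category.id_comp])
      have hx1 : x ≫ pullback.fst f τ = τ ≫ σ j := sq.lift_fst _ _ _
      have hx2 : x ≫ pullback.snd f τ = 𝟙 _ := sq.lift_snd _ _ _
      have hx3 : x ≫ i' = τ' ≫ σ' j := by
        apply l4.hom_ext
        · rw [Category.assoc, l5, hx1, Category.assoc, hσ'1, ← Category.assoc, l3]
        · rw [Category.assoc, hif, ← Category.assoc, hx2, Category.id_comp, Category.assoc, hσ'2, Category.comp_id]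
      refine (K901.SchLoc.markedPt_eq_of g' (fun i => σ' i ≫ γ) hs₁ l11 j (x ≫ c) ?_ ?_).trans rfl
      · rw [Category.assoc, ← l12.w, ← Category.assoc, hx3, Category.assoc]
      · rw [Category.assoc, hcq, hx2]
    rw [hmk]
    exact hst
  let V : T'.Opens := ⟨_, hopen⟩
  let v : V.toScheme := ⟨τ' (pt K), hmem⟩
  refine ⟨V.toScheme, V.ι ≫ b, inferInstance, inferInstance, v, ?_, ⟨?_⟩⟩
  · rw [Scheme.Hom.comp_apply]
    change b (τ' (pt K)) = t
    rw [← Scheme.Hom.comp_apply, l3]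
    exact hτ
  · have wV : pullback.fst f (V.ι ≫ b) ≫ f = (pullback.snd f (V.ι ≫ b) ≫ V.ι) ≫ b := by
      rw [pullback.condition, Category.assoc]
    let pV : pullback f (V.ι ≫ b) ⟶ C' := l4.lift _ _ wV
    have hpV1 : pV ≫ p = pullback.fst f (V.ι ≫ b) := l4.lift_fst _ _ _
    have hpV2 : pV ≫ f' = pullback.snd f (V.ι ≫ b) ≫ V.ι := l4.lift_snd _ _ _
    have sqV : IsPullback pV (pullback.snd f (V.ι ≫ b)) f' V.ι := by
      refine IsPullback.of_right ?_ hpV2 l4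
      rw [hpV1]
      exact IsPullback.of_hasPullback _ _
    let γV : pullback f (V.ι ≫ b) ⟶ pullback g' V.ι := pullback.lift (pV ≫ γ) (pullback.snd f (V.ι ≫ b)) (by
      rw [Category.assoc, l6, hpV2])
    have hγV1 : γV ≫ pullback.fst g' V.ι = pV ≫ γ := pullback.lift_fst _ _ _
    have hγV2 : γV ≫ pullback.snd g' V.ι = pullback.snd f (V.ι ≫ b) := pullback.lift_snd _ _ _
    have sqγ : IsPullback pV γV γ (pullback.fst g' V.ι) := by
      refine IsPullback.of_bot (h₃₁ := V.ι) (v₂₁ := pullback.snd g' V.ι) (v₂₂ := g') ?_ hγV1.symm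
        (IsPullback.of_hasPullback _ _)
      rw [hγV2, l6]
      exact sqV
    have hf' : IsProper f' := MorphismProperty.of_isPullback (P := @IsProper) l4 k2
    have hfl' : Flat (γ ≫ g') := by rw [l6]; exact MorphismProperty.of_isPullback (P := @Flat) l4 k1
    have hγp : IsProper γ := by
      have : IsProper (γ ≫ g') := by rw [l6]; exact hf'
      exact IsProper.of_comp γ g'
    exact
      { C₁ := pullback g' V.ι
        g₁ := pullback.snd g' V.ι
        γ := γV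
        w := hγV2
        ctr := l10.baseChange (IsPullback.of_hasPullback g' V.ι) sqγ
        st := isStableFam_restrict l8 l7 l9 (V := V) (hs₁ := hs₁) le_rfl (IsPullback.of_hasPullback g' V.ι) (fun j => by
          rw [Category.assoc, hγV1]
          have h9 : bs f σ hσ (V.ι ≫ b) j ≫ pV = V.ι ≫ σ' j := by
            apply l4.hom_ext
            · rw [Category.assoc, hpV1, bs_fst, Category.assoc, Category.assoc, hσ'1]
            · rw [Category.assoc, hpV2, ← Category.assoc, bs_snd, Category.id_comp, Category.assoc, hσ'2,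
                Category.comp_id]
          rw [← Category.assoc, h9, Category.assoc]) }

end K899.Ctr
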