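import Groth.Agent.CurvSt.K899.CtrD2
import Groth.Agent.CurvSt.K316.MbarAlg
import Groth.Agent.Stk.K751.Test
import Groth.Agent.AlgSp.K601.FppfSieve

/-!
# Stable contractions of pointed families: descent
-/

set_option autoImplicit false
universe u
open CategoryTheory CategoryTheory.Limits AlgebraicGeometry TopologicalSpace Opposite CurvSt

namespace K899.Ctr

open Groth.Agent

section Tr

variable {C T : Scheme.{u}} (f : C ⟶ T)

/-- Transition morphism between base changes. -/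
noncomputable def tr {V W : Scheme.{u}} {a : V ⟶ T} {b : W ⟶ T} (h : V ⟶ W) (w : h ≫ b = a) :
    pullback f a ⟶ pullback f b :=
  pullback.lift (pullback.fst f a) (pullback.snd f a ≫ h) (by rw [pullback.condition, Category.assoc, w])

variable {V W : Scheme.{u}} {a : V ⟶ T} {b : W ⟶ T} (h : V ⟶ W) (w : h ≫ b = a)

theorem tr_fst : tr f h w ≫ pullback.fst f b = pullback.fst f a := pullback.lift_fst _ _ _
theorem tr_snd : tr f h w ≫ pullback.snd f b = pullback.snd f a ≫ h := pullback.lift_snd _ _ _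

theorem isPullback_tr : IsPullback (tr f h w) (pullback.snd f a) (pullback.snd f b) h := by
  refine IsPullback.of_right ?_ (tr_snd f h w) (IsPullback.of_hasPullback f b)
  rw [tr_fst, w]
  exact IsPullback.of_hasPullback f a

theorem tr_id : tr f (𝟙 V) (Category.id_comp a) = 𝟙 _ := by
  apply pullback.hom_ext
  · rw [tr_fst, Category.id_comp]
  · rw [tr_snd, Category.comp_id, Category.id_comp]

theorem tr_comp {V' : Scheme.{u}} {a' : V' ⟶ T} (k : V' ⟶ V) (w' : k ≫ a = a') :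
    tr f (k ≫ h) (by rw [Category.assoc, w, w']) = tr f k w' ≫ tr f h w := by
  apply pullback.hom_ext
  · rw [tr_fst, Category.assoc, tr_fst, tr_fst]
  · rw [tr_snd, Category.assoc, tr_snd, ← Category.assoc, ← Category.assoc, tr_snd]

variable {n : ℕ} (σ : Fin n → (T ⟶ C)) (hσ : ∀ i, σ i ≫ f = 𝟙 T)

theorem bs_tr (i : Fin n) : bs f σ hσ a i ≫ tr f h w = h ≫ bs f σ hσ b i := by
  apply pullback.hom_ext
  · rw [Category.assoc, tr_fst, bs_fst, Category.assoc, bs_fst, ← Category.assoc, w]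
  · rw [Category.assoc, tr_snd, ← Category.assoc, bs_snd, Category.assoc, bs_snd, Category.id_comp, Category.comp_id]

end Tr

section

variable {n : ℕ} {C T : Scheme.{u}} (f : C ⟶ T) (σ : Fin n → (T ⟶ C)) (hσ : ∀ i, σ i ≫ f = 𝟙 T) (g : ℕ)

/-- Contractions of the base change. -/
abbrev ConV {V : Scheme.{u}} (a : V ⟶ T) : Type (u + 1) :=
  Con (pullback.snd f a) (bs f σ hσ a) (bs_snd f σ hσ a) g

theorem conV_of_comp [IsProper f] [Flat f] {V W : Scheme.{u}} {a : V ⟶ T} {b : W ⟶ T} (h : V ⟶ W) (w : h ≫ b = a)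
    (A : Nonempty (ConV f σ hσ g b)) : Nonempty (ConV f σ hσ g a) :=
  A.map fun A => A.baseChange (isPullback_tr f h w) (bs_snd f σ hσ a) (bs_tr f h w σ hσ)

variable {f σ hσ g} (hpre : IsPrestablePtdFam f σ hσ g)

include hpre in
theorem prestable_snd {V : Scheme.{u}} (a : V ⟶ T) :
    IsPrestablePtdFam (pullback.snd f a) (bs f σ hσ a) (bs_snd f σ hσ a) g :=
  Con.prestable_baseChange (IsPullback.of_hasPullback f a) (bs_fst f σ hσ a) hpre

include hpre in
theorem exists_topV (hg : 3 ≤ 2 * g + n) {V W : Scheme.{u}} {a : V ⟶ T} {b : W ⟶ T} (h : V ⟶ W) (w : h ≫ b = a)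
    (A : ConV f σ hσ g a) (B : ConV f σ hσ g b) :
    ∃ top : A.C₁ ⟶ B.C₁, A.γ ≫ top = tr f h w ≫ B.γ ∧ IsPullback top A.g₁ B.g₁ h :=
  Con.exists_top (isPullback_tr f h w) (bs_tr f h w σ hσ) (prestable_snd hpre b) hg B A

/-- The sieve of the `V ⟶ T` over which a contraction exists. -/
def sieveV [IsProper f] [Flat f] : Sieve (Over.mk (𝟙 T)) where
  arrows V a := Nonempty (ConV f σ hσ g a.left)
  downward_closed {V W} a ha k := conV_of_comp f σ hσ g k.left (by rw [← Over.comp_left]) ha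

/-- The stable family attached to a contraction. -/
noncomputable def famV {V : Over T} (a : V.left ⟶ T) (A : ConV f σ hσ g a) : (Mbar T g n).obj where
  obj :=
    { base := V
      C := A.C₁
      f := A.g₁
      sect := fun i => bs f σ hσ a i ≫ A.γ
      sect_f := fun i => by rw [Category.assoc, A.w, bs_snd] }
  property := A.st

/-- Morphisms between the families attached to contractions. -/
noncomputable def famMap {V W : Over T} {a : V.left ⟶ T} {b : W.left ⟶ T} (A : ConV f σ hσ g a) (B : ConV f σ hσ g b)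
    (h : V ⟶ W) (w : h.left ≫ b = a) (top : A.C₁ ⟶ B.C₁) (h1 : A.γ ≫ top = tr f h.left w ≫ B.γ)
    (h2 : IsPullback top A.g₁ B.g₁ h.left) : famV a A ⟶ famV b B where
  hom :=
    { base := h
      top := top
      cart := h2
      w_sect := fun i => by
        change (bs f σ hσ a i ≫ A.γ) ≫ top = h.left ≫ (bs f σ hσ b i ≫ B.γ)
        rw [Category.assoc, h1, ← Category.assoc, bs_tr, Category.assoc] }

theorem fam_hom_ext {X Y : (Mbar T g n).obj} {φ ψ : X ⟶ Y} (h1 : φ.hom.base = ψ.hom.base)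
    (h2 : φ.hom.top = ψ.hom.top) : φ = ψ :=
  ObjectProperty.hom_ext _ (PtFamObj.hom_ext h1 h2)

section Datum

variable [IsProper f] [Flat f] (hg : 3 ≤ 2 * g + n)

/-- The sieve category. -/
abbrev SC (f : C ⟶ T) [IsProper f] [Flat f] (σ : Fin n → (T ⟶ C)) (hσ : ∀ i, σ i ≫ f = 𝟙 T) (g : ℕ) :=
  (sieveV (f := f) (σ := σ) (hσ := hσ) (g := g)).arrows.category

/-- The chosen contraction. -/
noncomputable def cV (a : SC f σ hσ g) : ConV f σ hσ g a.obj.hom.left := Nonempty.some a.property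

omit hpre in
theorem wV {a b : SC f σ hσ g} (h : a ⟶ b) : h.hom.left.left ≫ b.obj.hom.left = a.obj.hom.left :=
  congrArg CommaMorphism.left (Over.w h.hom)

/-- The chosen transition morphism. -/
noncomputable def topV {a b : SC f σ hσ g} (h : a ⟶ b) : (cV a).C₁ ⟶ (cV b).C₁ :=
  (exists_topV hpre hg h.hom.left.left (wV h) (cV a) (cV b)).choose

theorem γ_topV {a b : SC f σ hσ g} (h : a ⟶ b) :
    (cV a).γ ≫ topV hpre hg h = tr f h.hom.left.left (wV h) ≫ (cV b).γ :=
  (exists_topV hpre hg h.hom.left.left (wV h) (cV a) (cV b)).choose_spec.1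

theorem isPullback_topV {a b : SC f σ hσ g} (h : a ⟶ b) :
    IsPullback (topV hpre hg h) (cV a).g₁ (cV b).g₁ h.hom.left.left :=
  (exists_topV hpre hg h.hom.left.left (wV h) (cV a) (cV b)).choose_spec.2

theorem topV_id (a : SC f σ hσ g) : topV hpre hg (𝟙 a) = 𝟙 _ := by
  have := Con.proper_γ (cV a)
  apply (cV a).ctr.hom_ext
  rw [γ_topV, Category.comp_id]
  exact (congrArg (fun x => x ≫ (cV a).γ) (tr_id f)).trans (Category.id_comp _)

theorem topV_comp {a b c : SC f σ hσ g} (h : a ⟶ b) (k : b ⟶ c) :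
    topV hpre hg (h ≫ k) = topV hpre hg h ≫ topV hpre hg k := by
  have := Con.proper_γ (cV a)
  apply (cV a).ctr.hom_ext
  rw [γ_topV, ← Category.assoc, γ_topV, Category.assoc, γ_topV, ← Category.assoc]
  exact congrArg (fun x => x ≫ (cV c).γ) (tr_comp f k.hom.left.left (wV k) h.hom.left.left (wV h))

/-- The descent datum of the local contractions. -/
noncomputable def datum :
    Stk.sieveCat (sieveV (f := f) (σ := σ) (hσ := hσ) (g := g)) ⥤ᵇ Mbar T g n :=
  K751.FG.mkFunctor (𝒳 := Stk.sieveCat (sieveV (f := f) (σ := σ) (hσ := hσ) (g := g))) (𝒴 := Mbar T g n)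
    (fun a => famV a.obj.hom.left (cV a))
    (fun {a b} h => famMap (cV a) (cV b) h.hom.left (wV h) (topV hpre hg h) (γ_topV hpre hg h)
      (isPullback_topV hpre hg h))
    (fun {a b} h => by
      have : (Mbar T g n).p.map (famMap (cV a) (cV b) h.hom.left (wV h) (topV hpre hg h) (γ_topV hpre hg h)
        (isPullback_topV hpre hg h)) = (Stk.sieveCat (sieveV (f := f) (σ := σ) (hσ := hσ) (g := g))).p.map h := rfl
      exact K751.FG.isHomLift_of_map_eq _ this)
    (fun a => fam_hom_ext rfl (topV_id hpre hg a))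
    (fun {a b c} h k => fam_hom_ext rfl (topV_comp hpre hg h k))

include hpre hg in
theorem sieveV_mem : sieveV (f := f) (σ := σ) (hσ := hσ) (g := g) ∈
    QuotSh.J Scheme.fppfPrecoverage T (Over.mk (𝟙 T)) := by
  change _ ∈ AlgSp.J T _
  rw [K601.FppfSieve.mem_J_iff]
  intro t
  obtain ⟨V, a, h1, h2, v, hv, hA⟩ := exists_con hpre hg t
  exact ⟨Over.mk a, Over.homMk a, v, hA, h1, h2, hv⟩

include hpre hg in
/-- The glued family. -/
theorem exists_family :
    ∃ (C' : Scheme.{u}) (g' : C' ⟶ T) (s' : Fin n → (T ⟶ C')) (hs' : ∀ i, s' i ≫ g' = 𝟙 T)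
      (_ : IsStableFam g' s' hs' g)
      (top : ∀ {V : Scheme.{u}} (a : V ⟶ T) (h : Nonempty (ConV f σ hσ g a)), h.some.C₁ ⟶ C'),
      (∀ {V : Scheme.{u}} (a : V ⟶ T) (h : Nonempty (ConV f σ hσ g a)), IsPullback (top a h) h.some.g₁ g' a) ∧
      (∀ {V : Scheme.{u}} (a : V ⟶ T) (h : Nonempty (ConV f σ hσ g a)) (i : Fin n),
        (bs f σ hσ a i ≫ h.some.γ) ≫ top a h = a ≫ s' i) ∧
      ∀ {V W : Scheme.{u}} (a : V ⟶ T) (b : W ⟶ T) (ha : Nonempty (ConV f σ hσ g a))
        (hb : Nonempty (ConV f σ hσ g b)) (k : V ⟶ W) (w : k ≫ b = a),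
        ha.some.γ ≫ top a ha = tr f k w ≫ hb.some.γ ≫ top b hb := by
  obtain ⟨E⟩ := K751.Test.exists_eff (K316.MbarAlg.isAlgStack_mbar T hg).isStack (sieveV_mem hpre hg)
    (datum hpre hg)
  obtain ⟨⟨⟨base, C', g', s', hs'⟩, hst⟩, ι, lift, nat, pt_obj⟩ := E
  obtain rfl : base = Over.mk (𝟙 T) := pt_obj
  have hbase : ∀ {V : Scheme.{u}} (a : V ⟶ T) (h : Nonempty (ConV f σ hσ g a)),
      (ι ⟨Over.mk (Over.homMk a : Over.mk a ⟶ Over.mk (𝟙 T)), h⟩).hom.base.left = a := fun a h => by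
    have := Over.w (ι ⟨Over.mk (Over.homMk a : Over.mk a ⟶ Over.mk (𝟙 T)), h⟩).hom.base
    exact (Category.comp_id _).symm.trans this
  refine ⟨C', g', s', hs', hst,
    fun {V} a h => (ι ⟨Over.mk (Over.homMk a : Over.mk a ⟶ Over.mk (𝟙 T)), h⟩).hom.top,
    fun {V} a h => ?_, fun {V} a h i => ?_, fun {V W} a b ha hb k w => ?_⟩
  · have := (ι ⟨Over.mk (Over.homMk a : Over.mk a ⟶ Over.mk (𝟙 T)), h⟩).hom.cart
    rw [hbase] at this
    exact this
  · have := (ι ⟨Over.mk (Over.homMk a : Over.mk a ⟶ Over.mk (𝟙 T)), h⟩).hom.w_sect i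
    rw [hbase] at this
    exact this
  · let oa : SC f σ hσ g := ⟨Over.mk (Over.homMk a : Over.mk a ⟶ Over.mk (𝟙 T)), ha⟩
    let ob : SC f σ hσ g := ⟨Over.mk (Over.homMk b : Over.mk b ⟶ Over.mk (𝟙 T)), hb⟩
    let hk : oa ⟶ ob := K751.Test.homS (Over.homMk k w : Over.mk a ⟶ Over.mk b) (by
      apply Over.OverMorphism.ext
      exact w)
    have h1 : (ι oa).hom.top = topV hpre hg hk ≫ (ι ob).hom.top :=
      (congrArg (fun x => x.hom.top) (nat hk)).symm
    have key : ∀ (x : (cV oa).C₁ ⟶ C') (y : (cV ob).C₁ ⟶ C'), x = topV hpre hg hk ≫ y →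
        (cV oa).γ ≫ x = tr f k w ≫ (cV ob).γ ≫ y := by
      rintro _ y rfl
      rw [← Category.assoc, γ_topV hpre hg hk, Category.assoc]
      rfl
    exact key _ _ h1

end Datum

end

end K899.Ctr
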