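import Groth.Agent.CurvSt.K899.CtrD3

/-!
# Existence of stable contractions of prestable pointed families
-/

set_option autoImplicit false
universe u
open CategoryTheory CategoryTheory.Limits AlgebraicGeometry TopologicalSpace Opposite CurvSt

namespace K899.Ctr

open Groth.Agent

/-- Morphisms of schemes glue for the fppf topology. -/
theorem exists_glue {C C' : Scheme.{u}} (S' : Sieve C) (hS : S' ∈ Scheme.fppfTopology C)
    (x : ∀ {W : Scheme.{u}} (b : W ⟶ C), S' b → (W ⟶ C'))
    (hx : ∀ {W W' : Scheme.{u}} (b : W ⟶ C) (b' : W' ⟶ C) (h : S' b) (h' : S' b') (k : W' ⟶ W) (_ : k ≫ b = b'),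
      k ≫ x b h = x b' h') :
    ∃ c : C ⟶ C', ∀ {W : Scheme.{u}} (b : W ⟶ C) (h : S' b), b ≫ c = x b h := by
  have h1 : Presieve.IsSheafFor (yoneda.obj C') S'.arrows :=
    (GrothendieckTopology.Subcanonical.isSheaf_of_isRepresentable (J := Scheme.fppfTopology) (yoneda.obj C')) S' hS
  let y : Presieve.FamilyOfElements (yoneda.obj C') S'.arrows := fun W b h => x b h
  obtain ⟨c, hc, -⟩ := h1 y ((Presieve.compatible_iff_sieveCompatible y).2
    (fun W W' b k h => (hx b (k ≫ b) h _ k rfl).symm))
  exact ⟨c, fun b h => hc b h⟩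

theorem fppf_hom_ext {C C' : Scheme.{u}} (S' : Sieve C) (hS : S' ∈ Scheme.fppfTopology C) {c d : C ⟶ C'}
    (h : ∀ {W : Scheme.{u}} (b : W ⟶ C), S' b → b ≫ c = b ≫ d) : c = d := by
  have h1 : Presieve.IsSheafFor (yoneda.obj C') S'.arrows :=
    (GrothendieckTopology.Subcanonical.isSheaf_of_isRepresentable (J := Scheme.fppfTopology) (yoneda.obj C')) S' hS
  exact h1.isSeparatedFor.ext fun W b hb => h b hb

section

variable {n : ℕ} {C T : Scheme.{u}} {f : C ⟶ T} {σ : Fin n → (T ⟶ C)} {hσ : ∀ i, σ i ≫ f = 𝟙 T} {g : ℕ}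

/-- **Existence of stable contractions.** -/
theorem nonempty_con (hpre : IsPrestablePtdFam f σ hσ g) (hg : 3 ≤ 2 * g + n) : Nonempty (Con f σ hσ g) := by
  have k1 : Flat f := hpre.1
  have k2 : IsProper f := hpre.2.1
  obtain ⟨C', g', s', hs', hst, top, htop, hsect, hnat⟩ := exists_family hpre hg
  have k3 : IsProper g' := hst.2.1
  -- the cover of `C`
  let SC : Sieve C :=
    { arrows := fun W b => Nonempty (ConV f σ hσ g (b ≫ f))
      downward_closed := fun {W W'} b hb k => conV_of_comp f σ hσ g k (Category.assoc _ _ _).symm hb }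
  let ST : Sieve T :=
    { arrows := fun W b => Nonempty (ConV f σ hσ g b)
      downward_closed := fun {W W'} b hb k => conV_of_comp f σ hσ g k rfl hb }
  have hST : ST ∈ Scheme.fppfTopology T := by
    rw [K601.FppfSieve.mem_fppfTopology_iff]
    intro t
    obtain ⟨V, a, h1, h2, v, hv, hA⟩ := exists_con hpre hg t
    exact ⟨V, a, v, hA, h1, h2, hv⟩
  have hSC : SC ∈ Scheme.fppfTopology C := by
    rw [K601.FppfSieve.mem_fppfTopology_iff]
    intro x
    obtain ⟨V, a, h1, h2, v, hv, hA⟩ := exists_con hpre hg (f x)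
    obtain ⟨z, hz1, hz2⟩ := Scheme.Pullback.exists_preimage_pullback (f := f) (g := a) x v hv.symm
    exact ⟨_, pullback.fst f a, z, conV_of_comp f σ hσ g (pullback.snd f a) pullback.condition.symm hA,
      inferInstance, inferInstance, hz1⟩
  -- the morphism
  let x : ∀ {W : Scheme.{u}} (b : W ⟶ C), SC b → (W ⟶ C') := fun {W} b h =>
    pullback.lift b (𝟙 _) (Category.id_comp _).symm ≫ (Nonempty.some h).γ ≫ top (b ≫ f) h
  have hxdef : ∀ {W : Scheme.{u}} (b : W ⟶ C) (h : SC b),
      x b h = pullback.lift b (𝟙 _) (Category.id_comp _).symm ≫ (Nonempty.some h).γ ≫ top (b ≫ f) h := fun b h => rfl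
  obtain ⟨c, hc⟩ := exists_glue SC hSC x (fun {W W'} b b' h h' k hk => by
    have hkf : k ≫ b ≫ f = b' ≫ f := by rw [← Category.assoc, hk]
    have key : k ≫ pullback.lift b (𝟙 _) (Category.id_comp _).symm =
        pullback.lift b' (𝟙 _) (Category.id_comp _).symm ≫ tr f k hkf := by
      apply pullback.hom_ext
      · rw [Category.assoc, pullback.lift_fst, Category.assoc, tr_fst, pullback.lift_fst, hk]
      · rw [Category.assoc, pullback.lift_snd, Category.assoc, tr_snd, ← Category.assoc, pullback.lift_snd,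
          Category.comp_id, Category.id_comp]
    rw [hxdef, hxdef, hnat (b' ≫ f) (b ≫ f) h' h k hkf, ← Category.assoc, key, Category.assoc])
  -- the morphism on the cover
  have hcV : ∀ {V : Scheme.{u}} (a : V ⟶ T) (h : Nonempty (ConV f σ hσ g a)),
      pullback.fst f a ≫ c = h.some.γ ≫ top a h := by
    intro V a h
    have h' : SC (pullback.fst f a) := conV_of_comp f σ hσ g (pullback.snd f a) pullback.condition.symm h
    rw [hc _ h', hxdef, hnat (pullback.fst f a ≫ f) a h' h (pullback.snd f a) pullback.condition.symm,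
      ← Category.assoc]
    have : pullback.lift (pullback.fst f a) (𝟙 _) (Category.id_comp _).symm ≫
        tr f (pullback.snd f a) pullback.condition.symm = 𝟙 (pullback f a) := by
      apply pullback.hom_ext
      · rw [Category.assoc, tr_fst, pullback.lift_fst, Category.id_comp]
      · rw [Category.assoc, tr_snd, ← Category.assoc, pullback.lift_snd]
    rw [this, Category.id_comp]
  have hw : c ≫ g' = f := by
    refine fppf_hom_ext SC hSC fun {W} b hb => ?_
    rw [← Category.assoc, hc b hb, hxdef, Category.assoc, Category.assoc, (htop (b ≫ f) hb).w,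
      ← Category.assoc (Con.γ _), Con.w, ← Category.assoc, pullback.lift_snd, Category.id_comp]
  have hsec : ∀ i, σ i ≫ c = s' i := by
    intro i
    refine fppf_hom_ext ST hST fun {W} b hb => ?_
    rw [← hsect b hb i, ← Category.assoc, ← bs_fst f σ hσ b i, Category.assoc, hcV b hb, Category.assoc]
  have hcp : IsProper c := by
    have : IsProper (c ≫ g') := by rw [hw]; exact k2
    exact IsProper.of_comp c g'
  have hctr : IsCtr c := by
    refine isCtr_of_cover (g := g') fun t => ?_
    obtain ⟨V, a, h1, h2, v, hv, hA⟩ := exists_con hpre hg t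
    refine ⟨V, _, _, a, h1, h2, v, hA.some.γ, hA.some.g₁, top a hA, pullback.fst f a, hv, htop a hA, ?_, hA.some.ctr⟩
    refine IsPullback.of_bot (h₃₁ := a) (v₂₁ := hA.some.g₁) (v₂₂ := g') ?_ (hcV a hA) (htop a hA)
    rw [Con.w, hw]
    exact IsPullback.of_hasPullback f a
  exact ⟨⟨C', g', c, hw, hctr, by
    obtain rfl : (fun i => σ i ≫ c) = s' := funext hsec
    exact hst⟩⟩

end

end K899.Ctr
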