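import Groth.Agent.CurvSt.K899.Ctr7
import Groth.Agent.CurvSt.K896.Contr

/-!
# Cohomology of the pull-back of an invertible module under a contraction
-/

set_option autoImplicit false
universe u
open CategoryTheory CategoryTheory.Limits AlgebraicGeometry TopologicalSpace Opposite

namespace K899.Ctr

open Groth.Agent Groth.Agent.Fdesc.LocGen Groth.Agent.Flat2D.LocalGlobalH

variable {X Y : Scheme.{u}}

theorem IsCtr.of_isCon {c : X ⟶ Y} (h : K896.Contr.IsCon c) : IsCtr c where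
  bij W _ := h.bij W
  van W hW n := h.van W hW n

theorem IsCtr.isCon {c : X ⟶ Y} (h : IsCtr c) : K896.Contr.IsCon c where
  bij W := by
    have := h.isIso_app W
    exact ConcreteCategory.bijective_of_isIso (c.app W)
  van W hW n := h.van W hW n

theorem HHon_iff_of_iso {F G : X.Modules} (W : X.Opens)
    (e : (Scheme.Modules.pullback W.ι).obj F ≅ (Scheme.Modules.pullback W.ι).obj G) (n : ℕ) :
    Subsingleton (Coh.HHon X F W n) ↔ Subsingleton (Coh.HHon X G W n) := by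
  rw [← HU_iff_HHon F W n, ← HU_iff_HHon G W n, HU_iff_pullback W.ι F W (by simp) n,
    HU_iff_pullback W.ι G W (by simp) n]
  exact ⟨Groth.Agent.CohqA.DirectSum.subsingleton_of_iso e n, Groth.Agent.CohqA.DirectSum.subsingleton_of_iso e.symm n⟩

/-- the pull-back of a module trivial on `V` is trivial on `c⁻¹ V` -/
theorem exists_iso_restrict (c : X ⟶ Y) {M : Y.Modules} (V : Y.Opens)
    (e : (Scheme.Modules.pullback V.ι).obj M ≅ Coh.structureModule V.toScheme) :
    Nonempty ((Scheme.Modules.pullback (c ⁻¹ᵁ V).ι).obj ((Scheme.Modules.pullback c).obj M) ≅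
      (Scheme.Modules.pullback (c ⁻¹ᵁ V).ι).obj (Coh.structureModule X)) := by
  have h : (c ∣_ V) ≫ V.ι = (c ⁻¹ᵁ V).ι ≫ c := morphismRestrict_ι c V
  exact ⟨(Scheme.Modules.pullbackComp (c ⁻¹ᵁ V).ι c).app M ≪≫ (Scheme.Modules.pullbackCongr h.symm).app M ≪≫
    (Scheme.Modules.pullbackComp (c ∣_ V) V.ι).symm.app M ≪≫ (Scheme.Modules.pullback (c ∣_ V)).mapIso e ≪≫
    FormalA.PullbackQC.pullbackUnitIso (c ∣_ V) ≪≫ (FormalA.PullbackQC.pullbackUnitIso (c ⁻¹ᵁ V).ι).symm⟩

theorem exists_affine_triv {M : Y.Modules} (hM : PicF.IsInvertible M) (y : Y) :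
    ∃ V : Y.Opens, IsAffineOpen V ∧ y ∈ V ∧
      Nonempty ((Scheme.Modules.pullback V.ι).obj M ≅ Coh.structureModule V.toScheme) := by
  obtain ⟨U₁, e₁, hy₁, he₁⟩ := (isInvertible_iff M).mp hM y
  obtain ⟨V, hV, hyV, hVW⟩ := exists_isAffineOpen_mem_and_subset (U := U₁) (x := y) hy₁
  refine ⟨V, hV, hyV, ?_⟩
  have h3 := (he₁.res hVW).pullSec V.ι
  have h4 : (⊤ : V.toScheme.Opens) ≤ V.ι ⁻¹ᵁ V := V.ι_preimage_self.ge
  obtain ⟨x, hx⟩ : ∃ x : Γ((Scheme.Modules.pullback V.ι).obj M, ⊤), IsGen x := ⟨_, h3.res h4⟩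
  have : IsIso (homOf x) := (isIso_iff_isGen (homOf x)).mpr (by rwa [sec_homOf, res_refl])
  exact ⟨(asIso (homOf x)).symm⟩

theorem IsCtr.van_pullback {c : X ⟶ Y} [QuasiCompact c] [IsSeparated c] (hc : IsCtr c) {M : Y.Modules}
    (hM : PicF.IsInvertible M) {V : Y.Opens} (hV : IsAffineOpen V) (n : ℕ) :
    Subsingleton (Coh.HHon X ((Scheme.Modules.pullback c).obj M) (c ⁻¹ᵁ V) (n + 1)) := by
  have hqc : ((Scheme.Modules.pullback c).obj M).IsQuasicoherent :=
    Groth.Agent.Ega2.QCohLocal.isQCoh_of_isInvertible (isInvertible_pullback c hM)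
  refine Flat2C.CechLocal.subsingleton_HHon_preimage_of_forall ((Scheme.Modules.pullback c).obj M) c hV n fun y _ => ?_
  obtain ⟨W, hW, hyW, ⟨e⟩⟩ := exists_affine_triv hM y
  obtain ⟨e'⟩ := exists_iso_restrict c W e
  exact ⟨W, hW, hyW, (HHon_iff_of_iso _ e' _).2 (hc.van W hW n)⟩

/-- The cohomology of the pull-back of an invertible module under a contraction. -/
theorem IsCtr.nonempty_equiv {c : X ⟶ Y} [QuasiCompact c] [IsSeparated c] (hc : IsCtr c) {M : Y.Modules}
    (hM : PicF.IsInvertible M) (n : ℕ) :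
    Nonempty (Coh.HH X ((Scheme.Modules.pullback c).obj M) n ≃+ Coh.HH Y M n) := by
  have h1 := hc.isIso_unit hM
  obtain ⟨e⟩ := CohqA.LerayBasis.nonempty_equiv c.base {V | IsAffineOpen V}
    Y.isBasis_affineOpens (Coh.toAb ((Scheme.Modules.pullback c).obj M)) (fun V hV q hq => by
      obtain ⟨q, rfl⟩ := Nat.exists_eq_add_of_le' hq
      exact (HU_iff_HHon ((Scheme.Modules.pullback c).obj M) (c ⁻¹ᵁ V) (q + 1)).mpr (hc.van_pullback hM hV q)) n
  have e1 : Coh.HH X ((Scheme.Modules.pullback c).obj M) n ≃+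
      Coh.HH Y ((Coh.push c).obj ((Scheme.Modules.pullback c).obj M)) n := e
  exact ⟨e1.trans (CurvesA.HHMap.equiv (asIso ((Scheme.Modules.pullbackPushforwardAdjunction c).unit.app M)) n).symm.toAddEquiv⟩

end K899.Ctr
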