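import Groth.Agent.CurvSt.K899.CtrL1
import Groth.Agent.S11565
import Groth.Agent.S1549
import Groth.Agent.Sga3C.GeomRedPerf
import Groth.Agent.AlgSp.K616.FibField
import Groth.Agent.CurvSt.K898.SmoothRel
import Mathlib.AlgebraicGeometry.AlgClosed.Basic

/-!
# Points of the components of the target of a contraction of curves
-/

set_option autoImplicit false
universe u
open CategoryTheory CategoryTheory.Limits AlgebraicGeometry TopologicalSpace Opposite

namespace K899.Ctr

open Groth.Agent

section Top

variable {F : Type*} [TopologicalSpace F]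

/-- the closure of a point -/
def cl (w : F) : IrreducibleCloseds F := ⟨closure {w}, isIrreducible_singleton.closure, isClosed_closure⟩

theorem cl_lt [T0Space F] {a b : F} (hab : a ⤳ b) (hn : a ≠ b) : cl b < cl a := by
  refine lt_of_le_of_ne ?_ fun he => hn ?_
  · exact specializes_iff_closure_subset.1 hab
  · have h1 : closure {b} = closure {a} := congrArg (fun Z : IrreducibleCloseds F => (Z : Set F)) he
    exact (hab.antisymm (specializes_iff_closure_subset.2 h1.ge)).eq

theorem one_le_dim [T0Space F] {x y : F} (h : x ⤳ y) (hne : x ≠ y) :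
    (1 : WithBot ℕ∞) ≤ topologicalKrullDim F := by
  let s : LTSeries (IrreducibleCloseds F) :=
    { length := 1
      toFun := ![cl y, cl x]
      step := by
        intro i
        fin_cases i
        exact cl_lt h hne }
  exact Order.LTSeries.length_le_krullDim s

theorem two_le_dim [T0Space F] {x y z : F} (h : x ⤳ y) (hne : x ≠ y) (h' : y ⤳ z) (hne' : y ≠ z) :
    (2 : WithBot ℕ∞) ≤ topologicalKrullDim F := by
  let s : LTSeries (IrreducibleCloseds F) :=
    { length := 2
      toFun := ![cl z, cl y, cl x]
      step := by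
        intro i
        fin_cases i
        · exact cl_lt h' hne'
        · exact cl_lt h hne }
  exact Order.LTSeries.length_le_krullDim s

theorem isClosed_of_specializes [T0Space F] (hdim : topologicalKrullDim F ≤ 1) {x y : F} (h : x ⤳ y) (hne : x ≠ y) :
    IsClosed ({y} : Set F) := by
  by_contra hcl
  have h1 : ∃ z, y ⤳ z ∧ y ≠ z := by
    by_contra hcon
    push Not at hcon
    apply hcl
    have h2 : closure {y} = {y} := by
      refine subset_antisymm (fun z hz => ?_) subset_closure
      exact (hcon z (specializes_iff_mem_closure.2 hz)).symm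
    rw [← h2]
    exact isClosed_closure
  obtain ⟨z, hz, hne'⟩ := h1
  have h2 := (two_le_dim h hne hz hne').trans hdim
  exact absurd h2 (by decide)

theorem localDim_eq_one [T0Space F] (hdim : topologicalKrullDim F ≤ 1) {x y : F} (h : x ⤳ y) (hne : x ≠ y) :
    FlatMor.localDim F y = 1 := by
  apply le_antisymm
  · refine (iInf_le _ ⟨⊤, trivial⟩).trans ?_
    refine (?_ : topologicalKrullDim ((⊤ : Opens F) : Set F) ≤ topologicalKrullDim F).trans hdim
    exact topologicalKrullDim_subspace_le F _
  · refine le_iInf fun U => ?_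
    have hx : x ∈ U.1 := h.mem_open U.1.isOpen U.2
    let x' : (U.1 : Set F) := ⟨x, hx⟩
    let y' : (U.1 : Set F) := ⟨y, U.2⟩
    have h' : x' ⤳ y' := (subtype_specializes_iff x' y').2 h
    have hne' : x' ≠ y' := fun e => hne (congrArg Subtype.val e)
    exact one_le_dim h' hne'

/-- a nonempty Noetherian sober space all of whose points are closed has an isolated point -/
theorem exists_isolated [NoetherianSpace F] [QuasiSober F] (hcl : ∀ z : F, IsClosed ({z} : Set F)) (z : F) :
    IsOpen ({z} : Set F) := by
  have hfin : (irreducibleComponents F).Finite := NoetherianSpace.finite_irreducibleComponents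
  have h1 : ∀ C ∈ irreducibleComponents F, C.Subsingleton := by
    intro C hC
    obtain ⟨η, hη⟩ := QuasiSober.sober hC.1 (isClosed_of_mem_irreducibleComponents C hC)
    have h2 : C = {η} := by
      rw [← hη.def]
      exact (hcl η).closure_eq
    rw [h2]
    exact Set.subsingleton_singleton
  have h2 : Finite F := by
    have h3 : (Set.univ : Set F) = ⋃ C ∈ irreducibleComponents F, C := by
      refine (Set.eq_univ_of_forall fun w => ?_).symm
      exact Set.mem_iUnion₂.2 ⟨irreducibleComponent w, irreducibleComponent_mem_irreducibleComponents w,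
        mem_irreducibleComponent⟩
    have h4 : (Set.univ : Set F).Finite := by
      rw [h3]
      exact hfin.biUnion fun C hC => (h1 C hC).finite
    exact Set.finite_univ_iff.1 h4
  have h3 : T1Space F := ⟨hcl⟩
  exact isOpen_discrete _

end Top

section Fibre

variable {X Y : Scheme.{u}} {c : X ⟶ Y}

theorem IsCtr.surjective [QuasiCompact c] [UniversallyClosed c] (h : IsCtr c) : Surjective c := by
  refine ⟨fun y => ?_⟩
  by_contra hy
  let V : Y.Opens := ⟨(Set.range c)ᶜ, c.isClosedMap.isClosed_range.isOpen_compl⟩
  obtain ⟨W, hW, hyW, hWV⟩ := exists_isAffineOpen_mem_and_subset (U := V) (x := y) (by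
    rintro ⟨x, hx⟩
    exact hy ⟨x, hx⟩)
  have h1 : c ⁻¹ᵁ W = ⊥ := by
    ext x
    simp only [SetLike.mem_coe, Opens.coe_bot, Set.mem_empty_iff_false, iff_false]
    exact fun hx => hWV hx ⟨x, rfl⟩
  have h2 : Subsingleton Γ(X, c ⁻¹ᵁ W) := by rw [h1]; infer_instance
  have h3 : Subsingleton Γ(Y, W) := (h.bij W hW).1.subsingleton
  have h4 : (Y.presheaf.germ W y hyW).hom 0 = (Y.presheaf.germ W y hyW).hom 1 := congrArg _ (Subsingleton.elim _ _)
  rw [map_zero, map_one] at h4
  exact zero_ne_one h4

/-- A generic point which is not closed lies in the locus where a contraction of a curve is an isomorphism. -/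
theorem generic_mem [IsNoetherian X] [QuasiCompact c] [UniversallyClosed c] (hs : Surjective c)
    (hdim : topologicalKrullDim X ≤ 1) {V : Y.Opens}
    (hV : ∀ y : Y, y ∉ (V : Set Y) → ∀ x : ↥(c.fiber y), ¬ IsOpen ({x} : Set ↥(c.fiber y)))
    {η : Y} (hη : ¬ IsClosed ({η} : Set Y)) : η ∈ V := by
  by_contra hηV
  obtain ⟨x, hx⟩ := hs.surj η
  subst hx
  have hemb : Topology.IsEmbedding (c.fiberι (c x)) := (c.fiberι (c x)).isEmbedding
  have hN : NoetherianSpace (c.fiber (c x)) := hemb.isInducing.noetherianSpace
  refine hV _ hηV (c.asFiber x) (exists_isolated (fun z => ?_) _)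
  have h1 : closure {z} = {z} := by
    refine subset_antisymm (fun z' hz' => ?_) subset_closure
    rw [← specializes_iff_mem_closure] at hz'
    have h2 : c.fiberι (c x) z ⤳ c.fiberι (c x) z' := hz'.map (c.fiberι (c x)).continuous
    by_contra hne
    have hne' : c.fiberι (c x) z ≠ c.fiberι (c x) z' := fun e => hne (hemb.injective e).symm
    have h3 := isClosed_of_specializes hdim h2 hne'
    have h4 := c.isClosedMap _ h3
    rw [Set.image_singleton] at h4
    have h5 : c (c.fiberι (c x) z') = c x := by
      have h6 : c.fiberι (c x) z' ∈ Set.range (c.fiberι (c x)) := ⟨z', rfl⟩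
      rw [c.range_fiberι (c x)] at h6
      exact h6
    rw [h5] at h4
    exact hη h4
  rw [← h1]
  exact isClosed_closure

end Fibre

section Field

variable {K : Type u} [Field K] [IsAlgClosed K]

/-- The morphisms which are smooth of relative dimension one at a point. -/
abbrev SM : K901.Loci.PtProp.{u} := K902.LociDim.AndDim K901.Loci.SmoothAt ((1 : ℕ) : WithBot ℕ∞)

theorem locusProp_SM : K901.Loci.LocusProp.{u} SM := K898.SmoothRel.locusProp_smoothDim 1

/-- A reduced curve is smooth of relative dimension one at some closed point of every one dimensional component,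
inside a given open subset containing the generic point. -/
theorem exists_smooth_point {Y : Scheme.{u}} (q : Y ⟶ Spec (CommRingCat.of K)) [LocallyOfFiniteType q]
    [IsReduced Y] [NoetherianSpace Y] (hdim : topologicalKrullDim Y ≤ 1) (V : Y.Opens) {E : Set Y}
    (hE : E ∈ irreducibleComponents (Y : Type u)) (hE1 : topologicalKrullDim E = 1)
    (hV : ∀ η : Y, ¬ IsClosed ({η} : Set Y) → η ∈ V) :
    ∃ y ∈ E, y ∈ V ∧ IsClosed ({y} : Set Y) ∧ SM q y := by
  let _ : Y.Over (Spec (CommRingCat.of K)) := ⟨q⟩
  have hlft : LocallyOfFiniteType (Y ↘ (Spec (CommRingCat.of K))) := ‹LocallyOfFiniteType q›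
  have hJ : JacobsonSpace Y := LocallyOfFiniteType.jacobsonSpace q
  have hgr : GeometricallyReduced q := Groth.Agent.Sga3C.GeomRedPerf.geometricallyReduced_of_isReduced q
  obtain ⟨U, hU, hUs⟩ := (Groth.Agent.S1549.result K Y).1 hgr
  have hEc := isClosed_of_mem_irreducibleComponents E hE
  obtain ⟨η, hη⟩ := QuasiSober.sober hE.1 hEc
  have hηcl : ¬ IsClosed ({η} : Set Y) := by
    intro h
    have h1 : E = {η} := by rw [← hη.def]; exact h.closure_eq
    rw [h1] at hE1
    have h2 := topologicalKrullDim_zero_of_discreteTopology (({η} : Set Y))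
    rw [hE1] at h2
    exact absurd h2 (by decide)
  have hηV := hV η hηcl
  obtain ⟨o, ho, hne, hoE⟩ := NoetherianSpace.exists_isOpen_nonempty_subset_irreducibleComponent E hE
  obtain ⟨w, hwo, hwU⟩ := hU.inter_open_nonempty o ho hne
  have hηU : η ∈ U := (hη.specializes (hoE hwo)).mem_open U.isOpen hwU
  have hlc : IsLocallyClosed (E ∩ ((U ⊓ V : Y.Opens) : Set Y)) :=
    hEc.isLocallyClosed.inter (U ⊓ V).isOpen.isLocallyClosed
  have hηE : η ∈ E := by rw [← hη.def]; exact subset_closure rfl
  have h2 := JacobsonSpace.closure_inter_closedPoints_eq_closure hlc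
  have h3 : (E ∩ ((U ⊓ V : Y.Opens) : Set Y) ∩ closedPoints Y).Nonempty := by
    rw [← closure_nonempty_iff, h2, closure_nonempty_iff]
    exact ⟨η, hηE, hηU, hηV⟩
  obtain ⟨y, ⟨hyE, hyU, hyV⟩, hyc⟩ := h3
  have hne' : η ≠ y := by
    rintro rfl
    exact hηcl hyc
  refine ⟨y, hyE, hyV, hyc, ⟨⟨U, hyU, hUs⟩, ?_⟩⟩
  rw [K616.FibField.fibreDimAt_field, localDim_eq_one hdim (hη.specializes hyE) hne']
  rfl

end Field

end K899.Ctr
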