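import Groth.Agent.CurvSt.K899.CtrL2

/-!
# Rational points on the components of the target of a contraction of curves
-/

set_option autoImplicit false
universe u
open CategoryTheory CategoryTheory.Limits AlgebraicGeometry TopologicalSpace Opposite

namespace K899.Ctr

open Groth.Agent

/-- The point of the spectrum of a field. -/
abbrev pt (K : Type u) [Field K] : Spec (CommRingCat.of K) := IsLocalRing.closedPoint K

section

variable {K : Type u} [Field K]

theorem flat_field {X : Scheme.{u}} (q : X ⟶ Spec (CommRingCat.of K)) : Flat q := inferInstance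

theorem lfp_field {X : Scheme.{u}} (q : X ⟶ Spec (CommRingCat.of K)) [LocallyOfFiniteType q] :
    LocallyOfFinitePresentation q :=
  LocallyOfFinitePresentation.iff_locallyOfFiniteType.2 ‹_›

/-- `SM` at corresponding points of the source and the target of a morphism which is an isomorphism over `V` -/
theorem SM_iff {X Y : Scheme.{u}} (c : X ⟶ Y) (qY : Y ⟶ Spec (CommRingCat.of K)) [LocallyOfFiniteType qY]
    [LocallyOfFiniteType (c ≫ qY)] (V : Y.Opens) [IsIso (c ∣_ V)] (x : X) (hx : c x ∈ V) :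
    SM (c ≫ qY) x ↔ SM qY (c x) := by
  have i1 := flat_field (c ≫ qY)
  have i2 := flat_field qY
  have i3 := lfp_field (c ≫ qY)
  have i4 := lfp_field qY
  let x' : c ⁻¹ᵁ V := ⟨x, hx⟩
  have h1 := locusProp_SM.source (c ⁻¹ᵁ V).ι (c ≫ qY) x'
  have h2 := locusProp_SM.source ((c ∣_ V) ≫ V.ι) qY x'
  have h3 : (c ⁻¹ᵁ V).ι ≫ c ≫ qY = ((c ∣_ V) ≫ V.ι) ≫ qY := by
    rw [morphismRestrict_ι, Category.assoc]
  have h4 : ((c ∣_ V) ≫ V.ι) x' = c x := by
    rw [morphismRestrict_ι]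
    rfl
  rw [h3] at h1
  rw [h4] at h2
  exact h1.symm.trans h2

variable [IsAlgClosed K]


omit [IsAlgClosed K] in
theorem exists_lift {X Y : Scheme.{u}} (c : X ⟶ Y) (V : Y.Opens) [IsIso (c ∣_ V)]
    (y : Spec (CommRingCat.of K) ⟶ Y) (hy : y (pt K) ∈ V) :
    ∃ x : Spec (CommRingCat.of K) ⟶ X, x ≫ c = y ∧ IsPullback x (𝟙 _) c y := by
  have hr : Set.range y ⊆ Set.range V.ι := by
    rintro _ ⟨s, rfl⟩
    rw [Scheme.Opens.range_ι]
    rwa [Subsingleton.elim s (pt K)]
  let y' : Spec (CommRingCat.of K) ⟶ V.toScheme := IsOpenImmersion.lift V.ι y hr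
  have hy' : y' ≫ V.ι = y := IsOpenImmersion.lift_fac _ _ _
  have sq1 : IsPullback (y' ≫ inv (c ∣_ V)) (𝟙 _) (c ∣_ V) y' := IsPullback.of_vert_isIso ⟨by simp⟩
  have sq2 : IsPullback (c ⁻¹ᵁ V).ι (c ∣_ V) c V.ι := (isPullback_morphismRestrict c V).flip
  have sq3 := sq1.paste_horiz sq2
  rw [hy'] at sq3
  refine ⟨_, ?_, sq3⟩
  rw [sq3.w, Category.id_comp]

/-- **Points.** -/
theorem exists_points {X Y : Scheme.{u}} {c : X ⟶ Y} {qY : Y ⟶ Spec (CommRingCat.of K)} [IsProper c] [IsProper qY]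
    (hc : IsCtr c) (hdimX : topologicalKrullDim X ≤ 1) (hdimY : topologicalKrullDim Y ≤ 1) [IsReduced Y] :
    ∃ (m : ℕ) (x : Fin m → (Spec (CommRingCat.of K) ⟶ X)) (y : Fin m → (Spec (CommRingCat.of K) ⟶ Y)),
      (∀ j, x j ≫ c = y j) ∧ (∀ j, y j ≫ qY = 𝟙 _) ∧ (∀ j, IsPullback (x j) (𝟙 _) c (y j)) ∧
      (∀ j, SM (c ≫ qY) (x j (pt K))) ∧ (∀ j, SM qY (y j (pt K))) ∧
      ∀ E ∈ irreducibleComponents (Y : Type u), topologicalKrullDim E = 1 → ∃ j, y j (pt K) ∈ E := by
  classical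
  let _ : Y.Over (Spec (CommRingCat.of K)) := ⟨qY⟩
  let _ : X.Over (Spec (CommRingCat.of K)) := ⟨c ≫ qY⟩
  have hPY' : IsProper (Y ↘ (Spec (CommRingCat.of K))) := ‹IsProper qY›
  have hPX' : IsProper (X ↘ (Spec (CommRingCat.of K))) := inferInstanceAs (IsProper (c ≫ qY))
  have hNY : IsNoetherian Y := Groth.Agent.CurvesC.CurveCoh.noetherianSpace K Y
  have hNX : IsNoetherian X := Groth.Agent.CurvesC.CurveCoh.noetherianSpace K X
  obtain ⟨V, hV, hV'⟩ := Groth.Agent.S11565.result c (fun U => by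
    have := hc.isIso_app U
    exact ConcreteCategory.bijective_of_isIso (c.app U))
  have hgen : ∀ η : Y, ¬ IsClosed ({η} : Set Y) → η ∈ V := fun η hη =>
    generic_mem hc.surjective hdimX hV' hη
  let I := {E : Set Y // E ∈ irreducibleComponents (Y : Type u) ∧ topologicalKrullDim E = 1}
  have hI : Finite I := by
    have h1 : (irreducibleComponents (Y : Type u)).Finite := NoetherianSpace.finite_irreducibleComponents
    exact (h1.subset (fun E (hE : E ∈ irreducibleComponents (Y : Type u) ∧ topologicalKrullDim E = 1) => hE.1)).to_subtype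
  have h1 := fun E : I => exists_smooth_point qY hdimY V E.2.1 E.2.2 hgen
  choose y hyE hyV hyc hyS using h1
  obtain ⟨m, ⟨e⟩⟩ := Finite.exists_equiv_fin I
  let ys : Fin m → (Spec (CommRingCat.of K) ⟶ Y) := fun j => pointOfClosedPoint qY (y (e.symm j)) (hyc _)
  have hys : ∀ j, ys j (pt K) = y (e.symm j) := fun j => pointOfClosedPoint_apply qY _ _ _
  have h2 := fun j => exists_lift c V (ys j) (by rw [hys]; exact hyV _)
  choose x hx1 hx2 using h2
  have h3 : ∀ j, c (x j (pt K)) = ys j (pt K) := fun j => by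
    rw [← Scheme.Hom.comp_apply, hx1]
  refine ⟨m, x, ys, hx1, fun j => pointOfClosedPoint_comp qY _ _, hx2, fun j => ?_, fun j => ?_, fun E hE hE1 => ?_⟩
  · rw [SM_iff c qY V _ (by rw [h3, hys]; exact hyV _), h3, hys]
    exact hyS _
  · rw [hys]
    exact hyS _
  · refine ⟨e ⟨E, hE, hE1⟩, ?_⟩
    rw [hys, Equiv.symm_apply_apply]
    exact hyE ⟨E, hE, hE1⟩

end

end K899.Ctr
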