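import Groth.Agent.CurvSt.K899.CtrL3
import Groth.Agent.AlgSp.K622.PicKer
import Groth.Agent.AlgSp.K647.Idl
import Groth.Agent.Variety.K428.NBTop
import Groth.Agent.S15990
import Groth.Agent.CurvSt.K899.DivAmple
import Groth.Agent.S0051

/-!
# Divisors of sections through the smooth locus
-/

set_option autoImplicit false
universe u
open CategoryTheory CategoryTheory.Limits AlgebraicGeometry TopologicalSpace Opposite

namespace K899.Ctr

open Groth.Agent Groth.Agent.Grpsch.PicGrp K622.PicKer Groth.Agent.Fdesc.LocGen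

theorem isClosedImmersion_section {C T : Scheme.{u}} (f : C ⟶ T) [IsSeparated f] (σ : T ⟶ C) (hσ : σ ≫ f = 𝟙 T) :
    IsClosedImmersion σ := by
  have : IsClosedImmersion (σ ≫ f) := by rw [hσ]; infer_instance
  exact IsClosedImmersion.of_comp σ f

/-- The smooth locus (relative dimension one). -/
def smOpens {C T : Scheme.{u}} (f : C ⟶ T) [Flat f] [LocallyOfFinitePresentation f] : C.Opens :=
  ⟨{x | SM f x}, locusProp_SM.isOpen f⟩

theorem mem_smOpens {C T : Scheme.{u}} (f : C ⟶ T) [Flat f] [LocallyOfFinitePresentation f] (x : C) :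
    x ∈ smOpens f ↔ SM f x := Iff.rfl

instance smooth_smOpens {C T : Scheme.{u}} (f : C ⟶ T) [Flat f] [LocallyOfFinitePresentation f] :
    SmoothOfRelativeDimension 1 ((smOpens f).ι ≫ f) :=
  (K898.SmoothRel.smoothOfRelativeDimension_iff 1 _).2 fun x => (locusProp_SM.source (smOpens f).ι f x).2 x.2

/-- The image of a section in the smooth locus is an effective Cartier divisor. -/
theorem isEff_section {C T : Scheme.{u}} (f : C ⟶ T) [IsSeparated f] [Flat f] [LocallyOfFinitePresentation f]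
    (σ : T ⟶ C) (hσ : σ ≫ f = 𝟙 T) (hSM : ∀ t, SM f (σ t)) : BlowUp.IsEffCartierIdeal σ.ker := by
  have hcl := isClosedImmersion_section f σ hσ
  have hr : Set.range σ ⊆ Set.range (smOpens f).ι := by
    rintro _ ⟨t, rfl⟩
    rw [Scheme.Opens.range_ι]
    exact hSM t
  obtain ⟨σ', hσ'⟩ : ∃ σ' : T ⟶ (smOpens f).toScheme, σ' ≫ (smOpens f).ι = σ :=
    ⟨IsOpenImmersion.lift (smOpens f).ι σ hr, IsOpenImmersion.lift_fac _ _ _⟩
  have h1 := (Groth.Agent.S15990.result ((smOpens f).ι ≫ f) σ' (by rw [← Category.assoc, hσ', hσ])).1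
  subst hσ'
  refine K428.NBTop.isEff_of_comap (smOpens f).ι ?_ ?_
  · rw [Scheme.Hom.support_ker]
    have h2 : closure (Set.range (σ' ≫ (smOpens f).ι)) = Set.range (σ' ≫ (smOpens f).ι) :=
      (σ' ≫ (smOpens f).ι).isClosedEmbedding.isClosed_range.closure_eq
    exact (show (_ : Set C) ⊆ _ from h2.le).trans hr
  · rw [Groth.Agent.Dix.Cast5.ker_comap_of_mono]
    exact h1

theorem isPullback_section {X C T S : Scheme.{u}} {i : X ⟶ C} {q : X ⟶ S} {f : C ⟶ T} {τ : S ⟶ T}
    (sq : IsPullback i q f τ) {σ : T ⟶ C} (hσ : σ ≫ f = 𝟙 T) {x : S ⟶ X} (hx : x ≫ i = τ ≫ σ) (hxq : x ≫ q = 𝟙 S) :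
    IsPullback x τ i σ := by
  refine IsPullback.of_right (h₁₂ := q) (v₁₃ := τ) (h₂₂ := f) ?_ hx sq.flip
  rw [hxq, hσ]
  exact IsPullback.of_horiz_isIso ⟨by simp⟩

theorem ker_comap_section {X C T S : Scheme.{u}} {i : X ⟶ C} {q : X ⟶ S} {f : C ⟶ T} {τ : S ⟶ T} [IsSeparated f]
    (sq : IsPullback i q f τ) {σ : T ⟶ C} (hσ : σ ≫ f = 𝟙 T) {x : S ⟶ X} (hx : x ≫ i = τ ≫ σ) (hxq : x ≫ q = 𝟙 S) :
    σ.ker.comap i = x.ker := by
  have := isClosedImmersion_section f σ hσ
  exact (K647.Idl.ker_of_isPullback (isPullback_section sq hσ hx hxq)).symm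

/-- the class of `O(∑ D_j)` -/
theorem pull_prod {X C : Scheme.{u}} (i : X ⟶ C) {m : ℕ} (D : Fin m → C.IdealSheafData)
    (hD : ∀ j, BlowUp.IsEffCartierIdeal (D j)) (D' : Fin m → X.IdealSheafData)
    (hD' : ∀ j, BlowUp.IsEffCartierIdeal (D' j)) (h : ∀ j, (D j).comap i = D' j) :
    pull i (ic (∏ j, D j) (isEff_prod Finset.univ D hD)) = ic (∏ j, D' j) (isEff_prod Finset.univ D' hD') := by
  rw [ic_prod Finset.univ D hD, ic_prod Finset.univ D' hD', map_prod]
  refine Finset.prod_congr rfl fun j _ => ?_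
  have h1 : BlowUp.IsEffCartierIdeal ((D j).comap i) := by rw [h]; exact hD' j
  rw [pull_ic i (hD j) h1]
  exact ic_congr _ _ (h j)

section Field

variable {K : Type u} [Field K]

/-- **The very ample module.** -/
theorem exists_va {X Y : Scheme.{u}} {c : X ⟶ Y} {qY : Y ⟶ Spec (CommRingCat.of K)} [IsProper c] [IsProper qY]
    (hc : IsCtr c) (hdimY : topologicalKrullDim Y ≤ 1) {m : ℕ} (y : Fin m → (Spec (CommRingCat.of K) ⟶ Y))
    (h2 : ∀ j, y j ≫ qY = 𝟙 _)
    (h6 : ∀ E ∈ irreducibleComponents (Y : Type u), topologicalKrullDim E = 1 → ∃ j, y j (pt K) ∈ E)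
    (hD : ∀ j, BlowUp.IsEffCartierIdeal (y j).ker) :
    ∃ (M : Y.Modules) (hM : PicF.IsInvertible M) (N : ℕ), RelAmple.IsRelVeryAmplePn qY M ∧
      Subsingleton (Coh.HH X ((Scheme.Modules.pullback c).obj M) 1) ∧
      mk M hM = ((ic (∏ j, (y j).ker) (isEff_prod Finset.univ _ hD))⁻¹) ^ N := by
  let _ : Y.Over (Spec (CommRingCat.of K)) := ⟨qY⟩
  have hPY' : IsProper (Y ↘ (Spec (CommRingCat.of K))) := ‹IsProper qY›
  have hNY : IsNoetherian Y := Groth.Agent.CurvesC.CurveCoh.noetherianSpace K Y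
  obtain ⟨L, hLi, hL⟩ := DivAmple.exists_inverse (isEff_prod Finset.univ _ hD)
  have hcl : ∀ j, IsClosedImmersion (y j) := fun j => isClosedImmersion_section qY (y j) (h2 j)
  have hsupp : ∀ z : Y, z ∈ (∏ j, (y j).ker).support ↔ ∃ j, y j (pt K) = z := by
    intro z
    have h7 := support_prod (Finset.univ : Finset (Fin m)) (fun j => (y j).ker)
    have h8 : z ∈ ((∏ j, (y j).ker).support : Set Y) ↔ z ∈ ⋃ j ∈ (Finset.univ : Finset (Fin m)), ((y j).ker.support : Set Y) := by
      rw [h7]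
    refine h8.trans ?_
    simp only [Finset.mem_univ, Set.iUnion_true, Set.mem_iUnion]
    refine exists_congr fun j => ?_
    rw [Scheme.Hom.support_ker]
    have h9 : closure (Set.range (y j)) = Set.range (y j) := (y j).isClosedEmbedding.isClosed_range.closure_eq
    change z ∈ closure (Set.range (y j)) ↔ _
    rw [h9]
    constructor
    · rintro ⟨s, rfl⟩
      rw [Subsingleton.elim s (pt K)]
    · rintro rfl
      exact ⟨_, rfl⟩
  have hamp : CohB1.IsAmple L := by
    have h7 := DivAmple.isAmple_pullback K hdimY (𝟙 Y) (isEff_prod Finset.univ _ hD) (fun E hE hE1 => by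
      constructor
      · by_contra hcon
        push Not at hcon
        obtain ⟨η, hη⟩ := QuasiSober.sober hE.1 (isClosed_of_mem_irreducibleComponents E hE)
        have hηE : η ∈ E := by rw [← hη.def]; exact subset_closure rfl
        obtain ⟨j, hj⟩ := (hsupp η).1 (hcon η hηE)
        have hc1 : IsClosed ({η} : Set Y) := by
          have h8 := (y j).isClosedEmbedding.isClosed_range
          have h9 : Set.range (y j) = {η} := by
            ext w
            constructor
            · rintro ⟨s, rfl⟩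
              rw [Subsingleton.elim s (pt K), hj]
              rfl
            · rintro rfl
              exact ⟨_, hj⟩
          rwa [h9] at h8
        have h8 : E = {η} := by rw [← hη.def]; exact hc1.closure_eq
        rw [h8] at hE1
        have h9 := topologicalKrullDim_zero_of_discreteTopology (({η} : Set Y))
        rw [hE1] at h9
        exact absurd h9 (by decide)
      · obtain ⟨j, hj⟩ := h6 E hE hE1
        exact ⟨_, hj, (hsupp _).2 ⟨j, rfl⟩⟩) hLi hL
    exact Groth.Agent.Flat2H.FamDict.isAmple_of_iso ((Scheme.Modules.pullbackId Y).app L) h7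
  obtain ⟨n₁, hn₁⟩ := Groth.Agent.Ega2.AmpleVery.exists_forall_isRelVeryAmplePn qY hamp
  obtain ⟨n₂, hn₂⟩ := (Groth.Agent.S0051.result K Y qY L hLi).1 hamp (Coh.structureModule Y)
    (Groth.Agent.Fdesc.StructMod.isCoh_structureModule Y)
  let N := max n₁ n₂
  refine ⟨CohB1.tensorPow L N, isInvertible_tensorPow hLi N, N, hn₁ N (le_max_left _ _), ?_, ?_⟩
  · obtain ⟨e⟩ := hc.nonempty_equiv (isInvertible_tensorPow hLi N) 1
    have h7 := hn₂ N (le_max_right _ _) 1 one_pos
    have h8 := Groth.Agent.CohqA.DirectSum.subsingleton_of_iso (Groth.Agent.Ega2.Tens.lunit (CohB1.tensorPow L N)) 1 h7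
    exact e.toEquiv.subsingleton
  · rw [mk_tensorPow hLi]
    congr 1
    obtain ⟨e⟩ := hL
    rw [eq_inv_iff_mul_eq_one]
    exact mk_congr e

/-- **Spreading out the contraction, given sections through the smooth points.** -/
theorem lc_sections {A : Type u} [CommRing A] {C X Y : Scheme.{u}} (f : C ⟶ Spec (CommRingCat.of A)) [IsProper f]
    [Flat f] [LocallyOfFinitePresentation f] (τ : Spec (CommRingCat.of K) ⟶ Spec (CommRingCat.of A)) {i : X ⟶ C}
    {q : X ⟶ Spec (CommRingCat.of K)} (sq : IsPullback i q f τ) {c : X ⟶ Y} (hc : IsCtr c)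
    {qY : Y ⟶ Spec (CommRingCat.of K)} [IsProper qY] (hcq : c ≫ qY = q)
    (hdimY : topologicalKrullDim Y ≤ 1) {m : ℕ} (x : Fin m → (Spec (CommRingCat.of K) ⟶ X))
    (y : Fin m → (Spec (CommRingCat.of K) ⟶ Y))
    (h2 : ∀ j, y j ≫ qY = 𝟙 _) (h3 : ∀ j, IsPullback (x j) (𝟙 _) c (y j)) (h5 : ∀ j, SM qY (y j (pt K)))
    (h6 : ∀ E ∈ irreducibleComponents (Y : Type u), topologicalKrullDim E = 1 → ∃ j, y j (pt K) ∈ E)
    (σ : Fin m → (Spec (CommRingCat.of A) ⟶ C)) (hσ : ∀ j, σ j ≫ f = 𝟙 _) (hSM : ∀ j t, SM f (σ j t))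
    (hx : ∀ j, x j ≫ i = τ ≫ σ j) : LC f τ i c qY := by
  have hPq : IsProper q := MorphismProperty.of_isPullback (P := @IsProper) sq inferInstance
  have hPc : IsProper c := by
    have : IsProper (c ≫ qY) := by rw [hcq]; exact hPq
    exact IsProper.of_comp c qY
  have i2 := flat_field qY
  have i4 := lfp_field qY
  have hxc : ∀ j, x j ≫ c = y j := fun j => by rw [(h3 j).w, Category.id_comp]
  have hxq : ∀ j, x j ≫ q = 𝟙 _ := fun j => by rw [← hcq, reassoc_of% (hxc j), h2]
  have hDy : ∀ j, BlowUp.IsEffCartierIdeal (y j).ker := fun j => isEff_section qY (y j) (h2 j) fun s => by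
    rw [Subsingleton.elim s (pt K)]
    exact h5 j
  have hDσ : ∀ j, BlowUp.IsEffCartierIdeal (σ j).ker := fun j => isEff_section f (σ j) (hσ j) (hSM j)
  have hcly : ∀ j, IsClosedImmersion (y j) := fun j => isClosedImmersion_section qY (y j) (h2 j)
  have k1 : ∀ j, (σ j).ker.comap i = (x j).ker := fun j => ker_comap_section sq (hσ j) (hx j) (hxq j)
  have k2 : ∀ j, (y j).ker.comap c = (x j).ker := fun j => (K647.Idl.ker_of_isPullback (h3 j)).symm
  have i5 := flat_field q
  have hDx : ∀ j, BlowUp.IsEffCartierIdeal (x j).ker := fun j => by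
    have i6 : LocallyOfFinitePresentation q :=
      MorphismProperty.of_isPullback (P := @LocallyOfFinitePresentation) sq inferInstance
    refine isEff_section q (x j) (hxq j) fun s => ?_
    rw [Subsingleton.elim s (pt K), locusProp_SM.baseChange f q i τ sq]
    have h7 : i (x j (pt K)) = σ j (τ (pt K)) := by
      rw [← Scheme.Hom.comp_apply, hx, Scheme.Hom.comp_apply]
    rw [h7]
    exact hSM j _
  obtain ⟨M, hM, N, hva, hH, hcl⟩ := exists_va hc hdimY y h2 h6 hDy
  obtain ⟨L0, hL0, hcl0⟩ := exists_mk (((ic (∏ j, (σ j).ker) (isEff_prod Finset.univ _ hDσ))⁻¹) ^ N)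
  have h7 : mk ((Scheme.Modules.pullback c).obj M) (isInvertible_pullback c hM) =
      mk ((Scheme.Modules.pullback i).obj L0) (isInvertible_pullback i hL0) := by
    rw [← pull_mk c hM, ← pull_mk i hL0, hcl, ← hcl0, map_pow, map_inv, map_pow, map_inv,
      pull_prod c _ hDy _ hDx k2, pull_prod i _ hDσ _ hDx k1]
  obtain ⟨e⟩ := (mk_eq_iff _ _).1 h7
  exact lc_affine f hL0 τ sq (Groth.Agent.CohqA.DirectSum.subsingleton_of_iso e 1 hH) hc hcq hM hva e

end Field

end K899.Ctr
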