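import Mathlib.AlgebraicGeometry.Morphisms.FormallyUnramified
import Mathlib.AlgebraicGeometry.Morphisms.Finite
import Mathlib.AlgebraicGeometry.Morphisms.Proper

/-!
# Finite unramified morphisms which are monomorphisms over a point of the base
-/

set_option autoImplicit false
universe u
open CategoryTheory CategoryTheory.Limits AlgebraicGeometry TopologicalSpace

namespace K899.UnramClosed

variable {A Z T : Scheme.{u}}

theorem mono_restrict (h : A ⟶ Z) [FormallyUnramified h] [LocallyOfFiniteType h] (N : Z.Opens)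
    (H : ∀ e : ↥(pullback h h), h (pullback.fst h h e) ∈ N → e ∈ Set.range (pullback.diagonal h)) :
    Mono (h ∣_ N) := by
  refine ⟨fun {W} a b hab => ?_⟩
  let ι := (h ⁻¹ᵁ N).ι
  have h1 : (a ≫ ι) ≫ h = (b ≫ ι) ≫ h := by
    rw [Category.assoc, Category.assoc, ← morphismRestrict_ι, reassoc_of% hab]
  have h2 : Set.range (pullback.lift (a ≫ ι) (b ≫ ι) h1) ⊆ Set.range (pullback.diagonal h) := by
    rintro _ ⟨w, rfl⟩
    refine H _ ?_
    rw [← Scheme.Hom.comp_apply (pullback.lift _ _ _), pullback.lift_fst, Scheme.Hom.comp_apply]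
    exact (a w).2
  have h3 := IsOpenImmersion.lift_fac (pullback.diagonal h) (pullback.lift (a ≫ ι) (b ≫ ι) h1) h2
  have h4 := congr($h3 ≫ pullback.fst h h)
  have h5 := congr($h3 ≫ pullback.snd h h)
  rw [Category.assoc, pullback.diagonal_fst, Category.comp_id, pullback.lift_fst] at h4
  rw [Category.assoc, pullback.diagonal_snd, Category.comp_id, pullback.lift_snd] at h5
  exact (cancel_mono ι).1 (h4.symm.trans h5)

/-- A finite unramified morphism which is injective "with residue fields" over the point `t` of the base is a closed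
immersion over a neighbourhood of `t`. -/
theorem exists_nhd (h : A ⟶ Z) [FormallyUnramified h] [IsFinite h] (f : Z ⟶ T) (hf : IsClosedMap f) (t : T)
    (H : ∀ e : ↥(pullback h h), f (h (pullback.fst h h e)) = t → e ∈ Set.range (pullback.diagonal h)) :
    ∃ V : T.Opens, t ∈ V ∧ ∀ N : Z.Opens, N ≤ f ⁻¹ᵁ V → IsClosedImmersion (h ∣_ N) := by
  have hE : IsFinite (pullback.fst h h ≫ h) := inferInstance
  have hcl : IsClosed (f '' ((pullback.fst h h ≫ h) '' (Set.range (pullback.diagonal h))ᶜ)) := by
    refine hf _ ((pullback.fst h h ≫ h).isClosedMap _ ?_)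
    exact (pullback.diagonal h).isOpenEmbedding.isOpen_range.isClosed_compl
  refine ⟨⟨_, hcl.isOpen_compl⟩, ?_, ?_⟩
  · rintro ⟨_, ⟨e, he, rfl⟩, het⟩
    refine he (H e ?_)
    rw [← het, Scheme.Hom.comp_apply]
  · intro N hN
    rw [IsClosedImmersion.iff_isFinite_and_mono]
    refine ⟨inferInstance, mono_restrict h N fun e he => ?_⟩
    by_contra hcon
    refine hN he ⟨_, ⟨e, hcon, rfl⟩, ?_⟩
    rw [Scheme.Hom.comp_apply]

end K899.UnramClosed
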