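import Groth.Agent.CurvSt.K899.LocPrinDesc
import Groth.Agent.CurvSt.K899.UnramClosed
import Groth.Agent.S0408
import Groth.Agent.S1353

/-!
# Locally principal closed subschemes through a point, after an elementary etale base change

Setting: a commutative square `q : W ⟶ U`, `φ : W ⟶ Z` over `B` (think of `W = U ×_X Z` for an algebraic space `X` over
`B`, a scheme `Z ⟶ X` and an etale chart `U ⟶ X`).
-/

set_option autoImplicit false
universe u
open CategoryTheory CategoryTheory.Limits AlgebraicGeometry TopologicalSpace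

namespace K899.DivCore

open K971.Basic

variable {B B' B'' U Z W D : Scheme.{u}}

section maps

variable (pU : U ⟶ B) (pZ : Z ⟶ B) (q : W ⟶ U) (φ : W ⟶ Z) (hw : q ≫ pU = φ ≫ pZ) (π : B' ⟶ B)
  (σ : B'' ⟶ B')

/-- base change of `q` -/
noncomputable def qb : pullback (q ≫ pU) π ⟶ pullback pU π :=
  pullback.lift (pullback.fst _ _ ≫ q) (pullback.snd _ _) (by rw [Category.assoc]; exact pullback.condition)

/-- base change of `φ` -/
noncomputable def φb : pullback (q ≫ pU) π ⟶ pullback pZ π :=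
  pullback.lift (pullback.fst _ _ ≫ φ) (pullback.snd _ _)
    (by rw [Category.assoc, ← hw]; exact pullback.condition)

@[reassoc (attr := simp)]
theorem qb_fst : qb pU q π ≫ pullback.fst pU π = pullback.fst _ _ ≫ q := pullback.lift_fst _ _ _

@[reassoc (attr := simp)]
theorem qb_snd : qb pU q π ≫ pullback.snd pU π = pullback.snd _ _ := pullback.lift_snd _ _ _

@[reassoc (attr := simp)]
theorem φb_fst : φb pU pZ q φ hw π ≫ pullback.fst pZ π = pullback.fst _ _ ≫ φ := pullback.lift_fst _ _ _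

@[reassoc (attr := simp)]
theorem φb_snd : φb pU pZ q φ hw π ≫ pullback.snd pZ π = pullback.snd _ _ := pullback.lift_snd _ _ _

theorem isPullback_qb : IsPullback (pullback.fst (q ≫ pU) π) (qb pU q π) q (pullback.fst pU π) := by
  have h1 : IsPullback (pullback.fst (q ≫ pU) π) (qb pU q π ≫ pullback.snd pU π) (q ≫ pU) π := by
    rw [qb_snd]; exact IsPullback.of_hasPullback _ _
  exact IsPullback.of_bot h1 (qb_fst pU q π).symm (IsPullback.of_hasPullback pU π)

theorem isPullback_φb : IsPullback (pullback.fst (q ≫ pU) π) (φb pU pZ q φ hw π) φ (pullback.fst pZ π) := by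
  have h1 : IsPullback (pullback.fst (q ≫ pU) π) (φb pU pZ q φ hw π ≫ pullback.snd pZ π) (φ ≫ pZ) π := by
    rw [φb_snd, ← hw]; exact IsPullback.of_hasPullback _ _
  exact IsPullback.of_bot h1 (φb_fst pU pZ q φ hw π).symm (IsPullback.of_hasPullback pZ π)

/-- transition map -/
noncomputable def tr (p : Z ⟶ B) : pullback p (σ ≫ π) ⟶ pullback p π :=
  pullback.lift (pullback.fst _ _) (pullback.snd _ _ ≫ σ) (by rw [Category.assoc]; exact pullback.condition)

@[reassoc (attr := simp)]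
theorem tr_fst (p : Z ⟶ B) : tr π σ p ≫ pullback.fst p π = pullback.fst _ _ := pullback.lift_fst _ _ _

@[reassoc (attr := simp)]
theorem tr_snd (p : Z ⟶ B) : tr π σ p ≫ pullback.snd p π = pullback.snd _ _ ≫ σ := pullback.lift_snd _ _ _

theorem isPullback_tr (p : Z ⟶ B) : IsPullback (tr π σ p) (pullback.snd _ _) (pullback.snd p π) σ := by
  have h1 : IsPullback (tr π σ p ≫ pullback.fst p π) (pullback.snd p (σ ≫ π)) p (σ ≫ π) := by
    rw [tr_fst]; exact IsPullback.of_hasPullback _ _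
  exact IsPullback.of_right h1 (tr_snd π σ p) (IsPullback.of_hasPullback p π)

theorem tr_qb : tr π σ (q ≫ pU) ≫ qb pU q π = qb pU q (σ ≫ π) ≫ tr π σ pU := by
  apply pullback.hom_ext <;> simp

theorem tr_φb : tr π σ (q ≫ pU) ≫ φb pU pZ q φ hw π = φb pU pZ q φ hw (σ ≫ π) ≫ tr π σ pZ := by
  apply pullback.hom_ext <;> simp

theorem isPullback_tr_φb : IsPullback (tr π σ (q ≫ pU)) (φb pU pZ q φ hw (σ ≫ π)) (φb pU pZ q φ hw π) (tr π σ pZ) := by
  have h1 : IsPullback (tr π σ (q ≫ pU)) (φb pU pZ q φ hw (σ ≫ π) ≫ pullback.snd pZ (σ ≫ π))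
      (φb pU pZ q φ hw π ≫ pullback.snd pZ π) σ := by
    rw [φb_snd, φb_snd]; exact isPullback_tr π σ _
  exact IsPullback.of_bot h1 (tr_φb pU pZ q φ hw π σ) (isPullback_tr π σ pZ)

end maps

/-- After base change to `π : B' ⟶ B` there is a locally principal closed subscheme of `Z ×_B B'`, saturated with respect to
the chart, whose fibre over `b'` is the set of the points over `u`. -/
def Prp (pU : U ⟶ B) (pZ : Z ⟶ B) (q : W ⟶ U) (φ : W ⟶ Z) (hw : q ≫ pU = φ ≫ pZ) (u : U) (π : B' ⟶ B)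
    (b' : B') : Prop :=
  ∃ K : (pullback pZ π).IdealSheafData, LocPrin K ∧
    (∃ E : Set ↥(pullback pU π), ∀ z : ↥(pullback pZ π),
      z ∈ K.support ↔ ∃ w : ↥(pullback (q ≫ pU) π), φb pU pZ q φ hw π w = z ∧ qb pU q π w ∈ E) ∧
    ∀ z : ↥(pullback pZ π), pullback.snd pZ π z = b' →
      (z ∈ K.support ↔ ∃ w : W, φ w = pullback.fst pZ π z ∧ q w = u)

section

variable {pU : U ⟶ B} {pZ : Z ⟶ B} {q : W ⟶ U} {φ : W ⟶ Z} {hw : q ≫ pU = φ ≫ pZ} {π : B' ⟶ B}

theorem prp_of_map {u : U} {b' : B'} (A : Set ↥(pullback pZ π))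
    (h1 : ∃ E : Set ↥(pullback pU π), ∀ z : ↥(pullback pZ π),
      z ∈ A ↔ ∃ w : ↥(pullback (q ≫ pU) π), φb pU pZ q φ hw π w = z ∧ qb pU q π w ∈ E)
    (h2 : ∀ z : ↥(pullback pZ π), pullback.snd pZ π z = b' →
      (z ∈ A ↔ ∃ w : W, φ w = pullback.fst pZ π z ∧ q w = u))
    (σ : B'' ⟶ B') (b'' : B'') (hb : σ b'' = b') (K : (pullback pZ (σ ≫ π)).IdealSheafData) (hK : LocPrin K)
    (hKA : ∀ z, z ∈ K.support ↔ tr π σ pZ z ∈ A) : Prp pU pZ q φ hw u (σ ≫ π) b'' := by
  obtain ⟨E, hE⟩ := h1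
  refine ⟨K, hK, ⟨tr π σ pU ⁻¹' E, fun z => ?_⟩, fun z hz => ?_⟩
  · rw [hKA, hE]
    constructor
    · rintro ⟨w, hw1, hw2⟩
      obtain ⟨w', hw', hz'⟩ := Scheme.exists_preimage_of_isPullback
        (isPullback_tr_φb pU pZ q φ hw π σ) w z hw1
      refine ⟨w', hz', ?_⟩
      change tr π σ pU (qb pU q (σ ≫ π) w') ∈ E
      rw [← Scheme.Hom.comp_apply, ← tr_qb, Scheme.Hom.comp_apply, hw']
      exact hw2
    · rintro ⟨w, rfl, hw2⟩
      refine ⟨tr π σ (q ≫ pU) w, ?_, ?_⟩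
      · rw [← Scheme.Hom.comp_apply, tr_φb, Scheme.Hom.comp_apply]
      · rw [← Scheme.Hom.comp_apply, tr_qb, Scheme.Hom.comp_apply]
        exact hw2
  · rw [hKA, h2]
    · rw [← Scheme.Hom.comp_apply, tr_fst]
    · rw [← Scheme.Hom.comp_apply, tr_snd, Scheme.Hom.comp_apply, hz, hb]

/-- `Prp` is stable under base change. -/
theorem Prp.baseChange {u : U} {b' : B'} (h : Prp pU pZ q φ hw u π b') (σ : B'' ⟶ B') (b'' : B'')
    (hb : σ b'' = b') : Prp pU pZ q φ hw u (σ ≫ π) b'' := by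
  obtain ⟨K, hK, h1, h2⟩ := h
  refine prp_of_map (K.support : Set _) h1 h2 σ b'' hb (K.comap (tr π σ pZ)) (hK.comap _) fun z => ?_
  rw [Scheme.IdealSheafData.support_comap]
  rfl

end

end K899.DivCore
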