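import Groth.Agent.CurvSt.K899.DivCore

/-!
# Locally principal closed subschemes through a point, after an elementary etale base change (II)
-/

set_option autoImplicit false
universe u
open CategoryTheory CategoryTheory.Limits AlgebraicGeometry TopologicalSpace

namespace K899.DivCore

open K971.Basic

variable {B B' B'' U Z W D : Scheme.{u}}

/-- A morphism from the spectrum of a field factors through the spectrum of the residue field. -/
theorem exists_fac {K : Type u} [Field K] {X : Scheme.{u}} (a : Spec (CommRingCat.of K) ⟶ X) (x : X)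
    (o : ↥(Spec (CommRingCat.of K))) (h : a o = x) :
    ∃ c : Spec (CommRingCat.of K) ⟶ Spec (X.residueField x), c ≫ X.fromSpecResidueField x = a := by
  obtain rfl : o = IsLocalRing.closedPoint K := Subsingleton.elim (α := PrimeSpectrum K) _ _
  subst h
  exact ⟨_, X.descResidueField_stalkClosedPointTo_fromSpecResidueField K a⟩

section finite

variable {pU : U ⟶ B} {pZ : Z ⟶ B} {q : W ⟶ U} {φ : W ⟶ Z} (hw : q ≫ pU = φ ≫ pZ) {π : B' ⟶ B}
  (jU : D ⟶ pullback pU π)

theorem isFinite_of_isFinite [hcl : IsClosedImmersion (pullback.lift q φ hw)] [IsFinite (jU ≫ pullback.snd pU π)] :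
    IsFinite (pullback.snd jU (qb pU q π) ≫ φb pU pZ q φ hw π) := by
  let c : pullback jU (qb pU q π) ⟶ pullback (jU ≫ pullback.snd pU π) (pullback.snd pZ π) :=
    pullback.lift (pullback.fst _ _) (pullback.snd _ _ ≫ φb pU pZ q φ hw π)
      (by rw [Category.assoc, φb_snd, pullback.condition_assoc, qb_snd])
  let m : pullback (jU ≫ pullback.snd pU π) (pullback.snd pZ π) ⟶ pullback pU pZ :=
    pullback.lift (pullback.fst _ _ ≫ jU ≫ pullback.fst pU π) (pullback.snd _ _ ≫ pullback.fst pZ π)
      (by
        rw [Category.assoc, Category.assoc, pullback.condition, Category.assoc, pullback.condition]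
        have h := pullback.condition (f := jU ≫ pullback.snd pU π) (g := pullback.snd pZ π)
        rw [← reassoc_of% h])
  have h1 : IsPullback (pullback.snd jU (qb pU q π) ≫ pullback.fst _ _) (c ≫ pullback.fst _ _)
      (pullback.lift q φ hw ≫ pullback.fst _ _) (jU ≫ pullback.fst pU π) := by
    rw [pullback.lift_fst, pullback.lift_fst]
    exact (IsPullback.of_hasPullback jU (qb pU q π)).flip.paste_horiz (isPullback_qb pU q π)
  have h2 : IsPullback (m ≫ pullback.snd _ _) (pullback.fst (jU ≫ pullback.snd pU π) (pullback.snd pZ π)) pZ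
      ((jU ≫ pullback.fst pU π) ≫ pU) := by
    rw [pullback.lift_snd]
    have h := (IsPullback.of_hasPullback (jU ≫ pullback.snd pU π) (pullback.snd pZ π)).flip.paste_horiz
      (IsPullback.of_hasPullback pZ π)
    have h' : (jU ≫ pullback.fst pU π) ≫ pU = (jU ≫ pullback.snd pU π) ≫ π := by
      rw [Category.assoc, Category.assoc, pullback.condition]
    rw [h']
    exact h
  have h3 : IsPullback m (pullback.fst _ _) (pullback.fst pU pZ) (jU ≫ pullback.fst pU π) :=
    IsPullback.of_right h2 (by rw [pullback.lift_fst]) (IsPullback.of_hasPullback pU pZ).flip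
  have h4 : IsPullback (pullback.snd jU (qb pU q π) ≫ pullback.fst _ _) c (pullback.lift q φ hw) m := by
    refine IsPullback.of_bot h1 ?_ h3
    apply pullback.hom_ext
    · rw [Category.assoc, Category.assoc, pullback.lift_fst, Category.assoc, pullback.lift_fst,
        pullback.lift_fst_assoc, ← qb_fst, pullback.condition_assoc]
    · rw [Category.assoc, Category.assoc, pullback.lift_snd, Category.assoc, pullback.lift_snd,
        pullback.lift_snd_assoc, Category.assoc, φb_fst]
  have h5 : IsClosedImmersion c := MorphismProperty.of_isPullback (P := @IsClosedImmersion) h4 hcl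
  have h6 : c ≫ pullback.snd _ _ = pullback.snd jU (qb pU q π) ≫ φb pU pZ q φ hw π := pullback.lift_snd _ _ _
  rw [← h6]
  infer_instance

end finite

section core

variable {pU : U ⟶ B} {pZ : Z ⟶ B} {q : W ⟶ U} {φ : W ⟶ Z} (hw : q ≫ pU = φ ≫ pZ) {π : B' ⟶ B}
  (jU : D ⟶ pullback pU π)

/-- the condition of `UnramClosed.exists_nhd` -/
theorem mem_range_diagonal [Mono (pullback.lift q φ hw)] (v : D)
    (hv : ∀ d : D, (jU ≫ pullback.snd pU π) d = (jU ≫ pullback.snd pU π) v → d = v)
    (hres : Function.Surjective ((jU ≫ pullback.fst pU π).residueFieldMap v))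
    (hmono : ∀ {Y : Scheme.{u}} (a b : Y ⟶ W) (c d : Y ⟶ Spec (U.residueField ((jU ≫ pullback.fst pU π) v))),
      a ≫ φ = b ≫ φ → a ≫ q = c ≫ U.fromSpecResidueField _ → b ≫ q = d ≫ U.fromSpecResidueField _ → c = d)
    (h : pullback jU (qb pU q π) ⟶ pullback pZ π)
    (hh : h = pullback.snd jU (qb pU q π) ≫ φb pU pZ q φ hw π) (e : ↥(pullback h h))
    (he : pullback.snd pZ π (h (pullback.fst h h e)) = (jU ≫ pullback.snd pU π) v) :
    e ∈ Set.range (pullback.diagonal h) := by
  let κ := (pullback h h).fromSpecResidueField e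
  let o : ↥(Spec ((pullback h h).residueField e)) := IsLocalRing.closedPoint _
  have hκ : κ o = e := Scheme.fromSpecResidueField_apply _ _
  -- compatibility
  have hc : pullback.fst jU (qb pU q π) ≫ jU ≫ pullback.snd pU π = h ≫ pullback.snd pZ π := by
    rw [hh, Category.assoc, φb_snd, pullback.condition_assoc, qb_snd]
  -- both points of `D` are `v`
  have key : ∀ (r : pullback h h ⟶ pullback jU (qb pU q π)), r ≫ h = pullback.fst h h ≫ h →
      (κ ≫ r ≫ pullback.fst jU (qb pU q π)) o = v := by
    intro r hr
    apply hv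
    rw [Scheme.Hom.comp_apply κ, hκ, ← he, ← Scheme.Hom.comp_apply]
    have h1 : (r ≫ pullback.fst jU (qb pU q π)) ≫ jU ≫ pullback.snd pU π =
        (pullback.fst h h ≫ h) ≫ pullback.snd pZ π := by
      rw [Category.assoc, hc, reassoc_of% hr, Category.assoc]
    rw [h1]
    simp only [Scheme.Hom.comp_apply]
  obtain ⟨c1, hc1⟩ := exists_fac _ _ o (key (pullback.fst h h) rfl)
  obtain ⟨c2, hc2⟩ := exists_fac _ _ o (key (pullback.snd h h) pullback.condition.symm)
  have hq : ∀ (r : pullback h h ⟶ pullback jU (qb pU q π))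
      (c : Spec ((pullback h h).residueField e) ⟶ Spec (D.residueField v)),
      c ≫ D.fromSpecResidueField v = κ ≫ r ≫ pullback.fst jU (qb pU q π) →
      (κ ≫ r ≫ pullback.snd jU (qb pU q π) ≫ pullback.fst _ _) ≫ q =
      (c ≫ Spec.map ((jU ≫ pullback.fst pU π).residueFieldMap v)) ≫ U.fromSpecResidueField _ := by
    intro r c hc'
    rw [Category.assoc c, Scheme.Hom.SpecMap_residueFieldMap_fromSpecResidueField, reassoc_of% hc']
    simp only [Category.assoc]
    rw [pullback.condition_assoc, qb_fst]
  have hφ : (κ ≫ pullback.fst h h ≫ pullback.snd jU (qb pU q π) ≫ pullback.fst _ _) ≫ φ =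
      (κ ≫ pullback.snd h h ≫ pullback.snd jU (qb pU q π) ≫ pullback.fst _ _) ≫ φ := by
    have h1 : pullback.snd jU (qb pU q π) ≫ pullback.fst _ _ ≫ φ = h ≫ pullback.fst pZ π := by
      rw [hh, Category.assoc, φb_fst]
    simp only [Category.assoc]
    rw [h1, pullback.condition_assoc]
  have h12 := hmono _ _ _ _ hφ (hq (pullback.fst h h) c1 hc1) (hq (pullback.snd h h) c2 hc2)
  have hiso := Groth.Agent.S0408.isIso_residueFieldMap_of_surjective _ v hres
  have h12' : c1 = c2 := (cancel_mono _).1 h12
  -- the components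
  have hD : κ ≫ pullback.fst h h ≫ pullback.fst jU (qb pU q π) =
      κ ≫ pullback.snd h h ≫ pullback.fst jU (qb pU q π) := by
    rw [← hc1, ← hc2, h12']
  have hW : κ ≫ pullback.fst h h ≫ pullback.snd jU (qb pU q π) ≫ pullback.fst _ _ =
      κ ≫ pullback.snd h h ≫ pullback.snd jU (qb pU q π) ≫ pullback.fst _ _ := by
    rw [← cancel_mono (pullback.lift q φ hw)]
    apply pullback.hom_ext
    · rw [Category.assoc, Category.assoc _ (pullback.lift q φ hw), pullback.lift_fst,
        hq _ c1 hc1, hq _ c2 hc2, h12']
    · rw [Category.assoc, Category.assoc _ (pullback.lift q φ hw), pullback.lift_snd, hφ]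
  have hDW : κ ≫ pullback.fst h h = κ ≫ pullback.snd h h := by
    apply pullback.hom_ext
    · rw [Category.assoc, hD, Category.assoc]
    · apply pullback.hom_ext
      · rw [Category.assoc, Category.assoc, hW, Category.assoc, Category.assoc]
      · have h1 : pullback.snd jU (qb pU q π) ≫ pullback.snd _ _ = h ≫ pullback.snd pZ π := by
          rw [hh, Category.assoc, φb_snd]
        simp only [Category.assoc]
        rw [h1, pullback.condition_assoc]
  refine ⟨pullback.fst h h e, ?_⟩
  have h2 : κ = (κ ≫ pullback.fst h h) ≫ pullback.diagonal h := by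
    apply pullback.hom_ext
    · rw [Category.assoc, pullback.diagonal_fst, Category.comp_id]
    · rw [Category.assoc, pullback.diagonal_snd, Category.comp_id, hDW]
  have h3 := congr($h2 o)
  rw [Scheme.Hom.comp_apply, Scheme.Hom.comp_apply, hκ] at h3
  exact h3.symm

end core

end K899.DivCore
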