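import Groth.Agent.CurvSt.K899.DivCore2

/-!
# Locally principal closed subschemes through a point, after an elementary etale base change (III)
-/

set_option autoImplicit false
universe u
open CategoryTheory CategoryTheory.Limits AlgebraicGeometry TopologicalSpace

namespace K899.DivCore

open K971.Basic

variable {B B' B'' U Z W D : Scheme.{u}}

theorem ker_of_isPullback {P X Y Z : Scheme.{u}} {fst : P ⟶ X} {snd : P ⟶ Z} {f : X ⟶ Y} {i : Z ⟶ Y}
    (h : IsPullback fst snd f i) [IsClosedImmersion i] : fst.ker = i.ker.comap f := by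
  rw [← Scheme.IdealSheafData.ker_fst_of_isClosedImmersion, ← h.isoPullback_hom_fst,
    Scheme.Hom.ker_comp_of_isIso]

/-- An open subscheme of a locally principal closed subscheme which is closed is locally principal. -/
theorem locPrin_of_open {P Y : Scheme.{u}} (s : D ⟶ P) [IsOpenImmersion s] (j : P ⟶ Y) [IsClosedImmersion j]
    [IsClosedImmersion (s ≫ j)] (hj : LocPrin j.ker) : LocPrin (s ≫ j).ker := by
  intro x
  by_cases hx : x ∈ (s ≫ j).ker.support
  · obtain ⟨d, rfl⟩ : x ∈ Set.range (s ≫ j) := by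
      have h1 : x ∈ ((s ≫ j).ker.support : Set Y) := hx
      rw [Scheme.Hom.support_ker, (s ≫ j).isClosedEmbedding.isClosed_range.closure_eq] at h1
      exact h1
    have hcl : IsClosed (j '' (Set.range s)ᶜ) :=
      j.isClosedEmbedding.isClosedMap _ (s.isOpenEmbedding.isOpen_range.isClosed_compl)
    have hud : (s ≫ j) d ∈ (⟨(j '' (Set.range s)ᶜ)ᶜ, hcl.isOpen_compl⟩ : Y.Opens) := by
      rintro ⟨z, hz, hzd⟩
      refine hz ⟨d, j.isClosedEmbedding.injective ?_⟩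
      rw [hzd, ← Scheme.Hom.comp_apply]
    obtain ⟨V, huV, hVW, b, hb⟩ := hj.exists_le ((s ≫ j) d) _ hud
    have hV : ∀ z, j z ∈ V.1 → z ∈ Set.range s := by
      intro z hz
      by_contra hcon
      exact hVW hz ⟨z, hcon, rfl⟩
    exact ⟨V, huV, b, by rw [← LocPrinDesc.ker_ideal_eq s j V hV, hb]⟩
  · obtain ⟨V, hxV, hV⟩ := K647.CartDesc.exists_affine_top hx
    exact ⟨V, hxV, 1, by rw [hV, Ideal.span_singleton_one]⟩

section

variable {pU : U ⟶ B} {pZ : Z ⟶ B} {q : W ⟶ U} {φ : W ⟶ Z} (hw : q ≫ pU = φ ≫ pZ) {π : B' ⟶ B}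
  (jU : D ⟶ pullback pU π)

theorem exists_prp_of_data [Etale φ] [IsClosedImmersion (pullback.lift q φ hw)] [IsProper pZ]
    [IsClosedImmersion jU] (hj : LocPrin jU.ker) [IsFinite (jU ≫ pullback.snd pU π)] (v : D)
    (hv : ∀ d : D, (jU ≫ pullback.snd pU π) d = (jU ≫ pullback.snd pU π) v → d = v)
    (hres : Function.Surjective ((jU ≫ pullback.fst pU π).residueFieldMap v))
    (hπ : Function.Surjective (π.residueFieldMap ((jU ≫ pullback.snd pU π) v)))
    (hmono : ∀ {Y : Scheme.{u}} (a b : Y ⟶ W) (c d : Y ⟶ Spec (U.residueField ((jU ≫ pullback.fst pU π) v))),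
      a ≫ φ = b ≫ φ → a ≫ q = c ≫ U.fromSpecResidueField _ → b ≫ q = d ≫ U.fromSpecResidueField _ → c = d) :
    ∃ V : B'.Opens, (jU ≫ pullback.snd pU π) v ∈ V ∧ ∀ {B'' : Scheme.{u}} (σ : B'' ⟶ B') (b'' : B''),
      Set.range σ ⊆ V → σ b'' = (jU ≫ pullback.snd pU π) v →
        Prp pU pZ q φ hw ((jU ≫ pullback.fst pU π) v) (σ ≫ π) b'' := by
  have hfin := isFinite_of_isFinite hw jU
  have hφb : Etale (φb pU pZ q φ hw π) :=
    MorphismProperty.of_isPullback (P := @Etale) (isPullback_φb pU pZ q φ hw π) ‹_›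
  have hu1 : FormallyUnramified (pullback.snd jU (qb pU q π)) := by
    have h1 : IsClosedImmersion (pullback.snd jU (qb pU q π)) := inferInstance
    have h2 : Mono (pullback.snd jU (qb pU q π)) := inferInstance
    have h3 : IsIso (pullback.diagonal (pullback.snd jU (qb pU q π))) := inferInstance
    infer_instance
  have hu2 : FormallyUnramified (φb pU pZ q φ hw π) := inferInstance
  have hu : FormallyUnramified (pullback.snd jU (qb pU q π) ≫ φb pU pZ q φ hw π) :=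
    MorphismProperty.comp_mem @FormallyUnramified _ _ hu1 hu2
  obtain ⟨V, hV, hVN⟩ := UnramClosed.exists_nhd (pullback.snd jU (qb pU q π) ≫ φb pU pZ q φ hw π)
    (pullback.snd pZ π) (pullback.snd pZ π).isClosedMap ((jU ≫ pullback.snd pU π) v)
    (fun e he => mem_range_diagonal hw jU v hv hres hmono _ rfl e he)
  refine ⟨V, hV, fun {B''} σ b'' hσ hb => ?_⟩
  let N := pullback.snd pZ π ⁻¹ᵁ V
  have hN := hVN N le_rfl
  let φb' := φb pU pZ q φ hw π
  let ψ := pullback.snd jU (qb pU q π)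
  have hψ : LocPrin (ψ ∣_ (φb' ⁻¹ᵁ N)).ker := by
    have h1 : ψ.ker = jU.ker.comap (qb pU q π) :=
      ker_of_isPullback (IsPullback.of_hasPullback jU (qb pU q π)).flip
    have h2 : (ψ ∣_ (φb' ⁻¹ᵁ N)).ker = ψ.ker.comap (φb' ⁻¹ᵁ N).ι :=
      ker_of_isPullback (isPullback_morphismRestrict ψ (φb' ⁻¹ᵁ N))
    rw [h2, h1]
    exact (hj.comap _).comap _
  have hcl : IsClosedImmersion ((ψ ∣_ (φb' ⁻¹ᵁ N)) ≫ (φb' ∣_ N)) := by
    rw [← morphismRestrict_comp]; exact hN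
  have hlp : LocPrin ((ψ ∣_ (φb' ⁻¹ᵁ N)) ≫ (φb' ∣_ N)).ker :=
    LocPrinDesc.locPrin_of_etale (φb' ∣_ N) (ψ ∣_ (φb' ⁻¹ᵁ N)) hψ
  rw [← morphismRestrict_comp] at hlp
  -- the closed subset
  have hmem : ∀ z : ↥(pullback pZ π), z ∈ Set.range (ψ ≫ φb') ↔
      ∃ w : ↥(pullback (q ≫ pU) π), φb pU pZ q φ hw π w = z ∧ qb pU q π w ∈ Set.range jU := by
    intro z
    constructor
    · rintro ⟨d, rfl⟩
      refine ⟨ψ d, (Scheme.Hom.comp_apply _ _ _).symm, pullback.fst jU (qb pU q π) d, ?_⟩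
      rw [← Scheme.Hom.comp_apply, pullback.condition, Scheme.Hom.comp_apply]
    · rintro ⟨w, rfl, d, hd⟩
      obtain ⟨d', hd1, hd2⟩ := Scheme.exists_preimage_of_isPullback (IsPullback.of_hasPullback jU (qb pU q π)) d w hd
      refine ⟨d', ?_⟩
      rw [Scheme.Hom.comp_apply]
      exact congrArg _ hd2
  have hfib : ∀ z : ↥(pullback pZ π), pullback.snd pZ π z = (jU ≫ pullback.snd pU π) v →
      (z ∈ Set.range (ψ ≫ φb') ↔
        ∃ w : W, φ w = pullback.fst pZ π z ∧ q w = (jU ≫ pullback.fst pU π) v) := by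
    intro z hz
    rw [hmem]
    constructor
    · rintro ⟨w, rfl, d, hd⟩
      have h1 : d = v := hv d (by
        rw [Scheme.Hom.comp_apply, hd, ← Scheme.Hom.comp_apply, qb_snd, ← hz, ← Scheme.Hom.comp_apply, φb_snd])
      refine ⟨pullback.fst (q ≫ pU) π w, ?_, ?_⟩
      · rw [← Scheme.Hom.comp_apply, ← Scheme.Hom.comp_apply, φb_fst]
      · rw [← Scheme.Hom.comp_apply, ← qb_fst, Scheme.Hom.comp_apply, ← hd, h1, Scheme.Hom.comp_apply]
    · rintro ⟨w, hw1, hw2⟩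
      obtain ⟨w', hw1', hw2'⟩ := Scheme.exists_preimage_of_isPullback (isPullback_φb pU pZ q φ hw π) w z hw1
      refine ⟨w', hw2', v, ?_⟩
      refine (Groth.Agent.S0408.eq_of_fst_eq_of_snd_eq pU π ((jU ≫ pullback.snd pU π) v) hπ (jU v)
        (qb pU q π w') ?_ (Scheme.Hom.comp_apply _ _ _).symm ?_).symm
      · change pullback.fst pU π (qb pU q π w') = pullback.fst pU π (jU v)
        rw [← Scheme.Hom.comp_apply, qb_fst, Scheme.Hom.comp_apply]
        have h3 : pullback.fst (q ≫ pU) π w' = w := hw1'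
        rw [h3, hw2, Scheme.Hom.comp_apply]
      · rw [← Scheme.Hom.comp_apply, qb_snd, ← hz, ← hw2']
        change _ = pullback.snd pZ π (φb pU pZ q φ hw π w')
        rw [← Scheme.Hom.comp_apply, φb_snd]
  -- the transition map
  have hrange : Set.range (tr π σ pZ) ⊆ Set.range N.ι := by
    rw [Scheme.Opens.range_ι]
    rintro _ ⟨z, rfl⟩
    change pullback.snd pZ π (tr π σ pZ z) ∈ V
    rw [← Scheme.Hom.comp_apply, tr_snd, Scheme.Hom.comp_apply]
    exact hσ ⟨_, rfl⟩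
  let m := IsOpenImmersion.lift N.ι (tr π σ pZ) hrange
  have hm : m ≫ N.ι = tr π σ pZ := IsOpenImmersion.lift_fac _ _ _
  refine prp_of_map (Set.range (ψ ≫ φb')) ⟨_, hmem⟩ hfib σ b'' hb
    (((ψ ≫ φb') ∣_ N).ker.comap m) (hlp.comap m) fun z => ?_
  have h5 : z ∈ (((ψ ≫ φb') ∣_ N).ker.comap m).support ↔ m z ∈ ((ψ ≫ φb') ∣_ N).ker.support := by
    rw [Scheme.IdealSheafData.support_comap]
    rfl
  have hN' : IsClosedImmersion ((ψ ≫ φb') ∣_ N) := hN
  have h6 : m z ∈ ((ψ ≫ φb') ∣_ N).ker.support ↔ m z ∈ Set.range ((ψ ≫ φb') ∣_ N) := by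
    change m z ∈ (((ψ ≫ φb') ∣_ N).ker.support : Set _) ↔ _
    rw [Scheme.Hom.support_ker, ((ψ ≫ φb') ∣_ N).isClosedEmbedding.isClosed_range.closure_eq]
  rw [h5, h6]
  constructor
  · rintro ⟨d, hd⟩
    refine ⟨((ψ ≫ φb') ⁻¹ᵁ N).ι d, ?_⟩
    rw [← hm, Scheme.Hom.comp_apply m, ← hd, ← Scheme.Hom.comp_apply, ← Scheme.Hom.comp_apply, morphismRestrict_ι]
  · rintro ⟨d, hd⟩
    have hdN : d ∈ (ψ ≫ φb') ⁻¹ᵁ N := by
      change (ψ ≫ φb') d ∈ N
      rw [hd, ← hm, Scheme.Hom.comp_apply]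
      exact (m z).2
    let d' : ↥(((ψ ≫ φb') ⁻¹ᵁ N : Scheme.{u})) := ⟨d, hdN⟩
    refine ⟨d', N.ι.isOpenEmbedding.injective ?_⟩
    rw [← Scheme.Hom.comp_apply m, hm, ← hd, ← Scheme.Hom.comp_apply, morphismRestrict_ι, Scheme.Hom.comp_apply]
    rfl

end

end K899.DivCore
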