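import Groth.Agent.CurvSt.K899.DivCore3
import Groth.Agent.Grpsch.EtLoc

/-!
# Locally principal closed subschemes through a point, after an elementary etale base change (IV)

* `exists_prp`: the closed subscheme through one point `u` of the chart.
-/

set_option autoImplicit false
universe u
open CategoryTheory CategoryTheory.Limits AlgebraicGeometry TopologicalSpace

namespace K899.DivCore

open K971.Basic

variable {B B' B'' U Z W D : Scheme.{u}}

/-- The scheme version of: `Spec κ(u) ⟶ U ⟶ X` is a monomorphism. -/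
def MonoAt (q : W ⟶ U) (φ : W ⟶ Z) (u : U) : Prop :=
  ∀ {Y : Scheme.{u}} (a b : Y ⟶ W) (c d : Y ⟶ Spec (U.residueField u)),
      a ≫ φ = b ≫ φ → a ≫ q = c ≫ U.fromSpecResidueField u → b ≫ q = d ≫ U.fromSpecResidueField u → c = d

theorem isClosedImmersion_of_isFinite_comp {X Y T : Scheme.{u}} (f : X ⟶ Y) (g : Y ⟶ T) [IsSeparated g]
    [IsFinite (f ≫ g)] [Mono f] : IsClosedImmersion f := by
  rw [IsClosedImmersion.iff_isFinite_and_mono]
  exact ⟨IsFinite.of_comp f g, inferInstance⟩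

/-- Locally principal closed subschemes through one point of the chart. -/
theorem exists_prp {D0 : Scheme.{u}} {pU : U ⟶ B} {pZ : Z ⟶ B} {q : W ⟶ U} {φ : W ⟶ Z} (hw : q ≫ pU = φ ≫ pZ)
    [Etale φ] [IsClosedImmersion (pullback.lift q φ hw)] [IsProper pZ] [IsSeparated pU] (i0 : D0 ⟶ U)
    [IsClosedImmersion i0] (hi0 : LocPrin i0.ker) [LocallyOfFiniteType (i0 ≫ pU)] (u0 : D0)
    (hqf : (i0 ≫ pU).QuasiFiniteAt u0) (hmono : MonoAt q φ (i0 u0)) :
    ∃ (B' : Scheme.{u}) (π : B' ⟶ B) (b' : B'), IsAffine B' ∧ Hens2.IsEtaleNbhd π b' (pU (i0 u0)) ∧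
      Prp pU pZ q φ hw (i0 u0) π b' := by
  obtain ⟨B1, g, b1, hg, V, v, hvV, hfin, hvb, huniq, hvx, hres⟩ :=
    Groth.Agent.S1353.result (i0 ≫ pU) u0 hqf
  have hcl : IsClosedImmersion (qb pU i0 g) :=
    MorphismProperty.of_isPullback (P := @IsClosedImmersion) (isPullback_qb pU i0 g) ‹_›
  let jU : (V : Scheme.{u}) ⟶ pullback pU g := V.ι ≫ qb pU i0 g
  have hjs : jU ≫ pullback.snd pU g = V.ι ≫ pullback.snd (i0 ≫ pU) g := by
    rw [Category.assoc, qb_snd]
  have hjf : jU ≫ pullback.fst pU g = V.ι ≫ pullback.fst (i0 ≫ pU) g ≫ i0 := by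
    rw [Category.assoc, qb_fst]
  have hfin' : IsFinite (jU ≫ pullback.snd pU g) := by rw [hjs]; exact hfin
  have hjcl : IsClosedImmersion jU := isClosedImmersion_of_isFinite_comp jU (pullback.snd pU g)
  have hjp : LocPrin jU.ker := by
    refine locPrin_of_open V.ι (qb pU i0 g) ?_
    rw [ker_of_isPullback (isPullback_qb pU i0 g).flip]
    exact hi0.comap _
  let v' : ↥(V : Scheme.{u}) := ⟨v, hvV⟩
  have hιv : V.ι v' = v := rfl
  have hsv : (jU ≫ pullback.snd pU g) v' = b1 := by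
    rw [hjs, Scheme.Hom.comp_apply, hιv, hvb]
  have hfv : (jU ≫ pullback.fst pU g) v' = i0 u0 := by
    rw [hjf, Scheme.Hom.comp_apply, Scheme.Hom.comp_apply, hιv, hvx]
  have hv : ∀ d : ↥(V : Scheme.{u}), (jU ≫ pullback.snd pU g) d = (jU ≫ pullback.snd pU g) v' → d = v' := by
    intro d hd
    rw [hsv, hjs, Scheme.Hom.comp_apply] at hd
    exact V.ι.isOpenEmbedding.injective (huniq _ d.2 hd)
  have hres' : Function.Surjective ((jU ≫ pullback.fst pU g).residueFieldMap v') := by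
    have h1 : Function.Surjective ((V.ι ≫ pullback.fst (i0 ≫ pU) g ≫ i0).residueFieldMap v') := by
      rw [Scheme.residueFieldMap_comp, Scheme.residueFieldMap_comp]
      have h2 := Groth.Agent.S0408.residueFieldMap_surjective_of_surjectiveOnStalks V.ι v'
      have h3 := Groth.Agent.S0408.residueFieldMap_surjective_of_surjectiveOnStalks i0
        (pullback.fst (i0 ≫ pU) g (V.ι v'))
      exact (h2.comp hres.2).comp h3
    have h2 : ∀ (f : (V : Scheme.{u}) ⟶ U), f = V.ι ≫ pullback.fst (i0 ≫ pU) g ≫ i0 →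
        Function.Surjective (f.residueFieldMap v') := by
      rintro f rfl
      exact h1
    exact h2 _ hjf
  have hπ : Function.Surjective (g.residueFieldMap ((jU ≫ pullback.snd pU g) v')) := by
    rw [hsv]; exact hg.residue_bijective.2
  have hmono' : MonoAt q φ ((jU ≫ pullback.fst pU g) v') := by rw [hfv]; exact hmono
  obtain ⟨V', hbV, H⟩ := exists_prp_of_data hw jU hjp v' hv hres' hπ hmono'
  obtain ⟨O, hO', hbO, hOV⟩ := exists_isAffineOpen_mem_and_subset hbV
  let b' : ↥(O : Scheme.{u}) := ⟨_, hbO⟩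
  have hb' : O.ι b' = (jU ≫ pullback.snd pU g) v' := rfl
  have hP := H O.ι b' (by rw [Scheme.Opens.range_ι]; exact hOV) hb'
  rw [hfv] at hP
  refine ⟨(O : Scheme.{u}), O.ι ≫ g, b', hO', ?_, hP⟩
  refine Groth.Agent.Grpsch.EtLoc.IsEtaleNbhd.comp (p' := b1) ?_ ?_
  · rw [← hsv, ← hb']
    exact Groth.Agent.Grpsch.EtLoc.isEtaleNbhd_of_isOpenImmersion O.ι b'
  · rw [Scheme.Hom.comp_apply] at hg
    exact hg

end K899.DivCore
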