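import Groth.Agent.CurvSt.K899.DivCore4

/-!
# Saturated locally principal closed subschemes

`PrpS pZ r1 r2 hr G π b'` : after base change to `π : B' ⟶ B`, there is a locally principal closed subscheme of
`Z ×_B B'`, saturated with respect to the relation `r1, r2 : R ⟶ Z`, whose fibre over `b'` is the set `G`.
-/

set_option autoImplicit false
universe u
open CategoryTheory CategoryTheory.Limits AlgebraicGeometry TopologicalSpace

namespace K899.DivSat

open K971.Basic DivCore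

variable {B B' B'' U Z W R : Scheme.{u}}

/-- a locally principal closed subscheme with prescribed fibre -/
def PrpS (pZ : Z ⟶ B) (r1 r2 : R ⟶ Z) (hr : r1 ≫ pZ = r2 ≫ pZ) (G : Set Z) (π : B' ⟶ B) (b' : B') : Prop :=
  ∃ K : (pullback pZ π).IdealSheafData, LocPrin K ∧
    (∀ r : ↥(pullback (r1 ≫ pZ) π), qb pZ r1 π r ∈ K.support → φb pZ pZ r1 r2 hr π r ∈ K.support) ∧
    ∀ z : ↥(pullback pZ π), pullback.snd pZ π z = b' → (z ∈ K.support ↔ pullback.fst pZ π z ∈ G)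

variable {pU : U ⟶ B} {pZ : Z ⟶ B} {q : W ⟶ U} {φ : W ⟶ Z} {hw : q ≫ pU = φ ≫ pZ}
  {r1 r2 : R ⟶ Z} {hr : r1 ≫ pZ = r2 ≫ pZ} {π : B' ⟶ B}

theorem of_prp {u : U} {b' : B'} (h : Prp pU pZ q φ hw u π b') (ψ : pullback φ r1 ⟶ W)
    (h1 : ψ ≫ q = pullback.fst φ r1 ≫ q) (h2 : ψ ≫ φ = pullback.snd φ r1 ≫ r2) :
    PrpS pZ r1 r2 hr {z | ∃ w : W, φ w = z ∧ q w = u} π b' := by
  obtain ⟨K, hK, ⟨E, hE⟩, hb⟩ := h
  refine ⟨K, hK, fun r hrK => ?_, fun z hz => hb z hz⟩
  obtain ⟨w, hw1, hw2⟩ := (hE _).1 hrK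
  let P := pullback (φb pU pZ q φ hw π) (qb pZ r1 π)
  obtain ⟨x, hx1, hx2⟩ := Scheme.Pullback.exists_preimage_pullback (f := φb pU pZ q φ hw π) (g := qb pZ r1 π) w r hw1
  let m0 : P ⟶ pullback φ r1 := pullback.lift (pullback.fst _ _ ≫ pullback.fst _ _)
    (pullback.snd _ _ ≫ pullback.fst _ _) (by
      rw [Category.assoc, Category.assoc, ← φb_fst pU pZ q φ hw π, ← qb_fst pZ r1 π,
        reassoc_of% (pullback.condition (f := φb pU pZ q φ hw π) (g := qb pZ r1 π))])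
  let Θ : P ⟶ pullback (q ≫ pU) π := pullback.lift (m0 ≫ ψ) (pullback.fst _ _ ≫ pullback.snd _ _) (by
    rw [Category.assoc, reassoc_of% h1, ← Category.assoc m0, pullback.lift_fst, Category.assoc, Category.assoc,
      pullback.condition])
  have hΘ1 : Θ ≫ qb pU q π = pullback.fst _ _ ≫ qb pU q π := by
    apply pullback.hom_ext
    · rw [Category.assoc, Category.assoc, qb_fst, ← Category.assoc Θ, pullback.lift_fst, Category.assoc, h1,
        ← Category.assoc m0, pullback.lift_fst, Category.assoc]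
    · rw [Category.assoc, Category.assoc, qb_snd, pullback.lift_snd]
  have hΘ2 : Θ ≫ φb pU pZ q φ hw π = pullback.snd _ _ ≫ φb pZ pZ r1 r2 hr π := by
    apply pullback.hom_ext
    · rw [Category.assoc, Category.assoc, φb_fst, ← Category.assoc Θ, pullback.lift_fst, Category.assoc, h2,
        ← Category.assoc m0, pullback.lift_snd, Category.assoc, φb_fst]
    · rw [Category.assoc, Category.assoc, φb_snd, φb_snd, pullback.lift_snd,
        ← qb_snd pZ r1 π, ← Category.assoc (pullback.snd _ _), ← pullback.condition, Category.assoc, φb_snd]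
  refine (hE _).2 ⟨Θ x, ?_, ?_⟩
  · rw [← Scheme.Hom.comp_apply, hΘ2, Scheme.Hom.comp_apply, hx2]
  · rw [← Scheme.Hom.comp_apply, hΘ1, Scheme.Hom.comp_apply, hx1]
    exact hw2

theorem PrpS.congr {G G' : Set Z} {b' : B'} (h : PrpS pZ r1 r2 hr G π b')
    (hG : ∀ z : Z, pZ z = π b' → (z ∈ G ↔ z ∈ G')) : PrpS pZ r1 r2 hr G' π b' := by
  obtain ⟨K, hK, h1, h2⟩ := h
  refine ⟨K, hK, h1, fun z hz => ?_⟩
  rw [h2 z hz]
  refine hG _ ?_
  rw [← Scheme.Hom.comp_apply, pullback.condition, Scheme.Hom.comp_apply, hz]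

theorem PrpS.baseChange {G : Set Z} {b' : B'} (h : PrpS pZ r1 r2 hr G π b') (σ : B'' ⟶ B') (b'' : B'')
    (hb : σ b'' = b') : PrpS pZ r1 r2 hr G (σ ≫ π) b'' := by
  obtain ⟨K, hK, h1, h2⟩ := h
  refine ⟨K.comap (tr π σ pZ), hK.comap _, fun r hrK => ?_, fun z hz => ?_⟩
  · rw [Scheme.IdealSheafData.support_comap] at hrK ⊢
    change tr π σ pZ (φb pZ pZ r1 r2 hr (σ ≫ π) r) ∈ K.support
    rw [← Scheme.Hom.comp_apply, ← tr_φb, Scheme.Hom.comp_apply]
    apply h1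
    change tr π σ pZ (qb pZ r1 (σ ≫ π) r) ∈ K.support at hrK
    rw [← Scheme.Hom.comp_apply, ← tr_qb, Scheme.Hom.comp_apply] at hrK
    exact hrK
  · rw [Scheme.IdealSheafData.support_comap]
    change tr π σ pZ z ∈ K.support ↔ _
    rw [h2]
    · rw [← Scheme.Hom.comp_apply, tr_fst]
    · rw [← Scheme.Hom.comp_apply, tr_snd, Scheme.Hom.comp_apply, hz, hb]

theorem notMem_support_top (X : Scheme.{u}) (x : X) : x ∉ (⊤ : X.IdealSheafData).support := by
  rw [Scheme.IdealSheafData.support_top]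
  intro h
  have h' : x ∈ ((⊥ : Closeds X) : Set X) := h
  rw [Closeds.coe_bot] at h'
  exact h'

theorem prpS_empty (π : B' ⟶ B) (b' : B') : PrpS pZ r1 r2 hr ∅ π b' := by
  refine ⟨⊤, fun x => ?_, fun r hrK => ?_, fun z _ => ?_⟩
  · obtain ⟨V, hV, hxV, -⟩ := exists_isAffineOpen_mem_and_subset (U := ⊤) (x := x) trivial
    refine ⟨⟨V, hV⟩, hxV, 1, ?_⟩
    simp
  · exact absurd hrK (notMem_support_top _ _)
  · exact iff_of_false (notMem_support_top _ _) (Set.notMem_empty _)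

theorem PrpS.union {G G' : Set Z} {b' : B'} (h : PrpS pZ r1 r2 hr G π b') (h' : PrpS pZ r1 r2 hr G' π b') :
    PrpS pZ r1 r2 hr (G ∪ G') π b' := by
  obtain ⟨K, hK, h1, h2⟩ := h
  obtain ⟨K', hK', h1', h2'⟩ := h'
  have hsup : ∀ z : ↥(pullback pZ π), z ∈ (K * K').support ↔ z ∈ K.support ∨ z ∈ K'.support := by
    intro z
    rw [Scheme.IdealSheafData.support_mul]
    rfl
  refine ⟨K * K', hK.mul hK', fun r hrK => ?_, fun z hz => ?_⟩
  · rw [hsup] at hrK ⊢
    exact hrK.imp (h1 r) (h1' r)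
  · rw [hsup, h2 z hz, h2' z hz]
    rfl

/-- a finite union, after a common refinement -/
theorem exists_biUnion {ι : Type*} (s : Finset ι) (G : ι → Set Z) (t : B)
    (h : ∀ i ∈ s, ∃ (B' : Scheme.{u}) (π : B' ⟶ B) (b' : B'), Hens2.IsEtaleNbhd π b' t ∧
      PrpS pZ r1 r2 hr (G i) π b') :
    ∃ (B' : Scheme.{u}) (π : B' ⟶ B) (b' : B'), Hens2.IsEtaleNbhd π b' t ∧
      PrpS pZ r1 r2 hr (⋃ i ∈ s, G i) π b' := by
  classical
  induction s using Finset.induction_on with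
  | empty =>
    refine ⟨B, 𝟙 B, t, Groth.Agent.Grpsch.EtLoc.isEtaleNbhd_of_isOpenImmersion (𝟙 B) t, ?_⟩
    simpa using prpS_empty (𝟙 B) t
  | insert i s hi ih =>
    obtain ⟨B1, π1, b1, hn1, hp1⟩ := h i (Finset.mem_insert_self i s)
    obtain ⟨B2, π2, b2, hn2, hp2⟩ := ih fun j hj => h j (Finset.mem_insert_of_mem hj)
    obtain ⟨B3, h1, h2, b3, hc, hn3, hn4⟩ := Groth.Agent.Grpsch.EtLoc.exists_common_refinement hn1 hn2
    refine ⟨B3, h1 ≫ π1, b3, Groth.Agent.Grpsch.EtLoc.IsEtaleNbhd.comp hn3 hn1, ?_⟩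
    have h5 := hp1.baseChange h1 b3 hn3.base_eq
    have h6 := hp2.baseChange h2 b3 hn4.base_eq
    rw [← hc] at h6
    have h7 := h5.union h6
    simpa using h7

end K899.DivSat
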