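import Groth.Agent.CurvSt.K899.ThinDim
import Mathlib.Topology.JacobsonSpace

/-!
# Choice of finitely many closed points meeting every curve
-/

set_option autoImplicit false
universe u
open CategoryTheory CategoryTheory.Limits AlgebraicGeometry TopologicalSpace

namespace K899.PtChoice

variable {F P : Type*} [TopologicalSpace F]

theorem dim_singleton (y : F) : topologicalKrullDim ({y} : Set F) ≤ 0 :=
  topologicalKrullDim_zero_of_discreteTopology _

theorem exists_closed_point [JacobsonSpace F] {C : Set F} (hC : IsClosed C) (hCi : IsIrreducible C)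
    (h1 : topologicalKrullDim C = 1) {Φ : Set F} (hΦ : Φ.Finite) : ∃ y ∈ C, IsClosed ({y} : Set F) ∧ y ∉ Φ := by
  by_contra hcon
  push Not at hcon
  have hfin : (C ∩ closedPoints F).Finite := hΦ.subset fun y hy => hcon y hy.1 hy.2
  have hcl : closure (C ∩ closedPoints F) = C := by
    have := JacobsonSpace.closure_inter_closedPoints (X := F) hC
    exact this
  have hclosed : IsClosed (C ∩ closedPoints F) := by
    rw [← Set.biUnion_of_singleton (C ∩ closedPoints F)]
    exact hfin.isClosed_biUnion fun y hy => hy.2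
  rw [hclosed.closure_eq] at hcl
  obtain ⟨y, hy, hCy⟩ := isIrreducible_iff_sUnion_isClosed.1 hCi (hfin.toFinset.image fun y => ({y} : Set F)) (by
      intro z hz
      rw [Finset.mem_image] at hz
      obtain ⟨y, hy, rfl⟩ := hz
      exact (hfin.mem_toFinset.1 hy).2) (by
      intro y hy
      rw [← hcl] at hy
      exact ⟨{y}, by simpa using ⟨hy.1, hy.2⟩, rfl⟩)
  rw [Finset.mem_image] at hy
  obtain ⟨y, hy, rfl⟩ := hy
  have h2 : C = {y} := (Set.Subset.antisymm_iff.2 ⟨hCy, by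
    rw [Set.singleton_subset_iff]
    exact (hfin.mem_toFinset.1 hy).1⟩)
  rw [h2] at h1
  have := dim_singleton y
  rw [h1] at this
  exact absurd this (by decide)

/-- the one-dimensional closed irreducible subsets -/
def Curves (F : Type*) [TopologicalSpace F] : Set (Set F) :=
  {C | IsClosed C ∧ IsIrreducible C ∧ topologicalKrullDim C = 1}

theorem finite_curves [JacobsonSpace F] [NoetherianSpace F] (hdim : topologicalKrullDim F ≤ 1) :
    (Curves F).Finite := by
  refine NoetherianSpace.finite_irreducibleComponents.subset ?_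
  rintro C ⟨hC, hCi, h1⟩
  obtain ⟨y, hyC, hy, -⟩ := exists_closed_point hC hCi h1 Set.finite_empty
  refine ⟨hCi, fun C' hC' hCC' => ?_⟩
  have h2 : C = closure C' := QFDiv.eq_of_subset hdim hy hC hCi isClosed_closure hC'.closure hyC (by
    rintro rfl
    have := dim_singleton y
    rw [h1] at this
    exact absurd this (by decide)) (hCC'.trans subset_closure)
  rw [h2]
  exact subset_closure

theorem exists_sets [JacobsonSpace F] [NoetherianSpace F] (hdim : topologicalKrullDim F ≤ 1) (x : F → P)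
    (hx : ∀ p, (x ⁻¹' {p}).Finite) :
    ∃ G1 G2 : Set F, G1.Finite ∧ G2.Finite ∧ (∀ y ∈ G1, IsClosed ({y} : Set F)) ∧
      (∀ y ∈ G2, IsClosed ({y} : Set F)) ∧ (∀ y ∈ G1, ∀ y' ∈ G2, x y ≠ x y') ∧
      ∀ C ∈ Curves F, (∃ y ∈ C, y ∈ G1) ∧ (∃ y ∈ C, y ∈ G2) ∧ (∃ y ∈ C, x y ∉ x '' G1) ∧
        (∃ y ∈ C, x y ∉ x '' G2) := by
  have hpre : ∀ G : Set F, G.Finite → (x ⁻¹' (x '' G)).Finite := fun G hG => by
    have : x ⁻¹' (x '' G) = ⋃ y ∈ G, x ⁻¹' {x y} := by
      ext z
      simp only [Set.mem_preimage, Set.mem_image, Set.mem_iUnion, Set.mem_singleton_iff, exists_prop]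
      exact ⟨fun ⟨y, hy, h⟩ => ⟨y, hy, h.symm⟩, fun ⟨y, hy, h⟩ => ⟨y, hy, h.symm⟩⟩
    rw [this]
    exact hG.biUnion fun y _ => hx _
  have hfin := finite_curves hdim
  rcases isEmpty_or_nonempty F with hF | hF
  · refine ⟨∅, ∅, Set.finite_empty, Set.finite_empty, by simp, by simp, by simp, fun C hC => ?_⟩
    obtain ⟨y, -⟩ := hC.2.1.1
    exact hF.elim y
  choose! y1 h1C h1c h1' using fun (C : Set F) (hC : C ∈ Curves F) =>
    exists_closed_point hC.1 hC.2.1 hC.2.2 Set.finite_empty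
  let G1 : Set F := y1 '' Curves F
  have hG1 : G1.Finite := hfin.image _
  choose! y2 h2C h2c h2' using fun (C : Set F) (hC : C ∈ Curves F) =>
    exists_closed_point hC.1 hC.2.1 hC.2.2 (hpre G1 hG1)
  let G2 : Set F := y2 '' Curves F
  have hG2 : G2.Finite := hfin.image _
  refine ⟨G1, G2, hG1, hG2, ?_, ?_, ?_, fun C hC => ⟨⟨_, h1C C hC, C, hC, rfl⟩, ⟨_, h2C C hC, C, hC, rfl⟩,
    ⟨_, h2C C hC, h2' C hC⟩, ?_⟩⟩
  · rintro _ ⟨C, hC, rfl⟩
    exact h1c C hC
  · rintro _ ⟨C, hC, rfl⟩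
    exact h2c C hC
  · rintro y hy _ ⟨C, hC, rfl⟩ h
    exact h2' C hC ⟨y, hy, h⟩
  · obtain ⟨y, hy, -, hy'⟩ := exists_closed_point hC.1 hC.2.1 hC.2.2 (hpre G2 hG2)
    exact ⟨y, hy, hy'⟩

end K899.PtChoice
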