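import Groth.Agent.CurvSt.K899.DivLoc
import Groth.Agent.CurvSt.K899.DivSat
import Groth.Agent.CurvSt.K899.PtChoice

/-!
# Affineness of complements after an elementary etale base change
-/

set_option autoImplicit false
universe u
open CategoryTheory CategoryTheory.Limits AlgebraicGeometry TopologicalSpace

namespace K899.DivEt

open K971.Basic DivCore DivSat PtChoice

variable {B B' B'' U Z W R : Scheme.{u}}

/-- fibres do not change under base change with trivial residue field extension -/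
theorem exists_iso_fiber (f : Z ⟶ B) (g : B' ⟶ B) (p' : B') (t : B) (h : Hens2.IsEtaleNbhd g p' t) :
    ∃ m : (pullback.snd f g).fiber p' ⟶ f.fiber t, IsIso m ∧
      (pullback.snd f g).fiberι p' ≫ pullback.fst f g = m ≫ f.fiberι t := by
  obtain ⟨h1, rfl, hres⟩ := h
  have hiso : IsIso (g.residueFieldMap p') := (Groth.Agent.Grpsch.EtLoc.isIso_iff_bijective _).mpr hres
  have H := isPullback_fiberToSpecResidueField_of_isPullback (IsPullback.of_hasPullback f g) p'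
  have hiso2 : IsIso (Spec.map (g.residueFieldMap p')) := inferInstance
  have hiso3 := H.isIso_fst_of_isIso
  let m : (pullback.snd f g).fiber p' ⟶ f.fiber (g p') :=
    pullback.map (pullback.snd f g) (B'.fromSpecResidueField p') f
        (B.fromSpecResidueField (g p')) (pullback.fst f g)
      (Spec.map (Scheme.Hom.residueFieldMap g p')) g pullback.condition.symm (by simp)
  exact ⟨m, hiso3, (pullback.lift_fst _ _ _).symm⟩

theorem exists_nhd [IsAffine B'] (pZ : Z ⟶ B) [IsProper pZ] (π : B' ⟶ B) (b' : B') (t : B)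
    (hn : Hens2.IsEtaleNbhd π b' t) {K : (pullback pZ π).IdealSheafData} (hK : LocPrin K) (G : Set Z)
    (hG : ∀ z : ↥(pullback pZ π), pullback.snd pZ π z = b' → (z ∈ K.support ↔ pullback.fst pZ π z ∈ G))
    (hdim : topologicalKrullDim (pZ.fiber t) ≤ 1)
    (hC : ∀ C ∈ Curves (pZ.fiber t), (∃ y ∈ C, pZ.fiberι t y ∈ G) ∧ (∃ y ∈ C, pZ.fiberι t y ∉ G)) :
    ∃ V : B'.Opens, b' ∈ V ∧ ∀ W : B'.Opens, W ≤ V → IsAffineOpen W →
      IsAffineOpen (pullback.snd pZ π ⁻¹ᵁ W ⊓ K.support.compl) := by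
  obtain ⟨m, hm, hmc⟩ := exists_iso_fiber pZ π b' t hn
  have hmc' : ∀ y, pullback.fst pZ π ((pullback.snd pZ π).fiberι b' y) = pZ.fiberι t (m y) := fun y => by
    rw [← Scheme.Hom.comp_apply, hmc, Scheme.Hom.comp_apply]
  have hmem : ∀ y, pullback.snd pZ π ((pullback.snd pZ π).fiberι b' y) = b' := fun y => by
    have : (pullback.snd pZ π).fiberι b' y ∈ pullback.snd pZ π ⁻¹' {b'} := by
      rw [← (pullback.snd pZ π).range_fiberι b']
      exact ⟨y, rfl⟩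
    exact this
  let e := m.homeomorph
  refine DivLoc.exists_nhd (pullback.snd pZ π) hK b' ?_ fun C hC1 hC2 hC3 => ?_
  · rw [IsHomeomorph.topologicalKrullDim_eq m e.isHomeomorph]
    exact hdim
  · have h1 : e '' C ∈ Curves (pZ.fiber t) := by
      refine ⟨e.isClosedMap _ hC1, hC2.image e e.continuous.continuousOn, ?_⟩
      rw [← hC3]
      exact ((e.isEmbedding.homeomorphImage C).isHomeomorph.topologicalKrullDim_eq).symm
    obtain ⟨⟨_, ⟨y, hy, rfl⟩, hyG⟩, _, ⟨z, hz, rfl⟩, hzG⟩ := hC _ h1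
    refine ⟨⟨z, hz, ?_⟩, y, hy, ?_⟩
    · rw [hG _ (hmem z), hmc']
      exact hzG
    · rw [hG _ (hmem y), hmc']
      exact hyG

/-- the closed subset data of `PrpS`, when the complement is affine -/
def Dat (pZ : Z ⟶ B) (r1 r2 : R ⟶ Z) (hr : r1 ≫ pZ = r2 ≫ pZ) (π : B' ⟶ B) (A : (pullback pZ π).Opens) : Prop :=
  IsAffineOpen A ∧ ∀ r : ↥(pullback (r1 ≫ pZ) π), qb pZ r1 π r ∉ A → φb pZ pZ r1 r2 hr π r ∉ A

theorem isAffineOpen_preimage {X Y : Scheme.{u}} (j : X ⟶ Y) [IsOpenImmersion j] (A O : Y.Opens)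
    (hO : j.opensRange = O) (h : IsAffineOpen (O ⊓ A)) : IsAffineOpen (j ⁻¹ᵁ A) := by
  rw [← Scheme.Hom.isAffineOpen_iff_of_isOpenImmersion j, Scheme.Hom.image_preimage_eq_opensRange_inf, hO]
  exact h

theorem opensRange_of_isPullback {P X Y T : Scheme.{u}} {a : P ⟶ X} {b : P ⟶ Y} {f : X ⟶ T} {g : Y ⟶ T}
    (sq : IsPullback a b f g) [IsOpenImmersion g] [IsOpenImmersion a] : a.opensRange = f ⁻¹ᵁ g.opensRange := by
  ext x
  constructor
  · rintro ⟨p, rfl⟩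
    change f (a p) ∈ g.opensRange
    rw [← Scheme.Hom.comp_apply, sq.w, Scheme.Hom.comp_apply]
    exact ⟨_, rfl⟩
  · rintro ⟨y, hy⟩
    obtain ⟨p, hp, -⟩ := Scheme.exists_preimage_of_isPullback sq x y hy.symm
    exact ⟨p, hp⟩

theorem exists_final (pZ : Z ⟶ B) [IsProper pZ] (r1 r2 : R ⟶ Z) (hr : r1 ≫ pZ = r2 ≫ pZ) (π : B' ⟶ B)
    (b' : B') (t : B) (hn : Hens2.IsEtaleNbhd π b' t) (G1 G2 : Set Z) (h1 : PrpS pZ r1 r2 hr G1 π b')
    (h2 : PrpS pZ r1 r2 hr G2 π b') (hd : ∀ y, ¬ (y ∈ G1 ∧ y ∈ G2))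
    (hdim : topologicalKrullDim (pZ.fiber t) ≤ 1)
    (hC : ∀ C ∈ Curves (pZ.fiber t), (∃ y ∈ C, pZ.fiberι t y ∈ G1) ∧ (∃ y ∈ C, pZ.fiberι t y ∈ G2) ∧
        (∃ y ∈ C, pZ.fiberι t y ∉ G1) ∧ (∃ y ∈ C, pZ.fiberι t y ∉ G2)) :
    ∃ (B'' : Scheme.{u}) (π' : B'' ⟶ B) (b'' : B''), IsAffine B'' ∧ Etale π' ∧ π' b'' = t ∧
      ∃ A1 A2 : (pullback pZ π').Opens, Dat pZ r1 r2 hr π' A1 ∧ Dat pZ r1 r2 hr π' A2 ∧ ∀ z, z ∈ A1 ∨ z ∈ A2 := by
  -- reduction to `B'` affine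
  obtain ⟨O, hO, hbO, -⟩ := exists_isAffineOpen_mem_and_subset (U := ⊤) (x := b') trivial
  let b1 : ↥(O : Scheme.{u}) := ⟨b', hbO⟩
  have hOa : IsAffine (O : Scheme.{u}) := hO
  have hn1 : Hens2.IsEtaleNbhd O.ι b1 b' := Groth.Agent.Grpsch.EtLoc.isEtaleNbhd_of_isOpenImmersion O.ι b1
  have hn2 := Groth.Agent.Grpsch.EtLoc.IsEtaleNbhd.comp hn1 hn
  obtain ⟨K1, hK1, hs1, hG1⟩ := h1.baseChange O.ι b1 rfl
  obtain ⟨K2, hK2, hs2, hG2⟩ := h2.baseChange O.ι b1 rfl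
  generalize hπ1 : O.ι ≫ π = π1 at *
  obtain ⟨V1, hbV1, hV1⟩ := exists_nhd pZ π1 b1 t hn2 hK1 G1 hG1 hdim fun C hCC =>
    ⟨(hC C hCC).1, (hC C hCC).2.2.1⟩
  obtain ⟨V2, hbV2, hV2⟩ := exists_nhd pZ π1 b1 t hn2 hK2 G2 hG2 hdim fun C hCC =>
    ⟨(hC C hCC).2.1, (hC C hCC).2.2.2⟩
  let A : Set ↥(pullback pZ π1) := {z | z ∈ K1.support ∧ z ∈ K2.support}
  have hA : IsClosed A := K1.support.isClosed.inter K2.support.isClosed
  let V3 : Scheme.Opens (O : Scheme.{u}) := ⟨(pullback.snd pZ π1 '' A)ᶜ,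
    ((pullback.snd pZ π1).isClosedMap _ hA).isOpen_compl⟩
  have hbV3 : b1 ∈ V3 := by
    rintro ⟨z, ⟨hz1, hz2⟩, hz⟩
    exact hd _ ⟨(hG1 z hz).1 hz1, (hG2 z hz).1 hz2⟩
  obtain ⟨W, hWa, hbW, hW⟩ := exists_isAffineOpen_mem_and_subset (U := V1 ⊓ V2 ⊓ V3) (x := b1)
    ⟨⟨hbV1, hbV2⟩, hbV3⟩
  have hWle : W ≤ V1 ⊓ V2 ⊓ V3 := hW
  have hWaff : IsAffine (W : Scheme.{u}) := hWa
  have hWι : W.ι.opensRange = W := W.opensRange_ι
  have het : Etale π1 := hn2.etale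
  have hoi : IsOpenImmersion (tr π1 W.ι pZ) :=
    MorphismProperty.of_isPullback (isPullback_tr π1 W.ι pZ).flip (inferInstance : IsOpenImmersion W.ι)
  have hran : (tr π1 W.ι pZ).opensRange = pullback.snd pZ π1 ⁻¹ᵁ W := by
    rw [opensRange_of_isPullback (isPullback_tr π1 W.ι pZ), hWι]
  refine ⟨W, W.ι ≫ π1, ⟨b1, hbW⟩, hWaff, inferInstance, hn2.base_eq,
    tr π1 W.ι pZ ⁻¹ᵁ K1.support.compl, tr π1 W.ι pZ ⁻¹ᵁ K2.support.compl, ⟨?_, fun r hrK hr' => hrK ?_⟩,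
    ⟨?_, fun r hrK hr' => hrK ?_⟩, fun z => ?_⟩
  · exact isAffineOpen_preimage _ _ _ hran (hV1 W (hWle.trans (inf_le_left.trans inf_le_left)) hWa)
  · intro hrK'
    refine hr' ?_
    rw [← Scheme.Hom.comp_apply, ← tr_φb, Scheme.Hom.comp_apply]
    apply hs1
    rw [← Scheme.Hom.comp_apply, ← tr_qb, Scheme.Hom.comp_apply] at hrK'
    exact hrK'
  · exact isAffineOpen_preimage _ _ _ hran (hV2 W (hWle.trans (inf_le_left.trans inf_le_right)) hWa)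
  · intro hrK'
    refine hr' ?_
    rw [← Scheme.Hom.comp_apply, ← tr_φb, Scheme.Hom.comp_apply]
    apply hs2
    rw [← Scheme.Hom.comp_apply, ← tr_qb, Scheme.Hom.comp_apply] at hrK'
    exact hrK'
  · by_contra hcon
    rw [not_or] at hcon
    have h3 : tr π1 W.ι pZ z ∈ A := ⟨not_not.1 hcon.1, not_not.1 hcon.2⟩
    have h4 : pullback.snd pZ π1 (tr π1 W.ι pZ z) ∈ W := by
      have : tr π1 W.ι pZ z ∈ (tr π1 W.ι pZ).opensRange := ⟨z, rfl⟩
      rw [hran] at this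
      exact this
    exact (hWle h4).2 ⟨_, h3, rfl⟩

end K899.DivEt
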