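import Groth.Agent.CurvSt.K899.DivAmple
import Groth.Agent.ModPair.K971.MProd
import Groth.Agent.AlgSp.K647.CartDesc
import Groth.Agent.Fga.FibFlat
import Groth.Agent.S10830

/-!
# The complement of a locally principal closed subscheme meeting every curve of a fibre

The divisor of `K899.DivAmple.exists_nhd` is only assumed to be locally principal.
-/

set_option autoImplicit false
universe u
open CategoryTheory CategoryTheory.Limits AlgebraicGeometry TopologicalSpace

namespace K899.DivLoc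

open K971.Basic ModPair

variable {X Y Z T U D : Scheme.{u}}

theorem isPullback_fiberMap (f : X ⟶ Y) (g : Y ⟶ Z) (s : Z) :
    IsPullback ((f ≫ g).fiberι s) (MoreMor.fiberMap f g s) f (g.fiberι s) := by
  have h1 := Groth.Agent.Fga.FibFlat.isPullback_fiber (f ≫ g) s
  have h2 := Groth.Agent.Fga.FibFlat.isPullback_fiber g s
  rw [← Groth.Agent.Fga.FibFlat.fiberMap_toSpec f g s] at h1
  exact IsPullback.of_bot h1 (Groth.Agent.Fga.FibFlat.fiberMap_fiberι f g s).symm h2

theorem isAffineOpen_of_image {Z : Scheme.{u}} (N A : Z.Opens) [QuasiCompact N.ι] (hA : A ≤ N)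
    (h : IsAffineOpen (N.ι.imageι ⁻¹ᵁ A)) : IsAffineOpen A := by
  have h1 : N.ι ''ᵁ (N.ι ⁻¹ᵁ A) = A := by
    rw [Scheme.Hom.image_preimage_eq_opensRange_inf, Scheme.Opens.opensRange_ι]
    exact inf_eq_right.2 hA
  have h2 : N.ι.toImage ''ᵁ (N.ι ⁻¹ᵁ A) = N.ι.imageι ⁻¹ᵁ A := by
    ext z
    constructor
    · rintro ⟨n, hn, rfl⟩
      change N.ι.imageι (N.ι.toImage n) ∈ A
      rw [← Scheme.Hom.comp_apply, Scheme.Hom.toImage_imageι]
      exact hn
    · intro hz
      have h3 : z ∈ (N.ι.imageι ⁻¹ᵁ N : Set _) := hA hz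
      rw [← K971.MProd.imageι_preimage_eq_opensRange] at h3
      obtain ⟨n, rfl⟩ := h3
      refine ⟨n, ?_, rfl⟩
      have h4 : N.ι.imageι (N.ι.toImage n) ∈ A := hz
      rw [← Scheme.Hom.comp_apply, Scheme.Hom.toImage_imageι] at h4
      exact h4
  rw [← h1]
  rw [← h2] at h
  rw [Scheme.Hom.isAffineOpen_iff_of_isOpenImmersion] at h ⊢
  exact h

/-- The complement of a locally principal closed subscheme, which is finite over the point `t` and meets every curve of
the fibre over `t`, is affine near the fibre. -/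
theorem exists_nhd [IsAffine T] (f : Z ⟶ T) [IsProper f] {K : Z.IdealSheafData} (hK : LocPrin K) (t : T)
    (hdim : topologicalKrullDim (f.fiber t) ≤ 1)
    (h : ∀ C : Set (f.fiber t), IsClosed C → IsIrreducible C → topologicalKrullDim C = 1 →
      (∃ y ∈ C, f.fiberι t y ∉ K.support) ∧ ∃ y ∈ C, f.fiberι t y ∈ K.support) :
    ∃ V : T.Opens, t ∈ V ∧ ∀ W : T.Opens, W ≤ V → IsAffineOpen W →
      IsAffineOpen (f ⁻¹ᵁ W ⊓ K.support.compl) := by
  have hq : QuasiCompact (interior K).ι := quasiCompact_interior_ι hK.isFT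
  let i := (interior K).ι.imageι
  have hD : BlowUp.IsEffCartierIdeal (K.comap i) := isEff_comap_imageι hK le_rfl
  let g : (i ≫ f).fiber t ⟶ f.fiber t := MoreMor.fiberMap i f t
  have hsq : IsPullback ((i ≫ f).fiberι t) g i (f.fiberι t) := isPullback_fiberMap i f t
  have hg : IsClosedImmersion g := MorphismProperty.of_isPullback hsq (inferInstance : IsClosedImmersion i)
  have hgι (y) : i ((i ≫ f).fiberι t y) = f.fiberι t (g y) := by
    rw [← Scheme.Hom.comp_apply, hsq.w, Scheme.Hom.comp_apply]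
  have hge : Topology.IsClosedEmbedding g := g.isClosedEmbedding
  obtain ⟨V, hV, hW⟩ := DivAmple.exists_nhd (i ≫ f) hD t ((hge.isInducing.topologicalKrullDim_le).trans hdim) (by
    intro C hC hC1
    have h1 : IsClosed (g '' C) := hge.isClosedMap _ (isClosed_of_mem_irreducibleComponents C hC)
    have h2 : IsIrreducible (g '' C) := hC.1.image g g.continuous.continuousOn
    have h3 : topologicalKrullDim (g '' C) = 1 := by
      rw [← hC1]
      exact ((hge.toIsEmbedding.homeomorphImage C).isHomeomorph.topologicalKrullDim_eq).symm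
    obtain ⟨⟨_, ⟨y, hy, rfl⟩, hyK⟩, _, ⟨z, hz, rfl⟩, hzK⟩ := h _ h1 h2 h3
    refine ⟨⟨y, hy, ?_⟩, z, hz, ?_⟩
    · rw [Scheme.IdealSheafData.support_comap]
      change i ((i ≫ f).fiberι t y) ∉ K.support
      rwa [hgι]
    · rw [Scheme.IdealSheafData.support_comap]
      change i ((i ≫ f).fiberι t z) ∈ K.support
      rwa [hgι])
  refine ⟨V, hV, fun W hWV hWa => ?_⟩
  have h5 := (hW W hWV hWa).1
  refine isAffineOpen_of_image (interior K) _ inf_le_right ?_
  have h6 : (i ≫ f) ⁻¹ᵁ W ⊓ (K.comap i).support.compl = i ⁻¹ᵁ (f ⁻¹ᵁ W ⊓ K.support.compl) := by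
    ext z
    change (i ≫ f) z ∈ W ∧ z ∉ (K.comap i).support ↔ f (i z) ∈ W ∧ i z ∉ K.support
    rw [Scheme.IdealSheafData.support_comap]
    rfl
  rw [← h6]
  exact h5

end K899.DivLoc
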