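import Groth.Agent.ModPair.K971.Basic
import Groth.Agent.AlgSp.K647.CartDesc
import Mathlib.AlgebraicGeometry.Morphisms.FlatMono
import Mathlib.AlgebraicGeometry.Morphisms.Etale

/-!
# Etale locally principal closed subschemes

If `D ⟶ U` is a locally principal closed immersion, `U ⟶ Z` is etale and `D ⟶ Z` is a closed immersion, then the
ideal of `D` in `Z` is locally principal.
-/

set_option autoImplicit false
universe u
open CategoryTheory CategoryTheory.Limits AlgebraicGeometry TopologicalSpace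

namespace K899.LocPrinDesc

open K971.Basic

variable {X Y Z T U D : Scheme.{u}}

theorem isOpenImmersion_of_section {W T : Scheme.{u}} (h : W ⟶ T) [Etale h] (σ : T ⟶ W) (hσ : σ ≫ h = 𝟙 T) :
    IsOpenImmersion σ := by
  have h1 : Etale (σ ≫ h) := by rw [hσ]; infer_instance
  have h2 : Etale σ := Etale.of_comp σ h
  have h3 : Mono σ := mono_of_mono_fac hσ
  exact IsOpenImmersion.of_flat_of_mono σ

/-- For `s : D ⟶ P` an open immersion and `j : P ⟶ U` quasi-compact, the kernels of `j` and `s ≫ j` agree on an affine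
open whose preimage in `P` lies in the range of `s`. -/
theorem ker_ideal_eq {P : Scheme.{u}} (s : D ⟶ P) [IsOpenImmersion s] (j : P ⟶ U) [QuasiCompact j]
    [QuasiCompact (s ≫ j)] (V : U.affineOpens) (hV : ∀ p : P, j p ∈ V.1 → p ∈ Set.range s) :
    j.ker.ideal V = (s ≫ j).ker.ideal V := by
  have key : RingHom.ker ((s ≫ j).app V.1).hom =
      (RingHom.ker (s.app (j ⁻¹ᵁ V.1)).hom).comap (j.app V.1).hom := by
    ext a
    rw [RingHom.mem_ker, Ideal.mem_comap, RingHom.mem_ker, Scheme.Hom.comp_app]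
    rfl
  rw [Scheme.Hom.ker_apply, Scheme.Hom.ker_apply, key]
  have h1 : IsIso (s.app (j ⁻¹ᵁ V.1)) := by
    refine s.isIso_app _ ?_
    intro p hp
    exact hV p hp
  have h2 : RingHom.ker (s.app (j ⁻¹ᵁ V.1)).hom = ⊥ :=
    (RingHom.injective_iff_ker_eq_bot _).1 (ConcreteCategory.bijective_of_isIso (s.app (j ⁻¹ᵁ V.1))).1
  rw [h2]
  rfl

/-- Locally principal closed subschemes of an etale chart which are closed in the target are locally principal there. -/
theorem locPrin_of_etale (φ : U ⟶ Z) [Etale φ] (ψ : D ⟶ U) [IsClosedImmersion ψ] (hψ : LocPrin ψ.ker)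
    [IsClosedImmersion (ψ ≫ φ)] : LocPrin (ψ ≫ φ).ker := by
  intro x
  by_cases hx : x ∈ (ψ ≫ φ).ker.support
  · obtain ⟨d, rfl⟩ : x ∈ Set.range (ψ ≫ φ) := by
      have h1 : x ∈ ((ψ ≫ φ).ker.support : Set Z) := hx
      rw [Scheme.Hom.support_ker, (ψ ≫ φ).isClosedEmbedding.isClosed_range.closure_eq] at h1
      exact h1
    -- the pullback
    let p := pullback.fst φ (ψ ≫ φ)
    let q := pullback.snd φ (ψ ≫ φ)
    let s : D ⟶ pullback φ (ψ ≫ φ) := pullback.lift ψ (𝟙 D) (by simp)
    have hsp : s ≫ p = ψ := pullback.lift_fst _ _ _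
    have hsq : s ≫ q = 𝟙 D := pullback.lift_snd _ _ _
    have hs : IsOpenImmersion s := isOpenImmersion_of_section q s hsq
    have hp : IsClosedImmersion p := inferInstanceAs (IsClosedImmersion (pullback.fst φ (ψ ≫ φ)))
    have hqc : QuasiCompact (s ≫ p) := by rw [hsp]; infer_instance
    have hcl : IsClosed (p '' (Set.range s)ᶜ) :=
      p.isClosedEmbedding.isClosedMap _ (s.isOpenEmbedding.isOpen_range.isClosed_compl)
    have hud : ψ d ∈ (⟨(p '' (Set.range s)ᶜ)ᶜ, hcl.isOpen_compl⟩ : U.Opens) := by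
      rintro ⟨z, hz, hzd⟩
      refine hz ⟨d, p.isClosedEmbedding.injective ?_⟩
      rw [hzd, ← Scheme.Hom.comp_apply, hsp]
    obtain ⟨V, huV, hVW, b, hb⟩ := hψ.exists_le (ψ d) _ hud
    have hV : ∀ z, p z ∈ V.1 → z ∈ Set.range s := by
      intro z hz
      by_contra hcon
      exact hVW hz ⟨z, hcon, rfl⟩
    have h1 : ((ψ ≫ φ).ker.comap φ).ideal V = Ideal.span {b} := by
      rw [← Scheme.IdealSheafData.ker_fst_of_isClosedImmersion (ψ ≫ φ) φ, ← hb]
      have h2 := ker_ideal_eq s p V hV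
      rw [hsp] at h2
      exact h2
    obtain ⟨U', hU', a, ha, -⟩ := K647.CartDesc.exists_affine_gen φ φ.isOpenMap (ψ ≫ φ).ker (ψ d) V huV b h1
    refine ⟨U', ?_, a, ha⟩
    rw [Scheme.Hom.comp_apply]
    exact hU'
  · obtain ⟨V, hxV, hV⟩ := K647.CartDesc.exists_affine_top hx
    exact ⟨V, hxV, 1, by rw [hV, Ideal.span_singleton_one]⟩

end K899.LocPrinDesc
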