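import Groth.Agent.CurvSt.K899.LocPrinDesc
import Groth.Agent.Grpsch.DimOneAff
import Mathlib.AlgebraicGeometry.Morphisms.QuasiFinite
import Mathlib.AlgebraicGeometry.Fiber

/-!
# A principal closed subscheme which is quasi-finite over the base at a given closed point of a curve
-/

set_option autoImplicit false
universe u
open CategoryTheory CategoryTheory.Limits AlgebraicGeometry TopologicalSpace

namespace K899.QFDiv

open K971.Basic

section top

variable {X : Type*} [TopologicalSpace X]

theorem two_le (a b c : IrreducibleCloseds X) (hab : a < b) (hbc : b < c) : 2 ≤ topologicalKrullDim X := by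
  have := (Order.le_krullDim_iff (α := IrreducibleCloseds X) (n := 2)).2
    ⟨⟨2, ![a, b, c], by
      intro i
      fin_cases i
      · exact hab
      · exact hbc⟩, rfl⟩
  exact_mod_cast this

theorem eq_of_subset (hdim : topologicalKrullDim X ≤ 1) {x : X} (hx : IsClosed ({x} : Set X)) {C C' : Set X}
    (hC : IsClosed C) (hCi : IsIrreducible C) (hC' : IsClosed C') (hCi' : IsIrreducible C') (hxC : x ∈ C)
    (hne : C ≠ {x}) (h : C ⊆ C') : C = C' := by
  by_contra hcon
  let A : IrreducibleCloseds X := ⟨{x}, isIrreducible_singleton, hx⟩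
  let E : IrreducibleCloseds X := ⟨C, hCi, hC⟩
  let E' : IrreducibleCloseds X := ⟨C', hCi', hC'⟩
  have h1 : A < E := lt_of_le_of_ne (Set.singleton_subset_iff.2 hxC)
    (fun e => hne (congrArg (fun s : IrreducibleCloseds X => (s : Set X)) e).symm)
  have h2 : E < E' := lt_of_le_of_ne h (fun e => hcon (congrArg (fun s : IrreducibleCloseds X => (s : Set X)) e))
  exact absurd ((two_le A E E' h1 h2).trans hdim) (by decide)

/-- In a one-dimensional Noetherian space a closed point `x` of a closed subset `V` is isolated in `V` if `V` contains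
no positive-dimensional irreducible component of `X` through `x`. -/
theorem exists_open [NoetherianSpace X] (hdim : topologicalKrullDim X ≤ 1) {x : X} (hx : IsClosed ({x} : Set X))
    {V : Set X} (hV : IsClosed V) (hxV : x ∈ V)
    (h : ∀ C ∈ irreducibleComponents X, x ∈ C → C ≠ {x} → ¬ C ⊆ V) :
    ∃ O : Set X, IsOpen O ∧ x ∈ O ∧ O ∩ V = {x} := by
  let A : Set (Set X) := {E | (∃ C ∈ irreducibleComponents V, E = (↑) '' C) ∧ x ∉ E}
  have hA : A.Finite := by
    refine Set.Finite.subset ((NoetherianSpace.finite_irreducibleComponents (α := V)).image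
      (fun C => ((↑) '' C : Set X))) ?_
    rintro E ⟨⟨C, hC, rfl⟩, -⟩
    exact ⟨C, hC, rfl⟩
  have hcl : ∀ C ∈ irreducibleComponents V, IsClosed ((↑) '' C : Set X) := fun C hC =>
    hV.isClosedEmbedding_subtypeVal.isClosedMap _ (isClosed_of_mem_irreducibleComponents C hC)
  have hAc : IsClosed (⋃₀ A) := by
    rw [Set.sUnion_eq_biUnion]
    refine hA.isClosed_biUnion ?_
    rintro E ⟨⟨C, hC, rfl⟩, -⟩
    exact hcl C hC
  refine ⟨(⋃₀ A)ᶜ, hAc.isOpen_compl, ?_, ?_⟩
  · rintro ⟨E, ⟨-, hE⟩, hxE⟩
    exact hE hxE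
  · apply Set.Subset.antisymm
    · rintro y ⟨hyO, hyV⟩
      let y' : V := ⟨y, hyV⟩
      have hy1 : irreducibleComponent y' ∈ irreducibleComponents V := irreducibleComponent_mem_irreducibleComponents y'
      have hy2 : y' ∈ irreducibleComponent y' := mem_irreducibleComponent
      let E : Set X := (↑) '' irreducibleComponent y'
      have hyE : y ∈ E := ⟨y', hy2, rfl⟩
      have hxE : x ∈ E := by
        by_contra hcon
        exact hyO ⟨E, ⟨⟨_, hy1, rfl⟩, hcon⟩, hyE⟩
      have hEi : IsIrreducible E := hy1.1.image _ continuous_subtype_val.continuousOn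
      by_contra hyx
      have hEx : E ≠ {x} := by
        intro hEx
        rw [hEx] at hyE
        exact hyx hyE
      obtain ⟨C', hC', hEC'⟩ := exists_preirreducible E hEi.isPreirreducible
      obtain ⟨hE', hmax⟩ := hEC'
      have hC'i : IsIrreducible C' := ⟨⟨x, hE' hxE⟩, hC'⟩
      have hC'c : C' ∈ irreducibleComponents X := by
        refine ⟨hC'i, fun t ht hC't => ?_⟩
        exact (hmax t ht.isPreirreducible hC't).le
      have hEC : E = C' := eq_of_subset hdim hx (hcl _ hy1) hEi (isClosed_of_mem_irreducibleComponents C' hC'c) hC'i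
        hxE hEx hE'
      refine h C' hC'c (hE' hxE) (hEC ▸ hEx) ?_
      rw [← hEC]
      rintro _ ⟨z, -, rfl⟩
      exact z.2
    · rintro y rfl
      refine ⟨?_, hxV⟩
      rintro ⟨E, ⟨-, hE⟩, hxE⟩
      exact hE hxE

end top

theorem quasiFiniteAt_of_isolated {X Y : Scheme.{u}} (f : X ⟶ Y) [LocallyOfFiniteType f] (x : X) (O : Set X)
    (hO : IsOpen O) (hx : x ∈ O) (h : ∀ y ∈ O, f y = f x → y = x) : f.QuasiFiniteAt x := by
  rw [Scheme.Hom.quasiFiniteAt_iff_isOpen_singleton_asFiber]
  convert hO.preimage (f.fiberι (f x)).continuous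
  ext y
  constructor
  · rintro rfl
    change f.fiberι (f x) (f.asFiber x) ∈ O
    rwa [f.fiberι_asFiber]
  · intro hy
    refine (f.fiberι (f x)).isEmbedding.injective ?_
    rw [f.fiberι_asFiber]
    refine h _ hy ?_
    have h1 : f.fiberι (f x) y ∈ f ⁻¹' {f x} := by rw [← f.range_fiberι]; exact ⟨y, rfl⟩
    exact h1

/-- A principal closed subscheme of an affine chart through the closed point `u` of the fibre, quasi-finite over the base
at `u`. -/
theorem exists_divisor {U B : Scheme.{u}} [IsAffine U] [IsAffine B] (p : U ⟶ B) [LocallyOfFiniteType p] (u : U)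
    (hcl : IsClosed ({p.asFiber u} : Set (p.fiber (p u)))) (hdim : topologicalKrullDim (p.fiber (p u)) ≤ 1) :
    ∃ (D : Scheme.{u}) (i : D ⟶ U) (_ : IsClosedImmersion i) (v : D), LocPrin i.ker ∧ i v = u ∧
      (i ≫ p).QuasiFiniteAt v := by
  classical
  let F := p.fiber (p u)
  let ι := p.fiberι (p u)
  let x : F := p.asFiber u
  have hιx : ι x = u := p.fiberι_asFiber u
  have hemb : Topology.IsEmbedding ι := (p.fiberι (p u)).isEmbedding
  have : IsAffine F := inferInstanceAs (IsAffine (pullback p _))
  have : LocallyOfFiniteType (p.fiberToSpecResidueField (p u)) :=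
    inferInstanceAs (LocallyOfFiniteType (pullback.snd p _))
  have : IsLocallyNoetherian F := LocallyOfFiniteType.isLocallyNoetherian (p.fiberToSpecResidueField (p u))
  have : IsNoetherian F := {}
  -- generic points of the components through `x`
  let G : Set U := {y | ∃ z : F, ι z = y ∧ closure {z} ∈ irreducibleComponents F ∧ x ∈ closure ({z} : Set F) ∧
    closure ({z} : Set F) ≠ {x}}
  have hG : G.Finite := by
    have h1 : {z : F | closure {z} ∈ irreducibleComponents F}.Finite := by
      refine Set.Finite.preimage (f := fun z : F => closure ({z} : Set F)) ?_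
        NoetherianSpace.finite_irreducibleComponents
      intro a _ b _ hab
      exact (specializes_iff_closure_subset.2 (le_of_eq hab.symm)).antisymm
        (specializes_iff_closure_subset.2 (le_of_eq hab)) |>.eq
    refine Set.Finite.subset (h1.image ι) ?_
    rintro _ ⟨z, rfl, hz, -⟩
    exact ⟨z, hz, rfl⟩
  obtain ⟨g, hg1, hg2⟩ := Groth.Agent.Grpsch.DimOneAff.exists_avoid (isAffineOpen_top U) (closure {u}) isClosed_closure
    G hG (fun _ _ => trivial) (by
      rintro _ ⟨z, rfl, -, hz2, hz3⟩ hcon
      have hcon' : ι x ⤳ ι z := by rw [hιx]; exact specializes_iff_mem_closure.2 hcon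
      have h2 : z = x := (((hemb.isInducing.specializes_iff).1 hcon').antisymm
        (specializes_iff_mem_closure.2 hz2)).eq.symm
      rw [h2, hcl.closure_eq] at hz3
      exact hz3 rfl)
  have hgu : u ∉ U.basicOpen g := fun h => hg2 u h (subset_closure rfl)
  let K := Scheme.IdealSheafData.ofIdealTop (Ideal.span {g})
  have hK : LocPrin K := by
    intro y
    refine ⟨⟨⊤, isAffineOpen_top U⟩, trivial, g, ?_⟩
    simp only [K, Scheme.IdealSheafData.ofIdealTop_ideal]
    have h3 : (U.presheaf.map (homOfLE (le_top : (⊤ : U.Opens) ≤ ⊤)).op).hom = RingHom.id _ := by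
      rw [show (homOfLE (le_top : (⊤ : U.Opens) ≤ ⊤)).op = 𝟙 _ from rfl, CategoryTheory.Functor.map_id]
      rfl
    rw [h3, Ideal.map_id]
  have hsupp : (K.support : Set U) = (U.basicOpen g : Set U)ᶜ := by
    simp only [K, Scheme.IdealSheafData.coe_support_ofIdealTop]
    rw [Scheme.zeroLocus_span, Scheme.zeroLocus_singleton]
  have hrange : Set.range K.subschemeι = (U.basicOpen g : Set U)ᶜ := by
    rw [Scheme.IdealSheafData.range_subschemeι, hsupp]
  obtain ⟨v, hv⟩ : u ∈ Set.range K.subschemeι := by rw [hrange]; exact hgu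
  refine ⟨K.subscheme, K.subschemeι, inferInstance, v, ?_, hv, ?_⟩
  · rw [Scheme.IdealSheafData.ker_subschemeι]; exact hK
  · obtain ⟨O, hO, hxO, hOV⟩ := exists_open hdim hcl (V := ι ⁻¹' (U.basicOpen g : Set U)ᶜ)
      ((U.basicOpen g).isOpen.isClosed_compl.preimage ι.continuous)
      (show ι x ∈ (U.basicOpen g : Set U)ᶜ by rw [hιx]; exact hgu) (by
        intro C hC hxC hCx hCV
        obtain ⟨z, hz⟩ := QuasiSober.sober hC.1 (isClosed_of_mem_irreducibleComponents C hC)
        have hz' : closure {z} = C := hz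
        have h1 : ι z ∈ G := ⟨z, rfl, by rw [hz']; exact hC, by rw [hz']; exact hxC, by rw [hz']; exact hCx⟩
        have h2 : z ∈ C := by rw [← hz']; exact subset_closure rfl
        exact hCV h2 (hg1 h1))
    obtain ⟨O₁, hO₁, rfl⟩ := hemb.isInducing.isOpen_iff.1 hO
    refine quasiFiniteAt_of_isolated (K.subschemeι ≫ p) v (K.subschemeι ⁻¹' O₁)
      (hO₁.preimage K.subschemeι.continuous) ?_ ?_
    · change K.subschemeι v ∈ O₁
      rw [hv, ← hιx]
      exact hxO
    · intro d hd hdp
      rw [Scheme.Hom.comp_apply, Scheme.Hom.comp_apply, hv] at hdp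
      obtain ⟨z, hz⟩ : K.subschemeι d ∈ Set.range (p.fiberι (p u)) := by rw [p.range_fiberι]; exact hdp
      have h1 : z ∈ ι ⁻¹' O₁ ∩ ι ⁻¹' (U.basicOpen g : Set U)ᶜ := by
        refine ⟨?_, ?_⟩
        · change p.fiberι (p u) z ∈ O₁
          rw [hz]; exact hd
        · change p.fiberι (p u) z ∈ (U.basicOpen g : Set U)ᶜ
          rw [hz, ← hrange]
          exact ⟨d, rfl⟩
      rw [hOV] at h1
      refine K.subschemeι.isEmbedding.injective ?_
      rw [← hz, h1, hv]
      exact hιx

end K899.QFDiv
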