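import Groth.Agent.CurvSt.K899.SpTwo
import Groth.Agent.CurvSt.K899.DivEt
import Groth.Agent.CurvSt.K899.FinalSp
import Groth.Agent.AlgSp.K610.Coeq
import Groth.Agent.AlgSp.K597.ProperSub

/-!
# A proper algebraic space of relative dimension at most one is a scheme etale locally on the base

`K899.SchEt.main`: modulo Chevalley's theorem (S10043) and a finite surjection from a scheme (S10048).
-/

set_option autoImplicit false
universe u
open CategoryTheory CategoryTheory.Limits AlgebraicGeometry TopologicalSpace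

namespace K899.SchEt

open AlgSp K610.Base DivCore DivSat DivEt

attribute [local instance] MorphismProperty.relative_isStableUnderBaseChange

variable {S : Scheme.{u}} {X : Space S} {B Z R : Over S}

theorem isProper_left {f : X.obj ⟶ (yon S).obj B} (hf : IsProperMor f) {z : (yon S).obj Z ⟶ X.obj}
    (hz : RepWith @IsFinite z) {pZ : Z ⟶ B} (hZ : z ≫ f = (yon S).map pZ) : IsProper pZ.left := by
  have h1 : IsProperMor z := (K597.Proper.isProperMor_iff_repWith X.2 hz.1).2
    (repWith_mono (fun _ _ f (hf : IsFinite f) => (inferInstance : IsProper f)) hz)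
  have h2 : IsProperMor (z ≫ f) :=
    K597.ProperSub.isProperMor_comp (IsAlgSpace.yon_obj _) X.2 (IsAlgSpace.yon_obj _) h1 hf
  rw [hZ] at h2
  exact (repWith_yon_map_iff _ _).1 ((K597.Proper.isProperMor_iff_repWith (IsAlgSpace.yon_obj _)
    (representable_yon_map pZ)).1 h2)

/-- saturation -/
theorem sat_of_dat {z : (yon S).obj Z ⟶ X.obj} {pZ : Z ⟶ B}
    {r1 r2 : R ⟶ Z} (sqR : IsPullback ((yon S).map r1) ((yon S).map r2) z z)
    (hr' : r1.left ≫ pZ.left = r2.left ≫ pZ.left)
    {X1 : Sp S} {B1 Z1 : Over S} {g : X1 ⟶ X.obj} {f1 : X1 ⟶ (yon S).obj B1} {z1 : (yon S).obj Z1 ⟶ X1}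
    {gZ : Z1 ⟶ Z} {p1 : Z1 ⟶ B1} {π1 : B1 ⟶ B} (h1 : z1 ≫ g = (yon S).map gZ ≫ z) (h2 : z1 ≫ f1 = (yon S).map p1)
    (hleft : IsPullback gZ.left p1.left pZ.left π1.left)
    (A : (pullback pZ.left π1.left).Opens)
    (hA : ∀ r : ↥(pullback (r1.left ≫ pZ.left) π1.left),
      qb pZ.left r1.left π1.left r ∉ A → φb pZ.left pZ.left r1.left r2.left hr' π1.left r ∉ A)
    (y y' : Z1.left) (hy : Points.ofPt z1 y = Points.ofPt z1 y')
    (hyA : pullback.lift gZ.left p1.left hleft.w y ∈ A) : pullback.lift gZ.left p1.left hleft.w y' ∈ A := by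
  by_contra hcon
  obtain ⟨T, w, a, b, rfl, rfl, hab⟩ := (ofPt_eq_ofPt_iff z1 z1 y' y).1 hy.symm
  obtain ⟨ρ, hρ⟩ := (yon S).map_surjective (sqR.lift ((yon S).map (a ≫ gZ)) ((yon S).map (b ≫ gZ)) (by
    rw [Functor.map_comp, Functor.map_comp, Category.assoc, Category.assoc, ← h1, reassoc_of% hab]))
  have hρ1 : ρ ≫ r1 = a ≫ gZ := by
    apply (yon S).map_injective
    rw [Functor.map_comp, hρ, sqR.lift_fst]
  have hρ2 : ρ ≫ r2 = b ≫ gZ := by
    apply (yon S).map_injective
    rw [Functor.map_comp, hρ, sqR.lift_snd]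
  have hab' : a ≫ p1 = b ≫ p1 := by
    apply (yon S).map_injective
    rw [Functor.map_comp, Functor.map_comp, ← h2, reassoc_of% hab]
  have hρ1' : ρ.left ≫ r1.left = a.left ≫ gZ.left := congrArg CommaMorphism.left hρ1
  have hρ2' : ρ.left ≫ r2.left = b.left ≫ gZ.left := congrArg CommaMorphism.left hρ2
  have hab'' : a.left ≫ p1.left = b.left ≫ p1.left := congrArg CommaMorphism.left hab'
  let Ψ : T.left ⟶ pullback (r1.left ≫ pZ.left) π1.left := pullback.lift ρ.left (a.left ≫ p1.left) (by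
    rw [reassoc_of% hρ1', Category.assoc, hleft.w])
  have hΨ1 : Ψ ≫ qb pZ.left r1.left π1.left = a.left ≫ pullback.lift gZ.left p1.left hleft.w := by
    apply pullback.hom_ext
    · rw [Category.assoc, Category.assoc, qb_fst, pullback.lift_fst, ← Category.assoc, pullback.lift_fst, hρ1']
    · rw [Category.assoc, Category.assoc, qb_snd, pullback.lift_snd, pullback.lift_snd]
  have hΨ2 : Ψ ≫ φb pZ.left pZ.left r1.left r2.left hr' π1.left = b.left ≫ pullback.lift gZ.left p1.left hleft.w := by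
    apply pullback.hom_ext
    · rw [Category.assoc, Category.assoc, φb_fst, pullback.lift_fst, ← Category.assoc, pullback.lift_fst, hρ2']
    · rw [Category.assoc, Category.assoc, φb_snd, pullback.lift_snd, pullback.lift_snd, hab'']
  refine hA (Ψ w) ?_ ?_
  · rw [← Scheme.Hom.comp_apply, hΨ1, Scheme.Hom.comp_apply]
    exact hcon
  · rw [← Scheme.Hom.comp_apply, hΨ2, Scheme.Hom.comp_apply]
    exact hyA

/-- Let `X` be proper over the affine scheme `B`, with fibre of dimension at most one over `t`, and let `z : Z ⟶ X` be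
finite and surjective with `Z` a scheme. Then `X` becomes a scheme over an etale neighbourhood of `t`. -/
theorem main (hCh : FinalSp.Chevalley S) [IsAffine B.left] {f : X.obj ⟶ (yon S).obj B} (hf : IsProperMor f)
    {z : (yon S).obj Z ⟶ X.obj} (hz : RepWith @IsFinite z) (hzs : IsSurjectiveMor z) (t : B.left)
    (hdim : ∀ x : Points X.obj, Points.map f x = Points.ofScheme B t →
      HasAtMor (fun _ _ h u => FlatMor.fibreDimAt h u ≤ 1) f x) :
    ∃ (B1 : Over S) (π : B1 ⟶ B) (b : B1.left), IsAffine B1.left ∧ Etale π.left ∧ π.left b = t ∧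
      (pullback f ((yon S).map π)).obj.IsRepresentable := by
  obtain ⟨pZ, hZ⟩ := (yon S).map_surjective (z ≫ f)
  have hprop : IsProper pZ.left := isProper_left hf hz hZ.symm
  obtain ⟨R, r1, r2, sqR⟩ := SpPt.exists_square z z hz.1
  have hr0 : r1 ≫ pZ = r2 ≫ pZ := by
    apply (yon S).map_injective
    rw [Functor.map_comp, Functor.map_comp, hZ, ← Category.assoc, ← Category.assoc, sqR.w]
  have hr' : r1.left ≫ pZ.left = r2.left ≫ pZ.left := congrArg CommaMorphism.left hr0
  obtain ⟨B', π, b', G1, G2, hn, hp1, hp2, hd, hC⟩ := SpTwo.exists_pair hf hz hZ.symm sqR.w hr' t hdim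
  have hdimF : topologicalKrullDim (pZ.left.fiber t) ≤ 1 :=
    ThinDim.fiber_dim_le_one _ _ (SpTwo.thin_fibre hf.2.1.1 hz hZ.symm t hdim)
  obtain ⟨B'', π', b'', hBa, hπ', hb'', A1, A2, ⟨hA1, hs1⟩, ⟨hA2, hs2⟩, hcov⟩ :=
    exists_final pZ.left r1.left r2.left hr' π b' t hn G1 G2 hp1 hp2 hd hdimF hC
  let B1 : Over S := Over.mk (π' ≫ B.hom)
  let π1 : B1 ⟶ B := Over.homMk π' rfl
  refine ⟨B1, π1, b'', hBa, hπ', hb'', ?_⟩
  let X1 : Space S := ⟨pullback f ((yon S).map π1),
    K613.Chart.isAlgSpace_pullback X.2 (IsAlgSpace.yon_obj _) (IsAlgSpace.yon_obj _) _ _⟩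
  let Z1 : Over S := Over.mk (pullback.fst pZ.left π' ≫ Z.hom)
  let gZ : Z1 ⟶ Z := Over.homMk (pullback.fst pZ.left π') rfl
  let p1 : Z1 ⟶ B1 := Over.homMk (pullback.snd pZ.left π') (by
    change pullback.snd pZ.left π' ≫ π' ≫ B.hom = pullback.fst pZ.left π' ≫ Z.hom
    rw [← pullback.condition_assoc, Over.w pZ])
  have hleft : IsPullback gZ.left p1.left pZ.left π1.left := IsPullback.of_hasPullback pZ.left π'
  have hsq : IsPullback ((yon S).map gZ) ((yon S).map p1) ((yon S).map pZ) ((yon S).map π1) :=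
    K610.Coeq.isPullback_yon hleft
  let z1 : (yon S).obj Z1 ⟶ X1.obj := pullback.lift ((yon S).map gZ ≫ z) ((yon S).map p1) (by
    rw [Category.assoc, ← hZ, hsq.w])
  have h1 : z1 ≫ pullback.fst f ((yon S).map π1) = (yon S).map gZ ≫ z := pullback.lift_fst _ _ _
  have h2 : z1 ≫ pullback.snd f ((yon S).map π1) = (yon S).map p1 := pullback.lift_snd _ _ _
  have hsq1 : IsPullback ((yon S).map gZ) z1 z (pullback.fst f ((yon S).map π1)) := by
    have h3 : IsPullback ((yon S).map gZ) (z1 ≫ pullback.snd f ((yon S).map π1)) (z ≫ f) ((yon S).map π1) := by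
      rw [h2, ← hZ]
      exact hsq
    exact IsPullback.of_bot h3 h1.symm (IsPullback.of_hasPullback _ _)
  have hz1 : RepWith @IsFinite z1 := MorphismProperty.of_isPullback (P := RepWith @IsFinite) hsq1 hz
  have hz1s : Function.Surjective (Points.ofPt z1) := by
    intro x
    obtain ⟨y, hy⟩ := hzs (Points.map (pullback.fst f ((yon S).map π1)) x)
    obtain ⟨w, -, hw⟩ := exists_of_isPullback hsq1 y x hy
    obtain ⟨v, rfl⟩ := (Points.schemeEquiv Z1).surjective w
    exact ⟨v, (Points.ofPt_eq_map_ofScheme z1 v).trans hw⟩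
  have hid : pullback.lift gZ.left p1.left hleft.w = 𝟙 (pullback pZ.left π') := by
    apply pullback.hom_ext
    · exact (pullback.lift_fst _ _ _).trans (Category.id_comp _).symm
    · exact (pullback.lift_snd _ _ _).trans (Category.id_comp _).symm
  have hsat1 := sat_of_dat sqR hr' h1 h2 hleft A1 hs1
  have hsat2 := sat_of_dat sqR hr' h1 h2 hleft A2 hs2
  rw [hid] at hsat1 hsat2
  exact FinalSp.isRepresentable (X := X1) hCh hz1 hz1s A1 A2 hA1 hA2 hsat1 hsat2 hcov

end K899.SchEt
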