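import Groth.Agent.CurvSt.K899.QFDiv
import Groth.Agent.LoccohB.FibreDim
import Groth.Agent.AlgSp.K610.ArtQuot

/-!
# One-dimensional fibres and chains of specialisations
-/

set_option autoImplicit false
universe u
open CategoryTheory CategoryTheory.Limits AlgebraicGeometry TopologicalSpace

namespace K899.ThinDim

section top

variable {X Y : Type*} [TopologicalSpace X] [TopologicalSpace Y]

/-- a subset without chains of specialisations of length two -/
def Thin (F : Set X) : Prop := ∀ x ∈ F, ∀ y ∈ F, ∀ z ∈ F, x ⤳ y → y ⤳ z → x = y ∨ y = z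

theorem dim_le_one_of_thin [T0Space X] [QuasiSober X] (h : Thin (Set.univ : Set X)) :
    topologicalKrullDim X ≤ 1 := by
  rw [topologicalKrullDim, Order.krullDim_le_one_iff]
  intro C
  by_contra hcon
  rw [not_or, not_isMin_iff, not_isMax_iff] at hcon
  obtain ⟨⟨A, hA⟩, E, hE⟩ := hcon
  have key : ∀ C : IrreducibleCloseds X, closure {C.2.genericPoint} = (C : Set X) := fun C => by
    rw [C.2.genericPoint_closure_eq]
    exact C.3.closure_eq
  have hmem : ∀ C : IrreducibleCloseds X, C.2.genericPoint ∈ (C : Set X) := fun C => by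
    rw [← key C]
    exact subset_closure rfl
  have h1 : C.2.genericPoint ⤳ A.2.genericPoint := by
    rw [specializes_iff_mem_closure, key C]
    exact hA.le (hmem A)
  have h2 : E.2.genericPoint ⤳ C.2.genericPoint := by
    rw [specializes_iff_mem_closure, key E]
    exact hE.le (hmem C)
  rcases h _ trivial _ trivial _ trivial h2 h1 with h3 | h3
  · refine hE.ne (SetLike.coe_injective ?_)
    rw [← key C, ← key E, h3]
  · refine hA.ne (SetLike.coe_injective ?_)
    rw [← key C, ← key A, h3]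

/-- the closure of a point as an irreducible closed set -/
def irr (x : X) : IrreducibleCloseds X := ⟨closure {x}, isIrreducible_singleton.closure, isClosed_closure⟩

theorem irr_lt [T0Space X] {x y : X} (h : x ⤳ y) (hne : x ≠ y) : irr y < irr x := by
  refine lt_of_le_of_ne (specializes_iff_closure_subset.1 h) fun e => hne ?_
  have e' : closure {y} = closure {x} := congrArg (fun s : IrreducibleCloseds X => (s : Set X)) e
  have h2 : y ⤳ x := by
    rw [specializes_iff_mem_closure, e']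
    exact subset_closure rfl
  exact (h.antisymm h2).eq

theorem thin_of_dim_le_one [T0Space X] (h : topologicalKrullDim X ≤ 1) : Thin (Set.univ : Set X) := by
  intro x _ y _ z _ h1 h2
  by_contra hcon
  rw [not_or] at hcon
  exact absurd ((QFDiv.two_le _ _ _ (irr_lt h2 hcon.2) (irr_lt h1 hcon.1)).trans h) (by decide)

theorem thin_preimage {f : X → Y} (hf : Topology.IsInducing f) (hi : Function.Injective f) {F : Set Y}
    (h : Thin F) : Thin (f ⁻¹' F) := by
  intro x hx y hy z hz h1 h2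
  rcases h _ hx _ hy _ hz (h1.map hf.continuous) (h2.map hf.continuous) with h3 | h3
  · exact Or.inl (hi h3)
  · exact Or.inr (hi h3)

end top

variable {U B Z W : Scheme.{u}}

theorem thin_of_fibreDimAt (p : U ⟶ B) (t : B) (h : ∀ u, p u = t → FlatMor.fibreDimAt p u ≤ 1) :
    Thin (p ⁻¹' {t}) := by
  intro x hx y hy z hz h1 h2
  have hz' : p z = t := hz
  obtain ⟨O, hO, hzO, hd⟩ := Groth.Agent.LoccohB.FibreDim.exists_open_of_fibreDimAt_le p z 1
    (by simpa using h z hz')
  let P : Type u := ↥(p ⁻¹' {p z})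
  have hx' : x ∈ p ⁻¹' {p z} := by rw [hz']; exact hx
  have hy' : y ∈ p ⁻¹' {p z} := by rw [hz']; exact hy
  have h1' : (⟨x, hx'⟩ : P) ⤳ ⟨y, hy'⟩ := Topology.IsInducing.subtypeVal.specializes_iff.1 h1
  have h2' : (⟨y, hy'⟩ : P) ⤳ ⟨z, rfl⟩ := Topology.IsInducing.subtypeVal.specializes_iff.1 h2
  have hyO : (⟨y, hy'⟩ : P) ∈ O := h2'.mem_open hO hzO
  have hxO : (⟨x, hx'⟩ : P) ∈ O := h1'.mem_open hO hyO
  have h1'' : (⟨_, hxO⟩ : O) ⤳ ⟨_, hyO⟩ := Topology.IsInducing.subtypeVal.specializes_iff.1 h1'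
  have h2'' : (⟨_, hyO⟩ : O) ⤳ ⟨_, hzO⟩ := Topology.IsInducing.subtypeVal.specializes_iff.1 h2'
  rcases thin_of_dim_le_one (by exact_mod_cast hd) _ trivial _ trivial _ trivial h1'' h2'' with h3 | h3
  · exact Or.inl (congrArg (fun a : O => (a.1.1 : U)) h3)
  · exact Or.inr (congrArg (fun a : O => (a.1.1 : U)) h3)

theorem fiber_dim_le_one (p : U ⟶ B) (t : B) (h : Thin (p ⁻¹' {t})) : topologicalKrullDim (p.fiber t) ≤ 1 := by
  apply dim_le_one_of_thin
  intro x _ y _ z _ h1 h2
  have key : ∀ x : p.fiber t, p.fiberι t x ∈ p ⁻¹' {t} := fun x => by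
    rw [← p.range_fiberι t]
    exact ⟨x, rfl⟩
  rcases h _ (key x) _ (key y) _ (key z) (h1.map (p.fiberι t).continuous) (h2.map (p.fiberι t).continuous) with h3 | h3
  · exact Or.inl ((p.fiberι t).isEmbedding.injective h3)
  · exact Or.inr ((p.fiberι t).isEmbedding.injective h3)

theorem eq_of_specializes (f : U ⟶ B) [LocallyQuasiFinite f] (x x' : U)
    (h : x ⤳ x') (he : f x = f x') : x = x' := by
  have hd := f.isDiscrete_preimage_singleton (f x')
  have hdt := hd.to_subtype
  have ho : IsOpen ({⟨x', rfl⟩} : Set (f ⁻¹' {f x'})) := isOpen_discrete _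
  obtain ⟨V, hV, hVx⟩ := isOpen_induced_iff.mp ho
  have hx' : x' ∈ V := by
    have : (⟨x', rfl⟩ : f ⁻¹' {f x'}) ∈ Subtype.val ⁻¹' V := by rw [hVx]; rfl
    exact this
  have hx : x ∈ V := h.mem_open hV hx'
  have h1 : (⟨x, he⟩ : f ⁻¹' {f x'}) ∈ Subtype.val ⁻¹' V := hx
  rw [hVx] at h1
  exact congrArg Subtype.val h1

/-- thinness of fibres descends along a surjective etale map and goes up along a finite map -/
theorem thin_of_charts {pU : U ⟶ B} {pZ : Z ⟶ B} {q : W ⟶ U} {φ : W ⟶ Z} (hw : q ≫ pU = φ ≫ pZ)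
    [IsFinite q] [Etale φ] (hφ : Function.Surjective φ) (t : B) (h : Thin (pU ⁻¹' {t})) :
    Thin (pZ ⁻¹' {t}) := by
  have hpt : ∀ w : W, φ w ∈ pZ ⁻¹' {t} → q w ∈ pU ⁻¹' {t} := by
    intro w hw'
    change pU (q w) = t
    rw [← Scheme.Hom.comp_apply, hw, Scheme.Hom.comp_apply]
    exact hw'
  intro x hx y hy z hz h1 h2
  obtain ⟨w2, rfl⟩ := hφ z
  obtain ⟨w1, hw1, rfl⟩ := Flat.generalizingMap φ h2
  obtain ⟨w0, hw0, rfl⟩ := Flat.generalizingMap φ h1
  rcases h _ (hpt _ hx) _ (hpt _ hy) _ (hpt _ hz) (hw0.map q.continuous) (hw1.map q.continuous) with h3 | h3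
  · exact Or.inl (congrArg φ (eq_of_specializes q _ _ hw0 h3))
  · exact Or.inr (congrArg φ (eq_of_specializes q _ _ hw1 h3))

/-- closed points of fibres -/
theorem isClosed_asFiber {pU : U ⟶ B} {pZ : Z ⟶ B} {q : W ⟶ U} {φ : W ⟶ Z} (hw : q ≫ pU = φ ≫ pZ)
    [IsFinite q] [Etale φ] (w : W)
    (hcl : ∀ z : Z, pZ z = pZ (φ w) → φ w ⤳ z → z = φ w) :
    IsClosed ({pU.asFiber (q w)} : Set (pU.fiber (pU (q w)))) := by
  have : LocallyQuasiFinite φ := K610.ArtQuot.locallyQuasiFinite_of_etale φ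
  have key : ∀ u : U, pU u = pU (q w) → q w ⤳ u → u = q w := by
    intro u hu huw
    obtain ⟨w', hw', rfl⟩ := q.isClosedMap.specializingMap huw
    have h1 : φ w' = φ w := by
      refine hcl _ ?_ (hw'.map φ.continuous)
      rw [← Scheme.Hom.comp_apply, ← Scheme.Hom.comp_apply, ← hw, Scheme.Hom.comp_apply, Scheme.Hom.comp_apply, hu]
    rw [eq_of_specializes φ _ _ hw' h1.symm]
  refine isClosed_of_closure_subset fun x hx => ?_
  have h2 : pU.asFiber (q w) ⤳ x := specializes_iff_mem_closure.2 hx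
  have h3 := h2.map (pU.fiberι (pU (q w))).continuous
  rw [pU.fiberι_asFiber] at h3
  have h4 : pU.fiberι (pU (q w)) x ∈ pU ⁻¹' {pU (q w)} := by
    rw [← pU.range_fiberι]
    exact ⟨x, rfl⟩
  refine (pU.fiberι (pU (q w))).isEmbedding.injective ?_
  rw [pU.fiberι_asFiber]
  exact key _ h4 h3

end K899.ThinDim
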