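import Groth.Agent.CurvSt.K899.DivSat
import Groth.Agent.CurvSt.K899.ThinDim
import Groth.Agent.CurvSt.K899.ChartW
import Groth.Agent.AlgSp.K610.Base
import Groth.Agent.AlgSp.K616.DimInv
import Groth.Agent.AlgSp.K620.Dec
import Groth.Agent.S10374
import Groth.Agent.S10423

/-!
# Locally principal closed subspaces through a point of an algebraic space
-/

set_option autoImplicit false
universe u
open CategoryTheory CategoryTheory.Limits AlgebraicGeometry TopologicalSpace

namespace K899.SpPt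

open AlgSp K610.Base

variable {S : Scheme.{u}}

theorem isDecent {X : Space S} {B : Over S} (f : X.obj ⟶ (yon S).obj B) (hf : IsSeparatedMor f) :
    IsDecent X.obj := by
  have h1 : IsQuasiSeparatedMor f := repWith_mono (fun _ _ f (hf : IsClosedImmersion f) =>
    (inferInstance : QuasiCompact f)) hf
  let Y : Space S := ⟨(yon S).obj B, IsAlgSpace.yon_obj _⟩
  let f' : X ⟶ Y := ⟨f⟩
  exact K620.Dec.isDecent_of_isDecentMor f ((Groth.Agent.S10423.result f').2 h1) (K620.Dec.isDecent_yon B)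

/-- the base change of a map to a sheaf along a representable map, as maps of schemes -/
theorem exists_square {X : Sp S} {U Z : Over S} (a : (yon S).obj U ⟶ X) (z : (yon S).obj Z ⟶ X)
    (hz : Representable z) : ∃ (W : Over S) (q : W ⟶ U) (φ : W ⟶ Z),
      IsPullback ((yon S).map q) ((yon S).map φ) a z := by
  obtain ⟨W, q, φ, sq⟩ := hz a
  obtain ⟨φ, rfl⟩ := (yon S).map_surjective φ
  exact ⟨W, q, φ, sq.flip⟩

theorem repWith_id (B : Over S) : RepWith @Etale (𝟙 ((yon S).obj B)) := by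
  have h : RepWith @Etale ((yon S).map (𝟙 B)) :=
    (repWith_yon_map_iff _ _).2 (inferInstanceAs (Etale (𝟙 B.left)))
  rwa [(yon S).map_id B] at h

variable {X : Space S} {B U Z W R : Over S}

theorem locallyOfFiniteType {f : X.obj ⟶ (yon S).obj B} (hf : LocP @LocallyOfFiniteType f)
    {a : (yon S).obj U ⟶ X.obj} (ha : RepWith @Etale a) {pU : U ⟶ B} (hU : a ≫ f = (yon S).map pU) :
    LocallyOfFiniteType pU.left :=
  hf a (𝟙 _) pU ha (repWith_id B) (by rw [hU, Category.comp_id])

theorem fibreDimAt_le {f : X.obj ⟶ (yon S).obj B} (hf : LocP @LocallyOfFiniteType f)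
    {a : (yon S).obj U ⟶ X.obj} (ha : RepWith @Etale a) {pU : U ⟶ B} (hU : a ≫ f = (yon S).map pU) (t : B.left)
    (hdim : ∀ x : Points X.obj, Points.map f x = Points.ofScheme B t →
      HasAtMor (fun _ _ h u => FlatMor.fibreDimAt h u ≤ 1) f x) (u : U.left) (hu : pU.left u = t) :
    FlatMor.fibreDimAt pU.left u ≤ 1 := by
  have h1 := hdim (Points.ofPt a u) (by
    rw [← ofPt_comp, hU]
    have := Points.toScheme_ofPt pU u
    rw [← hu, ← this, Points.ofScheme_toScheme])
  exact (K616.Inv.hasAtMor_iff (K616.DimInv.etInvOn_fibreDimAt (fun d => d ≤ 1)) hf a (𝟙 _) pU ha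
    (repWith_id B) (by rw [hU, Category.comp_id]) u).1 h1

theorem exists_psi {a : (yon S).obj U ⟶ X.obj} {z : (yon S).obj Z ⟶ X.obj} {q : W ⟶ U} {φ : W ⟶ Z}
    (sq : IsPullback ((yon S).map q) ((yon S).map φ) a z) {r1 r2 : R ⟶ Z}
    (hr : (yon S).map r1 ≫ z = (yon S).map r2 ≫ z) :
    ∃ ψ : pullback φ.left r1.left ⟶ W.left, ψ ≫ q.left = pullback.fst φ.left r1.left ≫ q.left ∧
      ψ ≫ φ.left = pullback.snd φ.left r1.left ≫ r2.left := by
  let P : Over S := Over.mk (pullback.fst φ.left r1.left ≫ W.hom)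
  let p1 : P ⟶ W := Over.homMk (pullback.fst φ.left r1.left) rfl
  let p2 : P ⟶ R := Over.homMk (pullback.snd φ.left r1.left) (by
    change pullback.snd φ.left r1.left ≫ R.hom = pullback.fst φ.left r1.left ≫ W.hom
    rw [← Over.w r1, ← Over.w φ, ← pullback.condition_assoc])
  have hp : p1 ≫ φ = p2 ≫ r1 := by
    ext : 1
    exact pullback.condition
  obtain ⟨ψ, hψ⟩ := (yon S).map_surjective (sq.lift ((yon S).map (p1 ≫ q)) ((yon S).map (p2 ≫ r2)) (by
    rw [Functor.map_comp, Category.assoc, sq.w, ← Category.assoc, ← Functor.map_comp, hp, Functor.map_comp,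
      Category.assoc, hr, Functor.map_comp, Category.assoc]))
  have h1 : ψ ≫ q = p1 ≫ q := by
    apply (yon S).map_injective
    rw [Functor.map_comp, hψ, sq.lift_fst]
  have h2 : ψ ≫ φ = p2 ≫ r2 := by
    apply (yon S).map_injective
    rw [Functor.map_comp, hψ, sq.lift_snd]
  exact ⟨ψ.left, congrArg CommaMorphism.left h1, congrArg CommaMorphism.left h2⟩

open DivSat in
/-- The locally principal closed subspace through one point. -/
theorem exists_prpS [IsAffine B.left] {f : X.obj ⟶ (yon S).obj B} (hf : IsProperMor f)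
    {z : (yon S).obj Z ⟶ X.obj} (hz : RepWith @IsFinite z) {pZ : Z ⟶ B} (hZ : z ≫ f = (yon S).map pZ)
    {r1 r2 : R ⟶ Z} (hr : (yon S).map r1 ≫ z = (yon S).map r2 ≫ z) (hr' : r1.left ≫ pZ.left = r2.left ≫ pZ.left)
    [IsProper pZ.left] (t : B.left)
    (hdim : ∀ x : Points X.obj, Points.map f x = Points.ofScheme B t →
      HasAtMor (fun _ _ h u => FlatMor.fibreDimAt h u ≤ 1) f x)
    (y : Z.left) (hy : pZ.left y = t) (hcl : ∀ z : Z.left, pZ.left z = t → y ⤳ z → z = y) :
    ∃ (B' : Scheme.{u}) (π : B' ⟶ B.left) (b' : B'), Hens2.IsEtaleNbhd π b' t ∧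
      PrpS pZ.left r1.left r2.left hr' {y' | Points.ofPt z y' = Points.ofPt z y} π b' := by
  obtain ⟨U, a, u, hUa, ⟨ha, hau, hmono⟩, -⟩ := Groth.Agent.S10374.result X (isDecent f hf.1) (Points.ofPt z y)
  obtain ⟨W, q, φ, sq⟩ := exists_square a z hz.1
  obtain ⟨pU, hU⟩ := (yon S).map_surjective (a ≫ f)
  have hw' := ChartW.comm sq hU.symm hZ
  have hw : q.left ≫ pU.left = φ.left ≫ pZ.left := congrArg CommaMorphism.left hw'
  obtain ⟨w, hwu, hwy⟩ := exists_of_isPullback_charts sq u y hau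
  have h1 : IsClosedImmersion (pullback.lift q.left φ.left hw) := ChartW.isClosedImmersion_lift sq hU.symm hZ hf.1 hw
  have h2 : Etale φ.left := ChartW.etale_φ sq ha
  have h3 : IsFinite q.left := ChartW.isFinite_q sq hz
  have h4 : LocallyOfFiniteType pU.left := locallyOfFiniteType hf.2.1.1 ha hU.symm
  have h5 : IsSeparated pU.left := inferInstance
  have hut : pU.left u = t := by
    rw [← hwu, ← Scheme.Hom.comp_apply, hw, Scheme.Hom.comp_apply, hwy, hy]
  have h6 : IsClosed ({pU.left.asFiber u} : Set (pU.left.fiber (pU.left u))) := by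
    rw [← hwu]
    refine ThinDim.isClosed_asFiber hw w fun z' hz' hs => ?_
    rw [hwy] at hz' hs ⊢
    exact hcl z' (hz'.trans hy) hs
  have h7 : topologicalKrullDim (pU.left.fiber (pU.left u)) ≤ 1 := by
    rw [hut]
    exact ThinDim.fiber_dim_le_one _ _ (ThinDim.thin_of_fibreDimAt _ _ fun v hv =>
      fibreDimAt_le hf.2.1.1 ha hU.symm t hdim v hv)
  obtain ⟨D, i, hi, v, hiK, hiv, hqf⟩ := QFDiv.exists_divisor pU.left u h6 h7
  have h8 : DivCore.MonoAt q.left φ.left (i v) := by
    rw [hiv]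
    exact ChartW.monoAt sq u hmono
  obtain ⟨B', π, b', -, hb', hP⟩ := DivCore.exists_prp hw i hiK v hqf h8
  rw [hiv, hut] at hb'
  rw [hiv] at hP
  obtain ⟨ψ, hψ1, hψ2⟩ := exists_psi sq hr
  refine ⟨B', π, b', hb', (of_prp hP ψ hψ1 hψ2).congr fun y' _ => ?_⟩
  constructor
  · rintro ⟨w', rfl, hw'u⟩
    change Points.ofPt z (φ.left w') = _
    rw [← ofPt_map_comp, ← sq.w, ofPt_map_comp, hw'u, hau]
  · intro hy'
    have hy'' : Points.ofPt z y' = Points.ofPt z y := hy'
    obtain ⟨w', h1, h2⟩ := exists_of_isPullback_charts sq u y' (hau.trans hy''.symm)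
    exact ⟨w', h2, h1⟩

end K899.SpPt
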