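import Groth.Agent.CurvSt.K899.SpPt
import Groth.Agent.CurvSt.K899.PtChoice

/-!
# Two disjoint locally principal closed subspaces meeting every curve of a fibre
-/

set_option autoImplicit false
universe u
open CategoryTheory CategoryTheory.Limits AlgebraicGeometry TopologicalSpace

namespace K899.SpTwo

open AlgSp K610.Base DivSat PtChoice

variable {S : Scheme.{u}} {X : Space S} {B Z R : Over S}

/-- A finite morphism from a scheme has finite fibres on points. -/
theorem finite_fibre {z : (yon S).obj Z ⟶ X.obj} (hz : RepWith @IsFinite z) (x : Points X.obj) :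
    {y : Z.left | Points.ofPt z y = x}.Finite := by
  obtain ⟨U, a, u, ha, hau⟩ := K616.Inv.exists_chart X.2 x
  obtain ⟨W, q, φ, sq⟩ := SpPt.exists_square a z hz.1
  have h3 : IsFinite q.left := ChartW.isFinite_q sq hz
  refine ((IsFinite.finite_preimage_singleton q.left u).image φ.left).subset fun y hy => ?_
  obtain ⟨w, h1, h2⟩ := exists_of_isPullback_charts sq u y (hau.trans (show Points.ofPt z y = x from hy).symm)
  exact ⟨w, h1, h2⟩

theorem thin_fibre {f : X.obj ⟶ (yon S).obj B} (hf : LocP @LocallyOfFiniteType f)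
    {z : (yon S).obj Z ⟶ X.obj} (hz : RepWith @IsFinite z) {pZ : Z ⟶ B} (hZ : z ≫ f = (yon S).map pZ) (t : B.left)
    (hdim : ∀ x : Points X.obj, Points.map f x = Points.ofScheme B t →
      HasAtMor (fun _ _ h u => FlatMor.fibreDimAt h u ≤ 1) f x) : ThinDim.Thin (pZ.left ⁻¹' {t}) := by
  obtain ⟨U, a, ha, has⟩ := X.2.atlas
  obtain ⟨W, q, φ, sq⟩ := SpPt.exists_square a z hz.1
  obtain ⟨pU, hU⟩ := (yon S).map_surjective (a ≫ f)
  have hw' := ChartW.comm sq hU.symm hZ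
  have hw : q.left ≫ pU.left = φ.left ≫ pZ.left := congrArg CommaMorphism.left hw'
  have h2 : Etale φ.left := ChartW.etale_φ sq ha
  have h3 : IsFinite q.left := ChartW.isFinite_q sq hz
  have h4 : Surjective φ.left := has.2 _ _ _ sq
  exact ThinDim.thin_of_charts hw h4.surj t (ThinDim.thin_of_fibreDimAt _ _ fun v hv =>
      SpPt.fibreDimAt_le hf ha hU.symm t hdim v hv)

theorem exists_pair [IsAffine B.left] {f : X.obj ⟶ (yon S).obj B} (hf : IsProperMor f)
    {z : (yon S).obj Z ⟶ X.obj} (hz : RepWith @IsFinite z) {pZ : Z ⟶ B} (hZ : z ≫ f = (yon S).map pZ)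
    {r1 r2 : R ⟶ Z} (hr : (yon S).map r1 ≫ z = (yon S).map r2 ≫ z) (hr' : r1.left ≫ pZ.left = r2.left ≫ pZ.left)
    [IsProper pZ.left] (t : B.left)
    (hdim : ∀ x : Points X.obj, Points.map f x = Points.ofScheme B t →
      HasAtMor (fun _ _ h u => FlatMor.fibreDimAt h u ≤ 1) f x) :
    ∃ (B' : Scheme.{u}) (π : B' ⟶ B.left) (b' : B') (G1 G2 : Set Z.left), Hens2.IsEtaleNbhd π b' t ∧
      PrpS pZ.left r1.left r2.left hr' G1 π b' ∧ PrpS pZ.left r1.left r2.left hr' G2 π b' ∧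
      (∀ y, ¬ (y ∈ G1 ∧ y ∈ G2)) ∧
      ∀ C ∈ Curves (pZ.left.fiber t), (∃ y ∈ C, pZ.left.fiberι t y ∈ G1) ∧ (∃ y ∈ C, pZ.left.fiberι t y ∈ G2) ∧
        (∃ y ∈ C, pZ.left.fiberι t y ∉ G1) ∧ (∃ y ∈ C, pZ.left.fiberι t y ∉ G2) := by
  let F := pZ.left.fiber t
  let ι : F ⟶ Z.left := pZ.left.fiberι t
  let x : F → Points X.obj := fun y => Points.ofPt z (ι y)
  have : LocallyOfFiniteType (pZ.left.fiberToSpecResidueField t) :=
    inferInstanceAs (LocallyOfFiniteType (pullback.snd pZ.left _))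
  have : QuasiCompact (pZ.left.fiberToSpecResidueField t) :=
    inferInstanceAs (QuasiCompact (pullback.snd pZ.left _))
  have : IsLocallyNoetherian F := LocallyOfFiniteType.isLocallyNoetherian (pZ.left.fiberToSpecResidueField t)
  have : CompactSpace F := QuasiCompact.compactSpace_of_compactSpace (pZ.left.fiberToSpecResidueField t)
  have : IsNoetherian F := {}
  have : JacobsonSpace F := LocallyOfFiniteType.jacobsonSpace (pZ.left.fiberToSpecResidueField t)
  have hdimF : topologicalKrullDim F ≤ 1 :=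
    ThinDim.fiber_dim_le_one _ _ (thin_fibre hf.2.1.1 hz hZ t hdim)
  obtain ⟨G1, G2, hG1, hG2, hc1, hc2, hd, hC⟩ := exists_sets hdimF x (fun p => by
    refine Set.Finite.preimage (f := ι) (ι.isEmbedding.injective.injOn) (finite_fibre hz p))
  have key : ∀ y : F, IsClosed ({y} : Set F) → ∃ (B' : Scheme.{u}) (π : B' ⟶ B.left) (b' : B'),
      Hens2.IsEtaleNbhd π b' t ∧
      PrpS pZ.left r1.left r2.left hr' {y' | Points.ofPt z y' = x y} π b' := by
    intro y hy
    have hran : ∀ y : F, pZ.left (ι y) = t := fun y => by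
      have : ι y ∈ pZ.left ⁻¹' {t} := by
        rw [← pZ.left.range_fiberι t]
        exact ⟨y, rfl⟩
      exact this
    refine SpPt.exists_prpS hf hz hZ hr hr' t hdim (ι y) (hran y) fun z' hz' hs => ?_
    have h1 : z' ∈ Set.range ι := by
      change z' ∈ Set.range (pZ.left.fiberι t)
      rw [pZ.left.range_fiberι t]
      exact hz'
    obtain ⟨z'', rfl⟩ := h1
    have h2 : y ⤳ z'' := ι.isEmbedding.isInducing.specializes_iff.1 hs
    have h3 : z'' ∈ closure {y} := specializes_iff_mem_closure.1 h2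
    rw [hy.closure_eq] at h3
    rw [show z'' = y from h3]
  obtain ⟨B1, π1, b1, hn1, hp1⟩ := exists_biUnion (pZ := pZ.left) (r1 := r1.left) (r2 := r2.left) (hr := hr')
    hG1.toFinset (fun y => {y' : Z.left | Points.ofPt z y' = x y}) t (fun y hy => key y (hc1 y (hG1.mem_toFinset.1 hy)))
  obtain ⟨B2, π2, b2, hn2, hp2⟩ := exists_biUnion (pZ := pZ.left) (r1 := r1.left) (r2 := r2.left) (hr := hr')
    hG2.toFinset (fun y => {y' : Z.left | Points.ofPt z y' = x y}) t (fun y hy => key y (hc2 y (hG2.mem_toFinset.1 hy)))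
  obtain ⟨B3, h1, h2, b3, hc, hn3, hn4⟩ := Groth.Agent.Grpsch.EtLoc.exists_common_refinement hn1 hn2
  have h5 := hp1.baseChange h1 b3 hn3.base_eq
  have h6 := hp2.baseChange h2 b3 hn4.base_eq
  rw [← hc] at h6
  refine ⟨B3, h1 ≫ π1, b3, _, _, Groth.Agent.Grpsch.EtLoc.IsEtaleNbhd.comp hn3 hn1, h5, h6, ?_, fun C hCC => ?_⟩
  · rintro y ⟨hy1, hy2⟩
    simp only [Set.mem_iUnion, Set.Finite.mem_toFinset, Set.mem_setOf_eq, exists_prop] at hy1 hy2
    obtain ⟨y1, hy1, h1'⟩ := hy1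
    obtain ⟨y2, hy2, h2'⟩ := hy2
    exact hd y1 hy1 y2 hy2 (h1'.symm.trans h2')
  · obtain ⟨⟨y1, hy1, h1'⟩, ⟨y2, hy2, h2'⟩, ⟨y3, hy3, h3'⟩, ⟨y4, hy4, h4'⟩⟩ := hC C hCC
    simp only [Set.mem_iUnion, Set.Finite.mem_toFinset, Set.mem_setOf_eq, exists_prop]
    refine ⟨⟨y1, hy1, y1, h1', rfl⟩, ⟨y2, hy2, y2, h2', rfl⟩, ⟨y3, hy3, ?_⟩, ⟨y4, hy4, ?_⟩⟩
    · rintro ⟨y, hy, h⟩
      exact h3' ⟨y, hy, h.symm⟩
    · rintro ⟨y, hy, h⟩
      exact h4' ⟨y, hy, h.symm⟩

end K899.SpTwo
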